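import Cfsg.Agent.Lib.KnownA.ClassNumberForm.Numeric
import Cfsg.Agent.Lib.Classical.SympMatrix
import Cfsg.Agent.Lib.Involution.SpSemisimpleCount

/-!
# The class number of the symplectic group in odd characteristic
-/

set_option autoImplicit false
set_option linter.unusedSectionVars false

namespace CfsgLib.ClassNumberForm

open Finset CfsgLib.Classical

variable {F : Type*} [Field F] [Fintype F]

theorem two_ne_zero_of_odd (hodd : Odd (Fintype.card F)) : (2 : F) ≠ 0 := by
  intro h
  have h2 : ringChar F = 2 := by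
    refine ((Nat.dvd_prime Nat.prime_two).1 ((ringChar.spec F 2).1 (by exact_mod_cast h))).resolve_left ?_
    have := ringChar.charP F
    exact CharP.ringChar_ne_one
  exact Nat.not_even_iff_odd.2 hodd (Nat.even_iff.2 (FiniteField.even_card_of_char_two h2))

theorem single_neg_one_iff (h2 : (2 : F) ≠ 0) (i : ℕ) : Single (-1 : F) (i + 1) ↔ Odd i := by
  rw [Single, Nat.add_sub_cancel]
  rcases Nat.even_or_odd i with h | h
  · rw [h.neg_one_pow]
    exact iff_of_false (fun h' => h2 (by linear_combination -h')) (Nat.not_odd_iff_even.2 h)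
  · rw [h.neg_one_pow]
    exact iff_of_true (by ring) h

theorem prod_range_double (y : ℕ → ℚ) : ∀ n : ℕ,
    ∏ i ∈ range (n + n), (1 + if i % 2 = 1 then y ((i + 1) / 2) else 0) ^ 4 =
      ∏ j ∈ range n, (1 + y (j + 1)) ^ 4
  | 0 => rfl
  | n + 1 => by
    rw [show n + 1 + (n + 1) = n + n + 1 + 1 by omega, Finset.prod_range_succ, Finset.prod_range_succ,
      prod_range_double y n, Finset.prod_range_succ, if_neg (by omega), if_pos (by omega),
      show (n + n + 1 + 1) / 2 = n + 1 by omega]
    ring

theorem card_classes_isom_le {n : ℕ} (hn : 1 ≤ n) (hodd : Odd (Fintype.card F))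
    {B : (Fin (n + n) → F) →ₗ[F] (Fin (n + n) → F) →ₗ[F] F} (hB : IsEta B (-1))
    (hN : ∀ v, (∀ u, B u v = 0) → v = 0) :
    5 * Nat.card (ConjClasses (isomGroup B)) ≤ 54 * Fintype.card F ^ n := by
  classical
  have h2 := two_ne_zero_of_odd hodd
  set q := Fintype.card F with hq
  have hq3 : 3 ≤ q := by
    have h1 : 1 < q := Fintype.one_lt_card
    obtain ⟨r, hr⟩ := hodd
    omega
  set x : ℚ := (q : ℚ)⁻¹ with hx
  have hqpos : (0 : ℚ) < q := by exact_mod_cast (by omega : 0 < q)
  have hx0 : 0 ≤ x := by positivity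
  have hx3 : x ≤ 1 / 3 := by
    rw [hx, one_div]
    exact inv_anti₀ (by norm_num) (by exact_mod_cast hq3)
  obtain ⟨m, hm⟩ : ∃ m, n + n = m + 1 := ⟨n + n - 1, by omega⟩
  set K := cK x (m + 1)
  have hK : 0 ≤ K := (cK_pos hx0 (by linarith) _).le
  let w : Fin (n + n) → ℚ := fun i => if (i : ℕ) % 2 = 1 then x ^ (((i : ℕ) + 1) / 2) else 0
  have hw0 : ∀ i, 0 ≤ w i := fun i => by simp only [w]; split_ifs <;> positivity
  have hterm : ∀ S : Fin (n + n) → Fin 4 → Bool, ValidS (-1 : F) S →
      (cntP q (n + n) ((n + n - wtS S) / 2) : ℚ) ≤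
        K * (q : ℚ) ^ n * ∏ i, w i ^ (univ.filter fun k => S i k = true).card := by
    rintro S ⟨hle, -, hS⟩
    set h := ∑ i : Fin (n + n), ((i : ℕ) + 1) / 2 * (univ.filter fun k => S i k = true).card
    have hwt : wtS S = 2 * h := by
      rw [wtS, Finset.mul_sum]
      refine Finset.sum_congr rfl fun i _ => ?_
      rcases Nat.eq_zero_or_pos (univ.filter fun k => S i k = true).card with h0 | h0
      · rw [h0, mul_zero, mul_zero, mul_zero]
      · obtain ⟨k, hk⟩ := Finset.card_pos.1 h0
        obtain ⟨r, hr⟩ := (single_neg_one_iff h2 _).1 (hS i k (Finset.mem_filter.1 hk).2)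
        rw [← mul_assoc, show ((i : ℕ) + 1) / 2 = r + 1 by omega, hr]
        ring
    have hprod : ∏ i, w i ^ (univ.filter fun k => S i k = true).card = x ^ h := by
      rw [← Finset.prod_pow_eq_pow_sum]
      refine Finset.prod_congr rfl fun i _ => ?_
      rcases Nat.eq_zero_or_pos (univ.filter fun k => S i k = true).card with h0 | h0
      · rw [h0, pow_zero, mul_zero, pow_zero]
      · obtain ⟨k, hk⟩ := Finset.card_pos.1 h0
        have := (single_neg_one_iff h2 _).1 (hS i k (Finset.mem_filter.1 hk).2)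
        simp only [w, if_pos (Nat.odd_iff.1 this), ← pow_mul]
    have hbound := cntP_le (q := q) (by omega) m (n - h)
    rw [show (n + n - wtS S) / 2 = n - h by omega, hprod,
      show cntP q (n + n) (n - h) = cntP q (m + 1) (n - h) from congrArg (fun t => cntP q t (n - h)) hm]
    refine hbound.trans (le_of_eq ?_)
    obtain ⟨r, hr⟩ : ∃ r, n = r + h := ⟨n - h, by omega⟩
    rw [show n - h = r by omega, hr, pow_add, hx, inv_pow]
    simp only [K, hx]
    field_simp
  have hsum : (Nat.card (ConjClasses (isomGroup B)) : ℚ) ≤ 54 / 5 * (q : ℚ) ^ n := by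
    refine (Nat.cast_le.2 (card_classes_le h2 (Or.inr rfl) hB hN)).trans ?_
    rw [Nat.cast_sum]
    refine (Finset.sum_le_sum fun S hS => hterm S (Finset.mem_filter.1 hS).2).trans ?_
    refine (Finset.sum_le_sum_of_subset_of_nonneg (Finset.subset_univ _) fun S _ _ =>
      mul_nonneg (mul_nonneg hK (by positivity)) (Finset.prod_nonneg fun i _ => pow_nonneg (hw0 i) _)).trans ?_
    rw [← Finset.mul_sum]
    simp only [← prod_config_eq]
    rw [sum_config_eq, Fin.prod_univ_eq_prod_range
      (fun i => (1 + if i % 2 = 1 then x ^ ((i + 1) / 2) else 0) ^ 4) (n + n), prod_range_double (fun j => x ^ j) n,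
      mul_right_comm]
    exact mul_le_mul_of_nonneg_right (cK_mul_le hx0 hx3 m (by omega)) (by positivity)
  have : (5 : ℚ) * Nat.card (ConjClasses (isomGroup B)) ≤ 54 * (q : ℚ) ^ n := by linarith
  exact_mod_cast this

theorem card_conjClasses_congr {G H : Type*} [Group G] [Group H] (e : G ≃* H) :
    Nat.card (ConjClasses G) = Nat.card (ConjClasses H) := by
  refine Nat.card_congr (Equiv.ofBijective (ConjClasses.map e.toMonoidHom) ⟨?_, ?_⟩)
  · intro a b h
    obtain ⟨a, rfl⟩ := a.exists_rep
    obtain ⟨b, rfl⟩ := b.exists_rep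
    obtain ⟨c, hc⟩ := isConj_iff.1 (ConjClasses.mk_eq_mk_iff_isConj.1 h)
    refine ConjClasses.mk_eq_mk_iff_isConj.2 (isConj_iff.2 ⟨e.symm c, e.injective ?_⟩)
    simpa using hc
  · exact ConjClasses.map_surjective e.surjective

/-- The class number bounds for `Sp(2n, q)`, `q` odd. -/
theorem symplectic_bounds (hodd : Odd (Fintype.card F)) (n : ℕ) (hn : 1 ≤ n) :
    Fintype.card F ^ n ≤ Nat.card (ConjClasses (Matrix.symplecticGroup (Fin n) F)) ∧
      5 * Nat.card (ConjClasses (Matrix.symplecticGroup (Fin n) F)) ≤ 54 * Fintype.card F ^ n := by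
  classical
  constructor
  · let em : {Q : Polynomial F // Q.Monic ∧ Q.natDegree = n} ≃ (Fin n → F) :=
      (Polynomial.monicEquivDegreeLT n).trans (Polynomial.degreeLTEquiv F n).toEquiv
    choose g hg using fun Q : {Q : Polynomial F // Q.Monic ∧ Q.natDegree = n} =>
      CfsgLib.Involution.SpSemisimple.exists_symplectic_charpoly Q.2.1 Q.2.2
    have hinj : Function.Injective (fun a => ConjClasses.mk (g (em.symm a))) := by
      intro a a' h
      obtain ⟨c, hc⟩ := isConj_iff.1 (ConjClasses.mk_eq_mk_iff_isConj.1 h)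
      refine em.symm.injective (Subtype.ext
        (CfsgLib.Involution.SpSemisimple.sum_injective (em.symm a).2.2.le (em.symm a').2.2.le ?_))
      rw [← hg, ← hg, ← hc, Submonoid.coe_mul, Submonoid.coe_mul, Matrix.charpoly_mul_comm,
        ← Matrix.mul_assoc, sp_inv_mul, Matrix.one_mul]
    refine le_trans (le_of_eq ?_) (Nat.card_le_card_of_injective _ hinj)
    rw [Nat.card_eq_fintype_card, Fintype.card_fun, Fintype.card_fin]
  · let E : (Fin (n + n) → F) ≃ₗ[F] (Fin n ⊕ Fin n → F) := LinearEquiv.funCongrLeft F F finSumFinEquiv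
    let B := (sympBil F n).compl₁₂ E.toLinearMap E.toLinearMap
    have hB : IsEta B (-1) := fun u v => by
      rw [neg_one_mul]
      exact ((sympBil_isAlt n).neg (E u) (E v)).symm
    have hN : ∀ v, (∀ u, B u v = 0) → v = 0 := fun v hv => E.injective
      (((sympBil_nondegenerate n).2 _ fun u => by
        obtain ⟨u, rfl⟩ := E.surjective u
        exact hv u).trans (map_zero E).symm)
    rw [card_conjClasses_congr ((spEquiv n).trans
      (isomGroupCongr (B := B) (B' := sympBil F n) E fun u v => rfl).symm)]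
    exact card_classes_isom_le hn hodd hB hN

end CfsgLib.ClassNumberForm
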