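import Cfsg.Agent.Lib.KnownA.ClassNumberForm.Eigen
import Cfsg.Agent.Lib.KnownA.ClassNumberSU.Model

/-!
# Classes of an isometry group are determined by tuples and signs
-/

set_option autoImplicit false
set_option linter.unusedSectionVars false

namespace CfsgLib.ClassNumberForm

open Polynomial Finset Module CfsgLib.Classical CfsgLib.ClassNumberGL CfsgLib.ClassNumberSL

attribute [local instance] CfsgLib.ClassNumberGL.Decomp.fι

variable {F : Type*} [Field F]

/-- The monic polynomial whose roots are the inverses of the roots. -/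
noncomputable abbrev star1 (P : F[X]) : F[X] := ClassNumberSU.star (RingHom.id F) P

/-- A monic polynomial with non-zero constant coefficient that equals its reciprocal. -/
def Good1 (P : F[X]) : Prop := P.Monic ∧ P.coeff 0 ≠ 0 ∧ star1 P = P

theorem star1_star1 {P : F[X]} (hP : P.Monic) (h0 : P.coeff 0 ≠ 0) : star1 (star1 P) = P := by
  ext j
  rcases le_or_gt j P.natDegree with hj | hj
  · rw [ClassNumberSU.coeff_star (by rwa [ClassNumberSU.natDegree_star h0]), ClassNumberSU.natDegree_star h0,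
      ClassNumberSU.coeff_zero_star hP, ClassNumberSU.coeff_star (Nat.sub_le _ _), Nat.sub_sub_self hj,
      RingHom.id_apply, RingHom.id_apply, RingHom.id_apply, RingHom.id_apply, inv_inv, ← mul_assoc,
      mul_inv_cancel₀ h0, one_mul]
  · rw [coeff_eq_zero_of_natDegree_lt hj, coeff_eq_zero_of_natDegree_lt]
    rwa [ClassNumberSU.natDegree_star (ClassNumberSU.coeff_zero_star_ne hP h0), ClassNumberSU.natDegree_star h0]

theorem irreducible_star1 {P : F[X]} (hP : P.Monic) (h0 : P.coeff 0 ≠ 0) (hi : Irreducible P) :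
    Irreducible (star1 P) := by
  have hm : (star1 P).Monic := ClassNumberSU.monic_star h0
  refine hm.irreducible_iff_natDegree.2 ⟨fun h => ?_, fun f g hf hg hfg => ?_⟩
  · have := hi.natDegree_pos
    rw [← ClassNumberSU.natDegree_star (σ := RingHom.id F) h0, show ClassNumberSU.star _ P = 1 from h,
      natDegree_one] at this
    exact lt_irrefl 0 this
  have hfg0 : (f * g).coeff 0 ≠ 0 := by rw [hfg]; exact ClassNumberSU.coeff_zero_star_ne hP h0
  rw [mul_coeff_zero] at hfg0
  have hf0 := left_ne_zero_of_mul hfg0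
  have hg0 := right_ne_zero_of_mul hfg0
  have h : star1 (f * g) = P := by rw [hfg]; exact star1_star1 hP h0
  rw [star1, ClassNumberSU.star_mul] at h
  rcases (hP.irreducible_iff_natDegree.1 hi).2 _ _
    (ClassNumberSU.monic_star hf0) (ClassNumberSU.monic_star hg0) h with hd | hd
  · exact Or.inl (by rwa [ClassNumberSU.natDegree_star hf0] at hd)
  · exact Or.inr (by rwa [ClassNumberSU.natDegree_star hg0] at hd)

variable {N : ℕ} {B : (Fin N → F) →ₗ[F] (Fin N → F) →ₗ[F] F} {η ν : F}

/-- The matrix of an isometry. -/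
noncomputable def matOf (g : isomGroup B) : Matrix (Fin N) (Fin N) F := LinearMap.toMatrix' g.1.toLinearMap

theorem matOf_apply (g : isomGroup B) (v : Fin N → F) : Matrix.toLin' (matOf g) v = g.1 v := by
  rw [matOf, Matrix.toLin'_toMatrix']
  rfl

theorem matOf_toLin (g : isomGroup B) : Matrix.toLin' (matOf g) = g.1.toLinearMap :=
  Matrix.toLin'_toMatrix' _

theorem isUnit_matOf (g : isomGroup B) : IsUnit (matOf g) :=
  Matrix.mulVec_injective_iff_isUnit.1 fun v w h => g.1.injective (by
    rw [← matOf_apply, ← matOf_apply]; exact h)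

variable [Fintype F]

theorem natCard_ker_eq (g : isomGroup B) (r : F[X]) :
    Nat.card {v : Fin N → F // aeval (Matrix.toLin' (matOf g)) r v = 0} =
      Fintype.card F ^ finrank F (LinearMap.ker (aeval (Matrix.toLin' (matOf g)) r)) := by
  rw [← Nat.card_eq_fintype_card (α := F),
    ← Module.natCard_eq_pow_finrank (K := F) (V := LinearMap.ker (aeval (Matrix.toLin' (matOf g)) r))]
  exact Nat.card_congr (Equiv.refl _)

theorem star_tup (hN : ∀ v, (∀ u, B u v = 0) → v = 0) (g : isomGroup B) (D : Decomp (matOf g)) (i : Fin N) :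
    star1 (tup D i) = tup D i := by
  classical
  have h0 := fun j => decomp_coeff_zero (isUnit_matOf g) D j
  have hS : ∀ j₀ k, ∑ j ∈ univ.filter (fun j => D.p j = star1 (D.p j₀)), min k (D.e j) =
      ∑ j ∈ univ.filter (fun j => D.p j = D.p j₀), min k (D.e j) := by
    intro j₀ k
    have hxy : Matrix.toLin' (matOf g) * g.1.symm.toLinearMap = 1 :=
      LinearMap.ext fun v => (matOf_apply g _).trans (g.1.apply_symm_apply v)
    have hyx : g.1.symm.toLinearMap * Matrix.toLin' (matOf g) = 1 :=
      LinearMap.ext fun v => (congrArg g.1.symm (matOf_apply g v)).trans (g.1.symm_apply_apply v)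
    have hx : ∀ u v, B (Matrix.toLin' (matOf g) u) (Matrix.toLin' (matOf g) v) = B u v := fun u v => by
      rw [matOf_apply, matOf_apply]; exact g.2 u v
    have hc : ((D.p j₀ ^ k)).coeff 0 ≠ 0 := by
      rw [ClassNumberSU.coeff_zero_pow]; exact pow_ne_zero _ (h0 j₀)
    have h1 := ClassNumberSU.finrank_ker_le_star (B := B) hN _ _ hxy hyx hx hc
    have h2 := ClassNumberSU.finrank_ker_le_star (B := B) hN _ _ hxy hyx hx
      (ClassNumberSU.coeff_zero_star_ne (σ := RingHom.id F) ((D.monic j₀).pow k) hc)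
    rw [show ClassNumberSU.star _ (ClassNumberSU.star (RingHom.id F) (D.p j₀ ^ k)) = D.p j₀ ^ k from
      star1_star1 ((D.monic j₀).pow k) hc] at h2
    have h3 := congrArg (fun t => Fintype.card F ^ t) (le_antisymm h1 h2)
    simp only [← natCard_ker_eq, ClassNumberSU.star_pow] at h3
    rw [natCard_ker_decomp D (D.monic j₀) (D.irr j₀), natCard_ker_decomp D (ClassNumberSU.monic_star (h0 j₀))
      (irreducible_star1 (D.monic j₀) (h0 j₀) (D.irr j₀)), ClassNumberSU.natDegree_star (h0 j₀)] at h3
    exact Nat.eq_of_mul_eq_mul_left (D.irr j₀).natDegree_pos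
      (Nat.pow_right_injective Fintype.one_lt_card h3).symm
  obtain ⟨π, h1, h2, -⟩ := ClassNumberSU.exists_involution (fun j => (D.e j, D.p j)) (fun c => (c.1, star1 c.2))
    (fun j => by simp only [star1_star1 (D.monic j) (h0 j)]) (fun j₀ => by
      simp only [Nat.card_eq_fintype_card, Fintype.card_subtype]
      obtain ⟨t, ht⟩ : ∃ t, D.e j₀ = t + 1 := ⟨D.e j₀ - 1, by have := D.pos j₀; omega⟩
      have c1 := ClassNumberSU.sum_min_count D.e D.p (star1 (D.p j₀)) t
      have c2 := ClassNumberSU.sum_min_count D.e D.p (D.p j₀) t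
      rw [hS, hS, hS] at c1
      rw [ht]
      omega)
  have hp : ∀ j, D.p (π j) = star1 (D.p j) := fun j => congrArg Prod.snd (h2 j)
  have he : ∀ j, D.e (π j) = D.e j := fun j => congrArg Prod.fst (h2 j)
  rw [tup, star1, ClassNumberSU.star_prod]
  refine Finset.prod_nbij' π π (fun j hj => ?_) (fun j hj => ?_) (fun j _ => h1 j) (fun j _ => h1 j)
    (fun j _ => (hp j).symm) <;>
  simpa [he] using hj

theorem count_roots_irr {p : F[X]} (hp : p.Monic) (hi : Irreducible p) (c : F) [Decidable (p = X - C c)]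
    [DecidableEq F] : p.roots.count c = if p = X - C c then 1 else 0 := by
  split_ifs with h
  · rw [h, roots_X_sub_C, Multiset.count_singleton_self]
  · rw [Multiset.count_eq_zero, mem_roots hp.ne_zero]
    intro hr
    obtain ⟨r, hr'⟩ := dvd_iff_isRoot.2 hr
    have hu := (hi.isUnit_or_isUnit hr').resolve_left (not_isUnit_X_sub_C c)
    have hr1 : r.Monic := by
      have := hp
      rw [hr'] at this
      exact (monic_X_sub_C c).of_mul_monic_left this
    exact h (by rw [hr', hr1.eq_one_of_isUnit hu, mul_one])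

theorem rootMultiplicity_tup (g : isomGroup B) (D : IsoData B η ν g.1) {c : F} (hc : c = 1 ∨ c = -1)
    (E : Decomp (matOf g)) (i : Fin N) : (tup E i).rootMultiplicity c = (famOf D hc).mult ((i : ℕ) + 1) := by
  classical
  have hcnt : (tup E i).rootMultiplicity c =
      (univ.filter fun j => (E.e j, E.p j) = ((i : ℕ) + 1, X - C c)).card := by
    rw [← count_roots, tup, roots_prod _ _ (Finset.prod_ne_zero_iff.2 fun j _ => (E.monic j).ne_zero),
      Multiset.count_bind]
    show ∑ j ∈ univ.filter (fun j => E.e j = (i : ℕ) + 1), (E.p j).roots.count c = _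
    rw [Finset.sum_congr rfl fun j _ => count_roots_irr (E.monic j) (E.irr j) c, Finset.sum_filter,
      Finset.card_filter]
    refine Finset.sum_congr rfl fun j _ => ?_
    simp only [Prod.mk.injEq, ← ite_and]
  have hev : ∀ k, aeval (Matrix.toLin' (matOf g)) ((X - C c) ^ k : F[X]) = shiftBy g.1 c ^ k := fun k => by
    rw [map_pow, map_sub, aeval_X, aeval_C, Algebra.algebraMap_eq_smul_one, matOf_toLin]
    rfl
  have hk : ∀ k, ∑ j ∈ univ.filter (fun j => E.p j = X - C c), min k (E.e j) =
      finrank F (LinearMap.ker (shiftBy g.1 c ^ k)) := by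
    intro k
    have h := natCard_ker_eq g ((X - C c) ^ k)
    rw [natCard_ker_decomp E (monic_X_sub_C c) (irreducible_X_sub_C c), natDegree_X_sub_C, one_mul, hev] at h
    exact Nat.pow_right_injective Fintype.one_lt_card h
  have c1 := ClassNumberSU.sum_min_count E.e E.p (X - C c) (i : ℕ)
  have c2 := mult_ker D hc (i : ℕ)
  rw [hk, hk, hk] at c1
  omega

/-- The sign of a Boolean. -/
def sgn (F : Type*) [Field F] (b : Bool) : F := cond b 1 (-1)

theorem sgn_cases (b : Bool) : sgn F b = 1 ∨ sgn F b = -1 := by cases b <;> simp [sgn]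

/-- Tuples with signs. -/
def IsLabel (η : F) (z : (Fin N → F[X]) × (Bool → Fin N → Bool)) : Prop :=
  (∀ i, Good1 (z.1 i)) ∧ ∑ i : Fin N, ((i : ℕ) + 1) * (z.1 i).natDegree = N ∧
    (∀ s (i : Fin N), ¬Single η ((i : ℕ) + 1) → Even ((z.1 i).rootMultiplicity (sgn F s))) ∧
    ∀ s (i : Fin N), z.2 s i = true → Single η ((i : ℕ) + 1) ∧ 0 < (z.1 i).rootMultiplicity (sgn F s)

/-- The data of an isometry. -/
theorem isoData_of (h2 : (2 : F) ≠ 0) (hη : η = 1 ∨ η = -1) (hν : ¬IsSquare ν) (hB : IsEta B η)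
    (hN : ∀ v, (∀ u, B u v = 0) → v = 0) (g : isomGroup B) : IsoData B η ν g.1 :=
  ⟨h2, hη, hν, hB, hN, g.2⟩

/-- The tuple of an isometry. -/
noncomputable def tupOf (g : isomGroup B) : Fin N → F[X] := tup (exists_decomp (matOf g)).some

open _root_.Classical in
/-- The signs of an isometry. -/
noncomputable def bitsOf (g : isomGroup B) (D : IsoData B η ν g.1) : Bool → Fin N → Bool := fun s i =>
  decide ((famOf D (sgn_cases s)).Bit ((i : ℕ) + 1))

theorem bitsOf_eq_true (g : isomGroup B) (D : IsoData B η ν g.1) (s : Bool) (i : Fin N) :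
    bitsOf g D s i = true ↔ (famOf D (sgn_cases s)).Bit ((i : ℕ) + 1) := by
  simp [bitsOf]

theorem isLabel_of (g : isomGroup B) (D : IsoData B η ν g.1) : IsLabel η (tupOf g, bitsOf g D) := by
  have hm := tup_mem (isUnit_matOf g) (exists_decomp (matOf g)).some
  refine ⟨fun i => ⟨(hm.1 i).1, (hm.1 i).2, star_tup D.nondeg g _ i⟩, hm.2, fun s i hi => ?_, fun s i hb => ?_⟩
  · show Even ((tupOf g i).rootMultiplicity (sgn F s))
    rw [tupOf, rootMultiplicity_tup g D (sgn_cases s), (Fam.even_mult _ hi D.two).1]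
    exact even_two_mul _
  · have hb' := (bitsOf_eq_true g D s i).1 hb
    refine ⟨hb'.1, ?_⟩
    show 0 < (tupOf g i).rootMultiplicity (sgn F s)
    rw [tupOf, rootMultiplicity_tup g D (sgn_cases s)]
    exact Fam.mult_pos_of_bit _ hb'

theorem exists_similar (g h : isomGroup B) (ht : tupOf g = tupOf h) :
    ∃ e : (Fin N → F) ≃ₗ[F] (Fin N → F), ∀ v, e (g.1 v) = h.1 (e v) := by
  obtain ⟨e, he⟩ := intertwine_of_tup _ _ ht
  refine ⟨e, fun v => ?_⟩
  have := he v
  rwa [matOf_apply, matOf_apply] at this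

theorem bit_range (g : isomGroup B) (D : IsoData B η ν g.1) (s : Bool) (k : ℕ)
    (hb : (famOf D (sgn_cases s)).Bit k) : 0 < k ∧ k ≤ N := by
  obtain ⟨-, i, hi, -⟩ := hb
  letI := (famOf D (sgn_cases s)).fι
  refine ⟨hi ▸ (famOf D (sgn_cases s)).pos i, hi ▸ ?_⟩
  refine (Finset.single_le_sum (f := (famOf D (sgn_cases s)).e) (fun _ _ => Nat.zero_le _) (Finset.mem_univ i)).trans ?_
  rw [famOf_spans D (sgn_cases s)]
  exact (Submodule.finrank_le _).trans (le_of_eq (by simp))

theorem isConj_of_label (g h : isomGroup B) (D : IsoData B η ν g.1) (E : IsoData B η ν h.1)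
    (ht : tupOf g = tupOf h) (hbits : bitsOf g D = bitsOf h E) : IsConj g h := by
  obtain ⟨e, he⟩ := exists_similar g h ht
  have hbit : ∀ (c : F) (hc : c = 1 ∨ c = -1) k, (famOf D hc).Bit k ↔ (famOf E hc).Bit k := by
    intro c hc k
    obtain ⟨s, rfl⟩ : ∃ s, sgn F s = c := hc.elim (fun h => ⟨true, h.symm⟩) fun h => ⟨false, h.symm⟩
    by_cases hk : 0 < k ∧ k ≤ N
    · obtain ⟨i, rfl⟩ : ∃ i : Fin N, (i : ℕ) + 1 = k := ⟨⟨k - 1, by omega⟩, by simp only; omega⟩
      rw [← bitsOf_eq_true g D s i, ← bitsOf_eq_true h E s i, hbits]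
    · exact iff_of_false (fun hb => hk (bit_range g D s k hb)) fun hb => hk (bit_range h E s k hb)
  obtain ⟨u, hu, hux⟩ := exists_intertwine_isometry D E e he hbit
  refine isConj_iff.2 ⟨⟨u, hu⟩, ?_⟩
  rw [mul_inv_eq_iff_eq_mul]
  exact Subtype.ext (LinearEquiv.ext hux)

/-- Conjugacy classes inject into tuples with signs. -/
theorem exists_label (h2 : (2 : F) ≠ 0) (hη : η = 1 ∨ η = -1) (hB : IsEta B η)
    (hN : ∀ v, (∀ u, B u v = 0) → v = 0) :
    ∃ L : ConjClasses (isomGroup B) → {z : (Fin N → F[X]) × (Bool → Fin N → Bool) // IsLabel η z},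
      Function.Injective L := by
  classical
  have hchar : ringChar F ≠ 2 := fun hc => by
    haveI := ringChar.of_eq hc
    exact h2 CharTwo.two_eq_zero
  obtain ⟨ν, hν⟩ := FiniteField.exists_nonsquare hchar
  let rep : ConjClasses (isomGroup B) → isomGroup B := fun C => C.exists_rep.choose
  refine ⟨fun C => ⟨_, isLabel_of (rep C) (isoData_of h2 hη hν hB hN _)⟩, fun C C' h => ?_⟩
  obtain ⟨htup, hbits⟩ := Prod.ext_iff.1 (congrArg Subtype.val h)
  rw [← C.exists_rep.choose_spec, ← C'.exists_rep.choose_spec, ConjClasses.mk_eq_mk_iff_isConj]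
  exact isConj_of_label _ _ _ _ htup hbits

end CfsgLib.ClassNumberForm
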