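import Cfsg.Agent.Lib.KnownA.ClassNumberForm.Tuple

/-!
# Counting tuples with signs

Tuples with signs inject into tuples of palindromic polynomials of even degree together with four Booleans at each
position that carries signs.
-/

set_option autoImplicit false
set_option linter.unusedSectionVars false

namespace CfsgLib.ClassNumberForm

open Polynomial Finset CfsgLib.ClassNumberGL

variable {F : Type*} [Field F]

/-- Monic palindromic polynomials of even degree with constant coefficient one. -/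
def IsPal (P : F[X]) : Prop := P.Monic ∧ P.coeff 0 = 1 ∧ Even P.natDegree ∧ star1 P = P

theorem IsPal.one : IsPal (1 : F[X]) :=
  ⟨monic_one, by simp, by simp, ClassNumberSU.star_one⟩

theorem reverse_eq_of_good {P : F[X]} (h : Good1 P) : P.reverse = C (P.coeff 0) * P := by
  conv_rhs => arg 2; rw [← h.2.2, star1, ClassNumberSU.star, Polynomial.map_id, RingHom.id_apply]
  rw [← mul_assoc, ← C_mul, mul_inv_cancel₀ h.2.1, C_1, one_mul]

theorem pal_of_good {P : F[X]} (h : Good1 P) (h2 : (2 : F) ≠ 0) (h1 : P.eval 1 ≠ 0) (hm : P.eval (-1) ≠ 0) :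
    IsPal P := by
  haveI : Invertible (1 : F) := invertibleOne
  haveI : Invertible (-1 : F) := invertibleOfNonzero (neg_ne_zero.2 one_ne_zero)
  have key : ∀ (c : F) [Invertible c], c * c = 1 → P.coeff 0 * P.eval c * c ^ P.natDegree = P.eval c := by
    intro c _ hc
    have h3 := eval₂_reverse_mul_pow (RingHom.id F) c P
    rw [invOf_eq_right_inv hc, reverse_eq_of_good h, eval₂_id, eval₂_id, eval_mul, eval_C] at h3
    exact h3
  have k1 := key 1 (one_mul 1)
  rw [one_pow, mul_one] at k1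
  have h0 : P.coeff 0 = 1 := by
    refine mul_right_cancel₀ h1 ?_
    rw [k1, one_mul]
  have k2 := key (-1) (by norm_num)
  rw [h0, one_mul] at k2
  refine ⟨h.1, h0, ?_, h.2.2⟩
  rcases Nat.even_or_odd P.natDegree with he | he
  · exact he
  · rw [he.neg_one_pow] at k2
    exact absurd (show (2 : F) * P.eval (-1) = 0 by linear_combination -k2) (mul_ne_zero h2 hm)

theorem star1_X_sub {c : F} (hc : c * c = 1) : star1 (X - C c) = X - C c := by
  have hc0 : c ≠ 0 := left_ne_zero_of_mul (hc.trans_ne one_ne_zero)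
  have h0 : (X - C c).coeff 0 ≠ 0 := by simpa using hc0
  refine Polynomial.ext fun j => ?_
  have hd : (star1 (X - C c)).natDegree = 1 := by rw [star1, ClassNumberSU.natDegree_star h0, natDegree_X_sub_C]
  rcases le_or_gt j 1 with hj | hj
  · rw [star1, ClassNumberSU.coeff_star (by rwa [natDegree_X_sub_C]), natDegree_X_sub_C]
    interval_cases j
    · simp only [RingHom.id_apply, coeff_sub, coeff_X_zero, coeff_C_zero, coeff_X_one, coeff_C_ne_zero,
        Nat.sub_zero, ne_eq, one_ne_zero, not_false_eq_true, zero_sub, sub_zero, mul_one]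
      exact inv_eq_of_mul_eq_one_left (by linear_combination hc)
    · simp only [RingHom.id_apply, Nat.sub_self, coeff_sub, coeff_X_zero, coeff_C_zero, zero_sub,
        coeff_X_one, coeff_C_ne_zero, ne_eq, one_ne_zero, not_false_eq_true, sub_zero]
      exact inv_mul_cancel₀ (neg_ne_zero.2 hc0)
  · rw [coeff_eq_zero_of_natDegree_lt (by omega), coeff_eq_zero_of_natDegree_lt (by rw [natDegree_X_sub_C]; omega)]

theorem star1_mul_cancel {P R : F[X]} (hR : star1 R = R) (hR0 : R ≠ 0) (h : star1 (R * P) = R * P) :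
    star1 P = P := by
  rw [star1, ClassNumberSU.star_mul, show ClassNumberSU.star _ R = R from hR] at h
  exact mul_left_cancel₀ hR0 h

theorem star1_X_sub_pow {c : F} (hc : c * c = 1) (k : ℕ) : star1 ((X - C c) ^ k) = (X - C c) ^ k := by
  rw [star1, ClassNumberSU.star_pow, show ClassNumberSU.star _ (X - C c) = X - C c from star1_X_sub hc]

/-- The core of a self-reciprocal polynomial. -/
theorem exists_pal {P : F[X]} (h : Good1 P) (h2 : (2 : F) ≠ 0) {r₁ r₂ : ℕ}
    (h₁ : r₁ ≤ P.rootMultiplicity 1) (hp₁ : Even (P.rootMultiplicity 1 - r₁))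
    (h₂ : r₂ ≤ P.rootMultiplicity (-1)) (hp₂ : Even (P.rootMultiplicity (-1) - r₂)) :
    ∃ R, IsPal R ∧ P = (X - C 1) ^ r₁ * (X - C (-1)) ^ r₂ * R := by
  obtain ⟨G, hG, hG1⟩ := exists_eq_pow_rootMultiplicity_mul_and_not_dvd P h.1.ne_zero 1
  obtain ⟨H, hH, hH1⟩ := exists_eq_pow_rootMultiplicity_mul_and_not_dvd G
    (fun h0 => hG1 (h0 ▸ dvd_zero _)) (-1)
  have hne : (-1 : F) ≠ 1 := fun h => h2 (by linear_combination -h)
  have hm : G.rootMultiplicity (-1) = P.rootMultiplicity (-1) := by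
    conv_rhs => rw [hG]
    rw [rootMultiplicity_mul (hG ▸ h.1.ne_zero),
      rootMultiplicity_eq_zero (p := (X - C (1 : F)) ^ P.rootMultiplicity 1) ?_, zero_add]
    simpa [IsRoot, sub_eq_zero] using fun h => absurd h hne
  rw [hm] at hH
  set a := P.rootMultiplicity 1
  set b := P.rootMultiplicity (-1)
  have hfac : star1 ((X - C (1 : F)) ^ a * (X - C (-1)) ^ b) = (X - C 1) ^ a * (X - C (-1)) ^ b := by
    rw [star1, ClassNumberSU.star_mul, show ClassNumberSU.star _ ((X - C (1 : F)) ^ a) = _ from star1_X_sub_pow (one_mul 1) a,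
      show ClassNumberSU.star _ ((X - C (-1 : F)) ^ b) = _ from star1_X_sub_pow (by norm_num) b]
  have hP : P = (X - C 1) ^ a * (X - C (-1)) ^ b * H := by rw [mul_assoc, ← hH, ← hG]
  have hfm : ((X - C (1 : F)) ^ a * (X - C (-1)) ^ b).Monic := ((monic_X_sub_C _).pow _).mul ((monic_X_sub_C _).pow _)
  have hHm : H.Monic := hfm.of_mul_monic_left (hP ▸ h.1)
  have hH0 : H.coeff 0 ≠ 0 := by
    have := h.2.1
    rw [hP, mul_coeff_zero] at this
    exact right_ne_zero_of_mul this
  have hHs : star1 H = H := star1_mul_cancel hfac hfm.ne_zero (by rw [← hP]; exact h.2.2)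
  have hHpal : IsPal H := by
    refine pal_of_good ⟨hHm, hH0, hHs⟩ h2 (fun h0 => hG1 ?_) (fun h0 => hH1 (dvd_iff_isRoot.2 h0))
    rw [hH, dvd_iff_isRoot, IsRoot, eval_mul, h0, mul_zero]
  obtain ⟨c₁, hc₁⟩ := hp₁
  obtain ⟨c₂, hc₂⟩ := hp₂
  refine ⟨(X - C 1) ^ (a - r₁) * (X - C (-1)) ^ (b - r₂) * H, ⟨(((monic_X_sub_C _).pow _).mul
    ((monic_X_sub_C _).pow _)).mul hHm, ?_, ?_, ?_⟩, ?_⟩
  · simp only [coeff_zero_eq_eval_zero, eval_mul, eval_pow, eval_sub, eval_X, eval_C, zero_sub, neg_neg, one_pow,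
      mul_one, hc₁]
    rw [Even.neg_one_pow ⟨c₁, rfl⟩, one_mul, ← coeff_zero_eq_eval_zero, hHpal.2.1]
  · rw [Monic.natDegree_mul (((monic_X_sub_C _).pow _).mul ((monic_X_sub_C _).pow _)) hHm,
      Monic.natDegree_mul ((monic_X_sub_C _).pow _) ((monic_X_sub_C _).pow _), natDegree_pow, natDegree_pow,
      natDegree_X_sub_C, natDegree_X_sub_C, mul_one, mul_one]
    exact ((Even.add ⟨c₁, hc₁⟩ ⟨c₂, hc₂⟩).add hHpal.2.2.1)
  · rw [star1, ClassNumberSU.star_mul, ClassNumberSU.star_mul,
      show ClassNumberSU.star _ ((X - C (1 : F)) ^ (a - r₁)) = _ from star1_X_sub_pow (one_mul 1) _,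
      show ClassNumberSU.star _ ((X - C (-1 : F)) ^ (b - r₂)) = _ from star1_X_sub_pow (by norm_num) _,
      show ClassNumberSU.star _ H = H from hHs]
  · conv_lhs => rw [hP, show a = r₁ + (a - r₁) by omega, show b = r₂ + (b - r₂) by omega, pow_add, pow_add]
    ring

/-- Palindromic polynomials of degree `2 * d`. -/
abbrev PalPol (F : Type*) [Field F] (d : ℕ) := {P : F[X] // IsPal P ∧ P.natDegree = 2 * d}

theorem card_palPol [Fintype F] (d : ℕ) :
    Finite (PalPol F d) ∧ Nat.card (PalPol F d) ≤ Fintype.card F ^ d := by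
  have hinj : Function.Injective (fun (P : PalPol F d) (i : Fin d) => P.1.coeff ((i : ℕ) + 1)) := by
    intro P R h
    have hh : ∀ j, 0 < j → j ≤ d → P.1.coeff j = R.1.coeff j := fun j h0 hj => by
      have := congrFun h ⟨j - 1, by omega⟩
      simpa only [Nat.sub_add_cancel h0] using this
    have hsym : ∀ Q : PalPol F d, ∀ j ≤ 2 * d, Q.1.coeff j = Q.1.coeff (2 * d - j) := fun Q j hj => by
      conv_lhs => rw [← Q.2.1.2.2.2, star1, ClassNumberSU.coeff_star (by rw [Q.2.2]; exact hj), Q.2.1.2.1]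
      rw [Q.2.2]
      simp
    refine Subtype.ext (Polynomial.ext fun j => ?_)
    rcases eq_or_ne j 0 with rfl | hj0
    · rw [P.2.1.2.1, R.2.1.2.1]
    rcases le_or_gt j d with hj | hj
    · exact hh j (by omega) hj
    rcases le_or_gt j (2 * d) with hj2 | hj2
    · rw [hsym P j hj2, hsym R j hj2]
      rcases eq_or_ne (2 * d - j) 0 with h0 | h0
      · rw [h0, P.2.1.2.1, R.2.1.2.1]
      · exact hh _ (by omega) (by omega)
    · rw [coeff_eq_zero_of_natDegree_lt (by rw [P.2.2]; exact hj2),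
        coeff_eq_zero_of_natDegree_lt (by rw [R.2.2]; exact hj2)]
  refine ⟨Finite.of_injective _ hinj, (Nat.card_le_card_of_injective _ hinj).trans ?_⟩
  rw [Nat.card_eq_fintype_card, Fintype.card_fun, Fintype.card_fin]

/-- Weighted count of palindromic tuples. -/
def cntP (q : ℕ) : ℕ → ℕ → ℕ
  | 0, n => if n = 0 then 1 else 0
  | (m + 1), n => ∑ d ∈ range (n / (m + 1) + 1), q ^ d * cntP q m (n - (m + 1) * d)

/-- Palindromic tuples of weight `M`. -/
abbrev PTup (F : Type*) [Field F] (m M : ℕ) :=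
  {h : Fin m → F[X] // (∀ i, IsPal (h i)) ∧ ∑ i : Fin m, ((i : ℕ) + 1) * (h i).natDegree = 2 * M}

theorem card_ptup [Fintype F] (m : ℕ) :
    ∀ n, Finite (PTup F m n) ∧ Nat.card (PTup F m n) ≤ cntP (Fintype.card F) m n := by
  induction m with
  | zero =>
    intro n
    have hs : Subsingleton (PTup F 0 n) := ⟨fun a b => Subtype.ext (_root_.funext fun i => i.elim0)⟩
    refine ⟨Finite.of_subsingleton, ?_⟩
    rcases Nat.eq_zero_or_pos n with rfl | hn
    · simpa [cntP] using Finite.card_le_one_iff_subsingleton.mpr hs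
    · have : IsEmpty (PTup F 0 n) := ⟨fun a => by have := a.2.2; simp at this; omega⟩
      simp [Nat.card_of_isEmpty]
  | succ m ih =>
    intro n
    let S := Σ d : Fin (n / (m + 1) + 1), PalPol F d × PTup F m (n - (m + 1) * d)
    have hhalf : ∀ b : PTup F (m + 1) n, ∃ d, (b.1 (Fin.last m)).natDegree = 2 * d := fun b => by
      obtain ⟨d, hd⟩ := (b.2.1 (Fin.last m)).2.2.1
      exact ⟨d, by omega⟩
    choose hd hhd using hhalf
    have hsum : ∀ b : PTup F (m + 1) n, (∑ i : Fin m, ((i : ℕ) + 1) * (b.1 i.castSucc).natDegree) +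
        2 * ((m + 1) * hd b) = 2 * n := fun b => by
      have h := b.2.2
      rw [Fin.sum_univ_castSucc, hhd, Fin.val_last] at h
      simp only [Fin.val_castSucc] at h
      rw [mul_left_comm 2]
      exact h
    let g : PTup F (m + 1) n → S := fun b =>
      ⟨⟨hd b, by
          rw [Nat.lt_succ_iff, Nat.le_div_iff_mul_le (Nat.succ_pos m)]
          rw [mul_comm, Nat.succ_eq_add_one]; have := hsum b; omega⟩,
        ⟨b.1 (Fin.last m), b.2.1 _, hhd b⟩,
        ⟨fun i => b.1 i.castSucc, fun i => b.2.1 _, by have := hsum b; simp only []; omega⟩⟩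
    have hg : Function.Injective g := by
      intro a b h
      have h1 : a.1 (Fin.last m) = b.1 (Fin.last m) := congrArg (fun x : S => x.2.1.1) h
      have h2 : (fun i : Fin m => a.1 i.castSucc) = fun i => b.1 i.castSucc :=
        congrArg (fun x : S => x.2.2.1) h
      exact Subtype.ext (_root_.funext fun i => Fin.lastCases h1 (fun j => congrFun h2 j) i)
    have : ∀ d : Fin (n / (m + 1) + 1), Finite (PalPol F d) := fun d => (card_palPol _).1
    have : ∀ d : Fin (n / (m + 1) + 1), Finite (PTup F m (n - (m + 1) * d)) := fun d => (ih _).1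
    refine ⟨Finite.of_injective g hg, (Nat.card_le_card_of_injective g hg).trans ?_⟩
    rw [Nat.card_sigma]
    show _ ≤ ∑ d ∈ range (n / (m + 1) + 1),
      Fintype.card F ^ d * cntP (Fintype.card F) m (n - (m + 1) * d)
    rw [← Fin.sum_univ_eq_sum_range]
    refine sum_le_sum fun d _ => ?_
    rw [Nat.card_prod]
    exact Nat.mul_le_mul (card_palPol _).2 (ih _).2

theorem cntP_one (q : ℕ) : ∀ n, cntP q 1 n = q ^ n := by
  intro n
  show ∑ d ∈ range (n / 1 + 1), q ^ d * cntP q 0 (n - 1 * d) = _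
  rw [Nat.div_one, Finset.sum_eq_single n]
  · simp [cntP]
  · intro d hd hne
    have : n - d ≠ 0 := by have := mem_range.1 hd; omega
    simp [cntP, this]
  · simp

/-- The constants in `cntP q m n ≤ cK q m * q ^ n`. -/
def cK (x : ℚ) : ℕ → ℚ
  | 0 => 1
  | 1 => 1
  | m + 2 => cK x (m + 1) / (1 - x ^ (m + 1))

theorem cK_pos {x : ℚ} (hx0 : 0 ≤ x) (hx1 : x < 1) : ∀ m, 0 < cK x m
  | 0 => one_pos
  | 1 => one_pos
  | m + 2 => div_pos (cK_pos hx0 hx1 (m + 1)) (sub_pos.2 (pow_lt_one₀ hx0 hx1 (Nat.succ_ne_zero m)))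

theorem cntP_le {q : ℕ} (hq : 2 ≤ q) :
    ∀ m n, (cntP q (m + 1) n : ℚ) ≤ cK ((q : ℚ)⁻¹) (m + 1) * (q : ℚ) ^ n := by
  have hq0 : (0 : ℚ) < q := by exact_mod_cast (by omega : 0 < q)
  have hx1 : (q : ℚ)⁻¹ < 1 := inv_lt_one_of_one_lt₀ (by exact_mod_cast (by omega : 1 < q))
  intro m
  induction m with
  | zero =>
    intro n
    rw [cntP_one]
    push_cast
    exact le_of_eq (one_mul _).symm
  | succ m ih =>
    intro n
    set y := ((q : ℚ)⁻¹) ^ (m + 1) with hy
    have hy0 : 0 ≤ y := by positivity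
    have hy1 : y < 1 := pow_lt_one₀ (by positivity) hx1 (Nat.succ_ne_zero m)
    have hc := cK_pos (x := (q : ℚ)⁻¹) (by positivity) hx1 (m + 1)
    show ((∑ d ∈ range (n / (m + 1 + 1) + 1), q ^ d * cntP q (m + 1) (n - (m + 1 + 1) * d) : ℕ) : ℚ) ≤
      cK (q : ℚ)⁻¹ (m + 1) / (1 - y) * _
    push_cast
    have hterm : ∀ d ∈ range (n / (m + 1 + 1) + 1),
        (q : ℚ) ^ d * (cntP q (m + 1) (n - (m + 1 + 1) * d) : ℚ) ≤
          y ^ d * (cK (q : ℚ)⁻¹ (m + 1) * (q : ℚ) ^ n) := by
      intro d hd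
      have hd' : (m + 1 + 1) * d ≤ n := by
        have h := Nat.mul_le_mul_left (m + 1 + 1) (Nat.lt_succ_iff.1 (mem_range.1 hd))
        exact h.trans (Nat.mul_div_le n _)
      obtain ⟨r, rfl⟩ : ∃ r, n = (m + 1 + 1) * d + r := ⟨_, (Nat.add_sub_cancel' hd').symm⟩
      rw [Nat.add_sub_cancel_left]
      refine (mul_le_mul_of_nonneg_left (ih r) (by positivity)).trans (le_of_eq ?_)
      rw [hy, ← pow_mul, pow_add, show (m + 1 + 1) * d = (m + 1) * d + d by ring, pow_add (q : ℚ) ((m + 1) * d),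
        inv_pow]
      field_simp
    refine (Finset.sum_le_sum hterm).trans ?_
    rw [← Finset.sum_mul]
    have hgeo : ∑ d ∈ range (n / (m + 1 + 1) + 1), y ^ d ≤ 1 / (1 - y) := by
      rw [geom_sum_eq hy1.ne, ← neg_div_neg_eq, neg_sub, neg_sub]
      gcongr
      linarith [pow_nonneg hy0 (n / (m + 1 + 1) + 1)]
    refine (mul_le_mul_of_nonneg_right hgeo (by positivity)).trans (le_of_eq ?_)
    field_simp

variable {N : ℕ} {η : F}

/-- The weight of a Boolean configuration. -/
def wtS (S : Fin N → Fin 4 → Bool) : ℕ := ∑ i : Fin N, ((i : ℕ) + 1) * (univ.filter fun k => S i k = true).card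

/-- Configurations that can occur. -/
def ValidS (η : F) (S : Fin N → Fin 4 → Bool) : Prop :=
  wtS S ≤ N ∧ Even (N - wtS S) ∧ ∀ i k, S i k = true → Single η ((i : ℕ) + 1)

/-- Configurations that can occur form a decidable set. -/
noncomputable instance decidableValidS : DecidablePred (ValidS (N := N) η) := fun _ => _root_.Classical.propDecidable _

theorem card_label_le [Fintype F] (h2 : (2 : F) ≠ 0) :
    Finite {z : (Fin N → F[X]) × (Bool → Fin N → Bool) // IsLabel η z} ∧
      Nat.card {z : (Fin N → F[X]) × (Bool → Fin N → Bool) // IsLabel η z} ≤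
        ∑ S ∈ univ.filter (fun S : Fin N → Fin 4 → Bool => ValidS η S),
          cntP (Fintype.card F) N ((N - wtS S) / 2) := by
  have hex : ∀ (z : {z : (Fin N → F[X]) × (Bool → Fin N → Bool) // IsLabel η z}) (s : Bool) (i : Fin N),
      ∃ u : Bool, (u = true → Single η ((i : ℕ) + 1)) ∧
        cond u 1 0 + cond (z.1.2 s i) 1 0 ≤ (z.1.1 i).rootMultiplicity (sgn F s) ∧
        Even ((z.1.1 i).rootMultiplicity (sgn F s) - (cond u 1 0 + cond (z.1.2 s i) 1 0)) := by
    intro z s i
    obtain ⟨⟨b, β⟩, -, -, heven, hbit⟩ := z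
    set a := (b i).rootMultiplicity (sgn F s)
    show ∃ u : Bool, (u = true → Single η ((i : ℕ) + 1)) ∧
      cond u 1 0 + cond (β s i) 1 0 ≤ a ∧ Even (a - (cond u 1 0 + cond (β s i) 1 0))
    have hodd : ¬Single η ((i : ℕ) + 1) → Even a := heven s i
    have hpos : β s i = true → Single η ((i : ℕ) + 1) ∧ 0 < a := hbit s i
    clear_value a
    rcases hβ : β s i with _ | _
    · rcases Nat.even_or_odd a with ha | ha
      · exact ⟨false, by simp, by simp, by simpa using ha⟩
      · obtain ⟨r, hr⟩ := ha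
        refine ⟨true, fun _ => by_contra fun h => Nat.not_even_iff_odd.2 ⟨r, hr⟩ (hodd h), ?_, r, ?_⟩ <;>
          simp only [cond_true, cond_false] <;> omega
    · obtain ⟨hs, h0⟩ := hpos hβ
      rcases Nat.even_or_odd a with ⟨r, hr⟩ | ⟨r, hr⟩
      · refine ⟨true, fun _ => hs, ?_, r - 1, ?_⟩ <;> simp only [cond_true] <;> omega
      · refine ⟨false, by simp, ?_, r, ?_⟩ <;> simp only [cond_true, cond_false] <;> omega
  choose u hu using hex
  have hR : ∀ z (i : Fin N), ∃ R, IsPal R ∧ z.1.1 i =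
      (X - C (1 : F)) ^ (cond (u z true i) 1 0 + cond (z.1.2 true i) 1 0) *
        (X - C (-1)) ^ (cond (u z false i) 1 0 + cond (z.1.2 false i) 1 0) * R := fun z i =>
    exists_pal (z.2.1 i) h2 (hu z true i).2.1 (hu z true i).2.2 (hu z false i).2.1 (hu z false i).2.2
  choose R hR hRe using hR
  let Sof : {z : (Fin N → F[X]) × (Bool → Fin N → Bool) // IsLabel η z} → Fin N → Fin 4 → Bool := fun z i =>
    ![u z true i, z.1.2 true i, u z false i, z.1.2 false i]
  have hcard : ∀ a b c d : Bool, (univ.filter fun k => (![a, b, c, d] : Fin 4 → Bool) k = true).card =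
      (cond a 1 0 + cond b 1 0) + (cond c 1 0 + cond d 1 0) := by decide
  have hw : ∀ z, wtS (Sof z) + ∑ i : Fin N, ((i : ℕ) + 1) * (R z i).natDegree = N := by
    intro z
    conv_rhs => rw [← z.2.2.1]
    rw [wtS, ← Finset.sum_add_distrib]
    refine Finset.sum_congr rfl fun i _ => ?_
    conv_rhs => rw [hRe z i]
    rw [Monic.natDegree_mul (((monic_X_sub_C _).pow _).mul ((monic_X_sub_C _).pow _)) (hR z i).1,
      Monic.natDegree_mul ((monic_X_sub_C _).pow _) ((monic_X_sub_C _).pow _), natDegree_pow, natDegree_pow,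
      natDegree_X_sub_C, natDegree_X_sub_C, mul_one, mul_one, hcard]
    ring
  have heven : ∀ z, Even (∑ i : Fin N, ((i : ℕ) + 1) * (R z i).natDegree) := fun z =>
    Finset.even_sum _ fun i _ => ((hR z i).2.2.1).mul_left _
  have hval : ∀ z, ValidS η (Sof z) := by
    intro z
    have h := hw z
    refine ⟨by omega, ?_, fun i k => ?_⟩
    · rw [show N - wtS (Sof z) = ∑ i : Fin N, ((i : ℕ) + 1) * (R z i).natDegree by omega]
      exact heven z
    · fin_cases k <;> simp only [Sof] <;> intro hk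
      · exact (hu z true i).1 hk
      · exact (z.2.2.2.2 true i hk).1
      · exact (hu z false i).1 hk
      · exact (z.2.2.2.2 false i hk).1
  let T := Σ S : {S : Fin N → Fin 4 → Bool // ValidS η S}, PTup F N ((N - wtS S.1) / 2)
  let f : {z : (Fin N → F[X]) × (Bool → Fin N → Bool) // IsLabel η z} → T := fun z =>
    ⟨⟨Sof z, hval z⟩, ⟨R z, hR z, by
      have h := hw z
      obtain ⟨r, hr⟩ := heven z
      show ∑ i : Fin N, ((i : ℕ) + 1) * (R z i).natDegree = 2 * ((N - wtS (Sof z)) / 2)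
      omega⟩⟩
  have hf : Function.Injective f := by
    intro z z' h
    have hS : Sof z = Sof z' := congrArg (fun t : T => t.1.1) h
    have hRR : R z = R z' := congrArg (fun t : T => t.2.1) h
    have hbit : ∀ i, u z true i = u z' true i ∧ z.1.2 true i = z'.1.2 true i ∧ u z false i = u z' false i ∧
        z.1.2 false i = z'.1.2 false i := fun i =>
      ⟨congrFun (congrFun hS i) 0, congrFun (congrFun hS i) 1, congrFun (congrFun hS i) 2,
        congrFun (congrFun hS i) 3⟩
    refine Subtype.ext (Prod.ext (funext fun i => ?_) (funext fun s => funext fun i => ?_))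
    · obtain ⟨a, b, c, d⟩ := hbit i
      rw [hRe z i, hRe z' i, a, b, c, d, hRR]
    · cases s
      · exact (hbit i).2.2.2
      · exact (hbit i).2.1
  haveI : ∀ S : {S : Fin N → Fin 4 → Bool // ValidS η S}, Finite (PTup F N ((N - wtS S.1) / 2)) := fun S =>
    (card_ptup _ _).1
  refine ⟨Finite.of_injective f hf, (Nat.card_le_card_of_injective f hf).trans ?_⟩
  rw [Nat.card_sigma]
  refine (Finset.sum_le_sum fun S _ => (card_ptup N ((N - wtS S.1) / 2)).2).trans (le_of_eq ?_)
  exact (Finset.sum_subtype (univ.filter fun S : Fin N → Fin 4 → Bool => ValidS η S) (fun S => by simp)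
    fun S => cntP (Fintype.card F) N ((N - wtS S) / 2)).symm

/-- The general bound. -/
theorem card_classes_le [Fintype F] {B : (Fin N → F) →ₗ[F] (Fin N → F) →ₗ[F] F} (h2 : (2 : F) ≠ 0)
    (hη : η = 1 ∨ η = -1) (hB : IsEta B η) (hN : ∀ v, (∀ u, B u v = 0) → v = 0) :
    Nat.card (ConjClasses (CfsgLib.Classical.isomGroup B)) ≤
      ∑ S ∈ univ.filter (fun S : Fin N → Fin 4 → Bool => ValidS η S),
        cntP (Fintype.card F) N ((N - wtS S) / 2) := by
  obtain ⟨L, hL⟩ := exists_label h2 hη hB hN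
  haveI := (card_label_le (N := N) (η := η) h2).1
  exact (Nat.card_le_card_of_injective L hL).trans (card_label_le h2).2

end CfsgLib.ClassNumberForm
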