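import Cfsg.Agent.Lib.KnownA.ClassNumberForm.Tuple

/-!
# Discriminants of normal families and of forms
-/

set_option autoImplicit false
set_option linter.unusedSectionVars false

namespace CfsgLib.ClassNumberForm

open Module Finset CfsgLib.Classical

attribute [local instance] Fam.fι

variable {F : Type*} [Field F] {V : Type*} [AddCommGroup V] [Module F V] [FiniteDimensional F V]
  {V' : Type*} [AddCommGroup V'] [Module F V'] [FiniteDimensional F V']
  {B : V →ₗ[F] V →ₗ[F] F} {η ν : F} {n : Module.End F V} {W : Submodule F V}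

namespace Fam

open _root_.Classical in
/-- The discriminant of a family up to squares. -/
noncomputable def dval (S : Fam B η ν n W) : F := ∏ i, if Single η (S.e i) then S.d i ^ S.e i else 1

theorem dval_ne_zero (S : Fam B η ν n W) : S.dval ≠ 0 := by
  classical
  refine Finset.prod_ne_zero_iff.2 fun i _ => ?_
  split_ifs
  · exact pow_ne_zero _ (S.d0 i)
  · exact one_ne_zero

theorem exists_scaled {B' : V' →ₗ[F] V' →ₗ[F] F} {n' : Module.End F V'} {W' : Submodule F V'}
    (S : Fam B η ν n W) (S' : Fam B' η ν n' W') (hn : IsSkew B n) (hn' : IsSkew B' n')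
    (hW : ∀ w ∈ W, n w ∈ W) (hW' : ∀ w ∈ W', n' w ∈ W') (hS : S.Spans) (hS' : S'.Spans) (h2 : (2 : F) ≠ 0)
    (hm : ∀ e, S.mult e = S'.mult e) :
    ∃ (f : W ≃ₗ[F] W') (M : W →ₗ[F] W),
      (∀ v w : W, B' (f v : V') (f w : V') = B (M v : V) (w : V)) ∧ LinearMap.det M * S.dval = S'.dval := by
  classical
  let key : ∀ {ι : Type} (e : ι → ℕ) (d : ι → F), ι → ℕ × F := fun e d i =>
    (e i, if Single η (e i) then 1 else d i)
  have hkey : ∀ c : ℕ × F, Nonempty ({i // key S.e S.d i = c} ≃ {i // key S'.e S'.d i = c}) := by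
    intro c
    obtain ⟨k, z⟩ := c
    refine ⟨Fintype.equivOfCardEq ?_⟩
    rw [← Nat.card_eq_fintype_card, ← Nat.card_eq_fintype_card]
    by_cases hk : Single η k
    · by_cases hz : z = 1
      · subst hz
        rw [Nat.card_congr (Equiv.subtypeEquivRight (q := fun i => S.e i = k) fun i => ?_),
          Nat.card_congr (Equiv.subtypeEquivRight (q := fun i => S'.e i = k) fun i => ?_)]
        · exact hm k
        all_goals
          simp only [key, Prod.mk.injEq]
          exact ⟨And.left, fun h => ⟨h, by rw [if_pos (h ▸ hk)]⟩⟩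
      · haveI : IsEmpty {i // key S.e S.d i = (k, z)} := ⟨fun i => hz (by
          have h := i.2
          simp only [key, Prod.mk.injEq] at h
          rw [h.1, if_pos hk] at h
          exact h.2.symm)⟩
        haveI : IsEmpty {i // key S'.e S'.d i = (k, z)} := ⟨fun i => hz (by
          have h := i.2
          simp only [key, Prod.mk.injEq] at h
          rw [h.1, if_pos hk] at h
          exact h.2.symm)⟩
        rw [Nat.card_of_isEmpty, Nat.card_of_isEmpty]
    · rw [Nat.card_congr (Equiv.subtypeEquivRight (q := fun i => S.e i = k ∧ S.d i = z) fun i => ?_),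
        Nat.card_congr (Equiv.subtypeEquivRight (q := fun i => S'.e i = k ∧ S'.d i = z) fun i => ?_)]
      · obtain ⟨a, a'⟩ := S.even_mult hk h2
        obtain ⟨b, b'⟩ := S'.even_mult hk h2
        have := hm k
        rcases eq_or_ne z 1 with rfl | hz1
        · omega
        rcases eq_or_ne z (-1) with rfl | hz
        · omega
        haveI : IsEmpty {i // S.e i = k ∧ S.d i = z} :=
          ⟨fun i => ((S.pair i.1 (by rw [i.2.1]; exact hk)).2.1).elim (fun h => hz1 (i.2.2 ▸ h))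
            (fun h => hz (i.2.2 ▸ h))⟩
        haveI : IsEmpty {i // S'.e i = k ∧ S'.d i = z} :=
          ⟨fun i => ((S'.pair i.1 (by rw [i.2.1]; exact hk)).2.1).elim (fun h => hz1 (i.2.2 ▸ h))
            (fun h => hz (i.2.2 ▸ h))⟩
        rw [Nat.card_of_isEmpty, Nat.card_of_isEmpty]
      all_goals
        simp only [key, Prod.mk.injEq]
        constructor
        · rintro ⟨h, h'⟩
          rw [h, if_neg hk] at h'
          exact ⟨h, h'⟩
        · rintro ⟨h, h'⟩
          exact ⟨h, by rw [h, if_neg hk, h']⟩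
  let E := fun c => (hkey c).some
  let φ₁ : S.ι ≃ S'.ι := Equiv.ofFiberEquiv E
  obtain ⟨φ, he, hp, hd, -⟩ := S.exists_equiv_of S' h2 φ₁ fun i => by
    have h := Prod.mk.inj (Equiv.ofFiberEquiv_map E i)
    refine ⟨h.1, fun hs => ?_⟩
    have h' := h.2
    rw [show S'.e (φ₁ i) = S.e i from h.1, if_neg hs, if_neg hs] at h'
    exact h'
  let b := S.basis hn hW hS
  let b' := S'.basis hn' hW' hS'
  let ψ : (Σ i, Fin (S.e i)) ≃ Σ i, Fin (S'.e i) := Equiv.sigmaCongr φ fun i => finCongr (he i).symm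
  let f := b.equiv b' ψ
  have hf : ∀ x, (f (b x) : V') = (n' ^ (x.2 : ℕ)) (S'.u (φ x.1)) := fun x => by
    simp only [f, Basis.equiv_apply, b', S'.coe_basis]
    rfl
  let r : S.ι → F := fun i => S'.d (φ i) / S.d i
  have hg : ∀ i j c, B' (S'.u (φ i)) ((n' ^ c) (S'.u (φ j))) = r i * B (S.u i) ((n ^ c) (S.u j)) := by
    intro i j c
    by_cases h : j = S.p i ∧ c + 1 = S.e i
    · rw [(S.gram i j c).1 h.1 h.2, (S'.gram (φ i) (φ j) c).1 (by rw [h.1, hp]) (by rw [he]; exact h.2),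
        div_mul_cancel₀ _ (S.d0 i)]
    · rw [(S.gram i j c).2 h, mul_zero, (S'.gram (φ i) (φ j) c).2 fun h' => h ⟨φ.injective (by rw [hp]; exact h'.1),
        by rw [← he]; exact h'.2⟩]
  let M : W →ₗ[F] W := b.constr F fun x => r x.1 • b x
  refine ⟨f, M, ?_, ?_⟩
  · have key : (LinearMap.compl₁₂ B' (W'.subtype ∘ₗ f.toLinearMap) (W'.subtype ∘ₗ f.toLinearMap)) =
        LinearMap.compl₁₂ B (W.subtype ∘ₗ M) W.subtype := by
      refine b.ext fun x => b.ext fun y => ?_
      show B' (f (b x) : V') (f (b y) : V') = B (M (b x) : V) (b y : V)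
      rw [hf, hf, Basis.constr_basis, Submodule.coe_smul, map_smul, LinearMap.smul_apply, smul_eq_mul,
        S.coe_basis, S.coe_basis, vec, vec, S.gram_vec hn, hn'.pow_left, ← Module.End.mul_apply, ← pow_add, hg]
      ring
    exact fun v w => LinearMap.congr_fun₂ key v w
  · have hmat : LinearMap.toMatrix b b M = Matrix.diagonal fun x => r x.1 := by
      ext x y
      rw [LinearMap.toMatrix_apply, Basis.constr_basis, map_smul, Finsupp.smul_apply, b.repr_self,
        Matrix.diagonal_apply]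
      rcases eq_or_ne x y with rfl | h
      · simp
      · simp [h, Ne.symm h]
    rw [← LinearMap.det_toMatrix b, hmat, Matrix.det_diagonal, Fintype.prod_sigma]
    simp only [Finset.prod_const, Finset.card_univ, Fintype.card_fin]
    rw [dval, dval, ← φ.prod_comp (fun i => if Single η (S'.e i) then S'.d i ^ S'.e i else 1),
      ← Finset.prod_mul_distrib]
    refine Finset.prod_congr rfl fun i _ => ?_
    rw [he]
    split_ifs with h
    · rw [← mul_pow, div_mul_cancel₀ _ (S.d0 i)]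
    · rw [mul_one, show r i = 1 from by rw [show r i = S'.d (φ i) / S.d i from rfl, hd i h, div_self (S.d0 i)],
        one_pow]

theorem dval_eq (S : Fam B η ν n W) :
    ∃ T : Finset ℕ, (∀ k, k ∈ T ↔ S.Bit k) ∧ S.dval = ν ^ (∑ k ∈ T, k) := by
  classical
  refine ⟨(univ.filter fun i => Single η (S.e i) ∧ S.d i = ν).image S.e, fun k => ?_, ?_⟩
  · simp only [Finset.mem_image, Finset.mem_filter, Finset.mem_univ, true_and]
    constructor
    · rintro ⟨i, ⟨hs, hd⟩, rfl⟩
      exact ⟨hs, i, rfl, hd⟩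
    · rintro ⟨hs, i, rfl, hd⟩
      exact ⟨i, ⟨hs, hd⟩, rfl⟩
  · rw [Finset.sum_image fun i hi j hj h => by
      simp only [Finset.coe_filter, Set.mem_setOf_eq, Finset.mem_univ, true_and] at hi hj
      exact S.nu_unique i j hi.1 hi.2 hj.2 h]
    rw [← Finset.prod_pow_eq_pow_sum, Finset.prod_filter, dval]
    refine Finset.prod_congr rfl fun i _ => ?_
    by_cases hs : Single η (S.e i)
    · rcases (S.single i hs).2 with h | h
      · by_cases h' : S.d i = ν
        · rw [if_pos hs, if_pos ⟨hs, h'⟩, h']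
        · rw [if_pos hs, if_neg (fun h'' => h' h''.2), h, one_pow]
      · rw [if_pos hs, if_pos ⟨hs, h⟩, h]
    · rw [if_neg hs, if_neg (fun h' => hs h'.1)]

theorem dval_insert {B' : V' →ₗ[F] V' →ₗ[F] F} {n' : Module.End F V'} {W' : Submodule F V'}
    (S : Fam B η ν n W) (S' : Fam B' η ν n' W') {k₀ : ℕ} (h : ∀ k, k ≠ k₀ → (S.Bit k ↔ S'.Bit k))
    (h₀ : ¬S.Bit k₀) (h₀' : S'.Bit k₀) : S'.dval = ν ^ k₀ * S.dval := by
  classical
  obtain ⟨T, hT, hd⟩ := S.dval_eq
  obtain ⟨T', hT', hd'⟩ := S'.dval_eq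
  have : T' = insert k₀ T := by
    ext k
    rw [Finset.mem_insert, hT, hT']
    rcases eq_or_ne k k₀ with rfl | hk
    · simp [h₀']
    · simp [hk, h k hk]
  rw [hd, hd', this, Finset.sum_insert (by rw [hT]; exact h₀), pow_add]

theorem dval_congr {B' : V' →ₗ[F] V' →ₗ[F] F} {n' : Module.End F V'} {W' : Submodule F V'}
    (S : Fam B η ν n W) (S' : Fam B' η ν n' W') (h : ∀ k, S.Bit k ↔ S'.Bit k) : S'.dval = S.dval := by
  obtain ⟨T, hT, hd⟩ := S.dval_eq
  obtain ⟨T', hT', hd'⟩ := S'.dval_eq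
  rw [hd, hd', show T' = T from Finset.ext fun k => by rw [hT, hT', h]]

end Fam

section Std

variable {N : ℕ}

/-- The determinant of the Gram matrix in the standard basis. -/
noncomputable def gramDet (B : (Fin N → F) →ₗ[F] (Fin N → F) →ₗ[F] F) : F :=
  (LinearMap.toMatrix₂' F B).det

theorem gramDet_ne_zero {B : (Fin N → F) →ₗ[F] (Fin N → F) →ₗ[F] F} (hB : IsEta B η)
    (hN : ∀ v, (∀ u, B u v = 0) → v = 0) : gramDet B ≠ 0 := by
  have hL : B.SeparatingLeft := fun v hv => hN v fun u => by rw [hB v u, hv, mul_zero]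
  have h : B.Nondegenerate := ⟨hL, hN⟩
  rw [← Matrix.toLinearMap₂'_toMatrix' (R := F) B] at h
  exact LinearMap.nondegenerate_toLinearMap₂'_iff_det_ne_zero.1 h

theorem gramDet_scaled {B B' : (Fin N → F) →ₗ[F] (Fin N → F) →ₗ[F] F} (u : (Fin N → F) ≃ₗ[F] (Fin N → F))
    (M : (Fin N → F) →ₗ[F] (Fin N → F)) (h : ∀ v w, B' (u v) (u w) = B (M v) w) :
    LinearMap.det (u : (Fin N → F) →ₗ[F] (Fin N → F)) ^ 2 * gramDet B' = LinearMap.det M * gramDet B := by
  have e : B'.compl₁₂ (u : (Fin N → F) →ₗ[F] (Fin N → F)) (u : (Fin N → F) →ₗ[F] (Fin N → F)) =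
      B.compl₁₂ M LinearMap.id := LinearMap.ext₂ h
  have e' := congrArg (fun C => (LinearMap.toMatrix₂' F C).det) e
  simp only [LinearMap.toMatrix₂'_compl₁₂, Matrix.det_mul, Matrix.det_transpose, LinearMap.toMatrix'_id,
    Matrix.det_one, mul_one, LinearMap.det_toMatrix'] at e'
  rw [gramDet, gramDet]
  linear_combination e'

theorem not_isSquare_pow {ν : F} (hν : ¬IsSquare ν) {k : ℕ} (hk : Odd k) : ¬IsSquare (ν ^ k) := by
  rintro ⟨r, hr⟩
  obtain ⟨j, rfl⟩ := hk
  have hν0 : ν ≠ 0 := fun h => hν (h ▸ IsSquare.zero)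
  refine hν ⟨r / ν ^ j, ?_⟩
  field_simp
  linear_combination hr

variable [Fintype F] {B : (Fin N → F) →ₗ[F] (Fin N → F) →ₗ[F] F}

/-- The discriminants of similar isometries agree up to squares. -/
theorem dval_square {x y : (Fin N → F) ≃ₗ[F] (Fin N → F)} (D : IsoData B η ν x) (E : IsoData B η ν y)
    (e : (Fin N → F) ≃ₗ[F] (Fin N → F)) (he : ∀ v, e (x v) = y (e v)) :
    IsSquare ((famOf D (c := (1 : F)) (Or.inl rfl)).dval * (famOf D (c := (-1 : F)) (Or.inr rfl)).dval *
      ((famOf E (c := (1 : F)) (Or.inl rfl)).dval * (famOf E (c := (-1 : F)) (Or.inr rfl)).dval)) := by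
  classical
  have sc : ∀ (c : F) (hc : c = 1 ∨ c = -1), ∃ (f : eig x c ≃ₗ[F] eig y c) (M : eig x c →ₗ[F] eig x c),
      (∀ v w, B (f v : Fin N → F) (f w : Fin N → F) = B (M v : Fin N → F) (w : Fin N → F)) ∧
        LinearMap.det M * (famOf D hc).dval = (famOf E hc).dval := fun c hc =>
    (famOf D hc).exists_scaled (famOf E hc) (isSkew_diffInv D.iso) (isSkew_diffInv E.iso)
      (diffInv_mem_eig x _) (diffInv_mem_eig y _) (famOf_spans D _) (famOf_spans E _) D.two
      fun k => mult_eq D E e he hc k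
  obtain ⟨f, M₁, hf, hM₁⟩ := sc 1 (Or.inl rfl)
  obtain ⟨g, M₂, hg, hM₂⟩ := sc (-1) (Or.inr rfl)
  obtain ⟨h, hh, -⟩ := exists_intertwine_reg D E e he
  obtain ⟨T₁, hT₁, hB₁⟩ := exists_sumEquiv D
  obtain ⟨T₂, hT₂, hB₂⟩ := exists_sumEquiv E
  let u : (Fin N → F) ≃ₗ[F] (Fin N → F) := T₁.symm.trans (((f.prodCongr g).prodCongr h).trans T₂)
  let M : (Fin N → F) →ₗ[F] (Fin N → F) :=
    T₁.toLinearMap ∘ₗ (LinearMap.prodMap (LinearMap.prodMap M₁ M₂) LinearMap.id) ∘ₗ T₁.symm.toLinearMap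
  have hu : ∀ v w, B (u v) (u w) = B (M v) w := by
    intro v w
    obtain ⟨⟨⟨a, b⟩, r⟩, rfl⟩ := T₁.surjective v
    obtain ⟨⟨⟨a', b'⟩, r'⟩, rfl⟩ := T₁.surjective w
    simp only [u, M, LinearEquiv.trans_apply, LinearMap.coe_comp, LinearEquiv.coe_coe, Function.comp_apply,
      LinearEquiv.symm_apply_apply]
    show B (T₂ ((f a, g b), h r)) (T₂ ((f a', g b'), h r')) = B (T₁ ((M₁ a, M₂ b), r)) (T₁ ((a', b'), r'))
    rw [hB₂, hB₁, hh]
    exact congrArg₂ (fun p q => p + q + B (r : Fin N → F) r') (hf a a') (hg b b')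
  have hdet : LinearMap.det M = LinearMap.det M₁ * LinearMap.det M₂ := by
    rw [show M = T₁.toLinearMap ∘ₗ _ ∘ₗ T₁.symm.toLinearMap from rfl, LinearMap.det_conj, LinearMap.det_prodMap,
      LinearMap.det_prodMap, LinearMap.det_id, mul_one]
  have hsq := gramDet_scaled u M hu
  have hG := gramDet_ne_zero D.form D.nondeg
  refine ⟨(famOf D (c := (1 : F)) (Or.inl rfl)).dval * (famOf D (c := (-1 : F)) (Or.inr rfl)).dval *
    LinearMap.det (u : (Fin N → F) →ₗ[F] (Fin N → F)), ?_⟩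
  have h := mul_right_cancel₀ hG hsq
  rw [hdet] at h
  rw [← hM₁, ← hM₂]
  linear_combination -((famOf D (c := (1 : F)) (Or.inl rfl)).dval * (famOf D (c := (-1 : F)) (Or.inr rfl)).dval) ^ 2 * h

/-- Flipping a single sign of odd size changes the discriminant. -/
theorem no_single_flip {x y : (Fin N → F) ≃ₗ[F] (Fin N → F)} (D : IsoData B η ν x) (E : IsoData B η ν y)
    (e : (Fin N → F) ≃ₗ[F] (Fin N → F)) (he : ∀ v, e (x v) = y (e v)) {k₀ : ℕ} (hk : Odd k₀) (s₀ : Bool)
    (hsame : ∀ s k, ¬(s = s₀ ∧ k = k₀) →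
      ((famOf D (sgn_cases s)).Bit k ↔ (famOf E (sgn_cases s)).Bit k))
    (h₀ : ¬(famOf D (sgn_cases s₀)).Bit k₀) (h₀' : (famOf E (sgn_cases s₀)).Bit k₀) : False := by
  classical
  have key : ∀ s, (famOf E (sgn_cases s)).dval =
      (if s = s₀ then ν ^ k₀ else 1) * (famOf D (sgn_cases s)).dval := by
    intro s
    by_cases hs : s = s₀
    · subst hs
      rw [if_pos rfl, Fam.dval_insert _ _ (fun k hk => hsame s k fun h => hk h.2) h₀ h₀']
    · rw [if_neg hs, one_mul, Fam.dval_congr _ _ fun k => hsame s k fun h => hs h.1]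
  have k₁ : (famOf E (c := (1 : F)) (Or.inl rfl)).dval =
      (if true = s₀ then ν ^ k₀ else 1) * (famOf D (c := (1 : F)) (Or.inl rfl)).dval := key true
  have k₂ : (famOf E (c := (-1 : F)) (Or.inr rfl)).dval =
      (if false = s₀ then ν ^ k₀ else 1) * (famOf D (c := (-1 : F)) (Or.inr rfl)).dval := key false
  obtain ⟨r, hr⟩ := dval_square D E e he
  rw [k₁, k₂] at hr
  set a₁ := (famOf D (c := (1 : F)) (Or.inl rfl)).dval with ha₁
  set a₂ := (famOf D (c := (-1 : F)) (Or.inr rfl)).dval with ha₂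
  have h12 : a₁ * a₂ ≠ 0 := mul_ne_zero (Fam.dval_ne_zero _) (Fam.dval_ne_zero _)
  have hif : (if true = s₀ then ν ^ k₀ else 1) * (if false = s₀ then ν ^ k₀ else 1) = ν ^ k₀ := by
    cases s₀ <;> simp
  refine not_isSquare_pow D.nu hk ⟨r / (a₁ * a₂), ?_⟩
  rw [← hif, div_mul_div_comm, eq_div_iff (mul_ne_zero h12 h12)]
  linear_combination hr

/-- Symmetric forms with discriminants in the same class are isometric. -/
theorem exists_isometry_of_det {B' : (Fin N → F) →ₗ[F] (Fin N → F) →ₗ[F] F} (h2 : (2 : F) ≠ 0)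
    (hB : IsEta B 1) (hB' : IsEta B' 1) (hN : ∀ v, (∀ u, B u v = 0) → v = 0)
    (hN' : ∀ v, (∀ u, B' u v = 0) → v = 0) (hdet : IsSquare (gramDet B * gramDet B')) :
    ∃ f : (Fin N → F) ≃ₗ[F] (Fin N → F), ∀ v w, B' (f v) (f w) = B v w := by
  classical
  have hchar : ringChar F ≠ 2 := fun hc => by
    haveI := ringChar.of_eq hc
    exact h2 CharTwo.two_eq_zero
  obtain ⟨ν, hν⟩ := FiniteField.exists_nonsquare hchar
  have hz : ∀ C : (Fin N → F) →ₗ[F] (Fin N → F) →ₗ[F] F, IsSkew C (0 : Module.End F (Fin N → F)) :=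
    fun C u v => by simp
  have hW : ∀ w ∈ (⊤ : Submodule F (Fin N → F)), (0 : Module.End F (Fin N → F)) w ∈ (⊤ : Submodule F (Fin N → F)) :=
    fun w _ => Submodule.mem_top
  obtain ⟨S, hS⟩ := exists_fam h2 (Or.inl rfl) hν hB (hz B) ⊤ hW ⟨1, fun w _ => by simp⟩
    fun v _ h => hN v fun u => h u Submodule.mem_top
  obtain ⟨S', hS'⟩ := exists_fam h2 (Or.inl rfl) hν hB' (hz B') ⊤ hW ⟨1, fun w _ => by simp⟩
    fun v _ h => hN' v fun u => h u Submodule.mem_top
  have hm : ∀ k, S.mult k = S'.mult k := by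
    intro k
    rcases k with _ | k
    · rw [Fam.mult_zero, Fam.mult_zero]
    · have h1 := S.mult_rank (hz B) hW hS k
      have h2 := S'.mult_rank (hz B') hW hS' k
      omega
  obtain ⟨f, M, hf, hM⟩ := S.exists_scaled S' (hz B) (hz B') hW hW hS hS' h2 hm
  let T : (⊤ : Submodule F (Fin N → F)) ≃ₗ[F] (Fin N → F) := Submodule.topEquiv
  have hsq := gramDet_scaled (B := B) (B' := B') (T.symm.trans (f.trans T))
    (T.toLinearMap ∘ₗ M ∘ₗ T.symm.toLinearMap) fun v w => by
      simpa [T] using hf (T.symm v) (T.symm w)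
  rw [LinearMap.det_conj] at hsq
  obtain ⟨r, hr⟩ := hdet
  have hG := gramDet_ne_zero hB hN
  have hMsq : IsSquare (LinearMap.det M) := by
    refine ⟨LinearMap.det ((T.symm.trans (f.trans T) : (Fin N → F) ≃ₗ[F] (Fin N → F)) : (Fin N → F) →ₗ[F] (Fin N → F)) *
      r / gramDet B, ?_⟩
    field_simp
    linear_combination -gramDet B * hsq + LinearMap.det
      ((T.symm.trans (f.trans T) : (Fin N → F) ≃ₗ[F] (Fin N → F)) : (Fin N → F) →ₗ[F] (Fin N → F)) ^ 2 * hr
  have hbit : ∀ k, S.Bit k ↔ S'.Bit k := by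
    have h1 : ∀ (C : (Fin N → F) →ₗ[F] (Fin N → F) →ₗ[F] F)
        (R : Fam C 1 ν (0 : Module.End F (Fin N → F)) ⊤) (k : ℕ), R.Bit k → k = 1 := by
      rintro C R k ⟨-, i, rfl, -⟩
      by_contra h
      have hp := R.pos i
      have := (R.gram i (R.p i) (R.e i - 1)).1 rfl (by omega)
      rw [zero_pow (by omega), LinearMap.zero_apply, map_zero] at this
      exact R.d0 i this.symm
    have other : ∀ k, k ≠ 1 → (S.Bit k ↔ S'.Bit k) := fun k hk =>
      iff_of_false (fun h => hk (h1 _ S k h)) fun h => hk (h1 _ S' k h)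
    intro k
    rcases eq_or_ne k 1 with rfl | hk
    · by_contra hne
      rw [not_iff] at hne
      have hν' : ¬IsSquare (ν ^ 1) := by rwa [pow_one]
      by_cases hb : S.Bit 1
      · have hd := S'.dval_insert S (k₀ := 1) (fun j hj => (other j hj).symm) (fun h => hne.2 h hb) hb
        rw [hd, ← mul_assoc] at hM
        have h3 : LinearMap.det M * ν ^ 1 = 1 :=
          mul_right_cancel₀ S'.dval_ne_zero (hM.trans (one_mul _).symm)
        obtain ⟨t, ht⟩ := hMsq
        refine hν' ⟨t⁻¹, ?_⟩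
        rw [eq_inv_of_mul_eq_one_right h3, ht, mul_inv]
      · have hd := S.dval_insert S' (k₀ := 1) other hb (hne.1 hb)
        rw [hd] at hM
        exact hν' (mul_right_cancel₀ S.dval_ne_zero hM ▸ hMsq)
    · exact other k hk
  obtain ⟨φ, h1, h3, h4⟩ := S.exists_equiv S' h2 (fun h => hν (h ▸ IsSquare.one)) hm hbit
  obtain ⟨g, hg, -⟩ := S.exists_intertwine S' (hz B) (hz B') hW hW hS hS' φ h1 h3 h4
  exact ⟨T.symm.trans (g.trans T), fun v w => by simpa [T] using hg (T.symm v) (T.symm w)⟩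

end Std

end CfsgLib.ClassNumberForm
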