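import Cfsg.Agent.Lib.KnownA.ClassNumberForm.Family
import Cfsg.Agent.Lib.KnownA.ClassNumberSU.Intertwine

/-!
# Similar isometries without eigenvalues one and minus one

Over a finite field of odd characteristic two such isometries of a symmetric or alternating form that are similar
are similar by an isometry.
-/

set_option autoImplicit false
set_option linter.unusedSectionVars false

open Module

namespace CfsgLib.ClassNumberForm

open CfsgLib.Classical CfsgLib.ClassNumberSU

variable {F : Type*} [Field F] {V : Type*} [AddCommGroup V] [Module F V]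
  {B C : V →ₗ[F] V →ₗ[F] F} {η : F}

/-- The difference of an automorphism and its inverse. -/
def diffInv (x : V ≃ₗ[F] V) : Module.End F V := x.toLinearMap - x.symm.toLinearMap

theorem diffInv_apply (x : V ≃ₗ[F] V) (v : V) : diffInv x v = x v - x.symm v := rfl

theorem form_symm_right {x : V ≃ₗ[F] V} (hx : ∀ u v, B (x u) (x v) = B u v) (u v : V) :
    B (x u) v = B u (x.symm v) := by
  conv_lhs => rw [← x.apply_symm_apply v]
  rw [hx]

theorem form_symm_left {x : V ≃ₗ[F] V} (hx : ∀ u v, B (x u) (x v) = B u v) (u v : V) :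
    B (x.symm u) v = B u (x v) := by
  conv_rhs => rw [← x.apply_symm_apply u]
  rw [hx]

theorem isSkew_diffInv {x : V ≃ₗ[F] V} (hx : ∀ u v, B (x u) (x v) = B u v) : IsSkew B (diffInv x) := fun u v => by
  simp only [diffInv_apply, map_sub, LinearMap.sub_apply, form_symm_right hx, form_symm_left hx]
  ring

theorem commute_symm {x : V ≃ₗ[F] V} {r : Module.End F V} (h : Commute r x.toLinearMap) :
    Commute r x.symm.toLinearMap := by
  refine LinearMap.ext fun v => x.injective ?_
  have h1 := LinearMap.congr_fun h.eq (x.symm v)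
  simp only [Module.End.mul_apply, LinearEquiv.coe_coe, x.apply_symm_apply] at h1
  show x (r (x.symm v)) = x (x.symm (r v))
  rw [x.apply_symm_apply, ← h1]

theorem intertwine_symm {V' : Type*} [AddCommGroup V'] [Module F V'] {x : V' ≃ₗ[F] V'} {y : V ≃ₗ[F] V}
    {e : V' ≃ₗ[F] V} (he : ∀ v, e (x v) = y (e v)) (v : V') : e (x.symm v) = y.symm (e v) := by
  apply y.injective
  rw [y.apply_symm_apply, ← he, x.apply_symm_apply]

theorem intertwine_diffInv {V' : Type*} [AddCommGroup V'] [Module F V'] {x : V' ≃ₗ[F] V'} {y : V ≃ₗ[F] V}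
    {e : V' ≃ₗ[F] V} (he : ∀ v, e (x v) = y (e v)) (v : V') : e (diffInv x v) = diffInv y (e v) := by
  rw [diffInv_apply, diffInv_apply, map_sub, he, intertwine_symm he]

/-- Two forms preserved by `x` differ by an automorphism commuting with `x`. -/
theorem exists_commute [Finite F] [FiniteDimensional F V] (h2 : (2 : F) ≠ 0) (hη : η = 1 ∨ η = -1)
    (hB : IsEta B η) (hC : IsEta C η) (hNB : ∀ v, (∀ u, B u v = 0) → v = 0)
    (hNC : ∀ v, (∀ u, C u v = 0) → v = 0) (x : V ≃ₗ[F] V) (hxB : ∀ u v, B (x u) (x v) = B u v)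
    (hxC : ∀ u v, C (x u) (x v) = C u v) (hreg : Function.Injective (diffInv x)) :
    ∃ a : V ≃ₗ[F] V, (∀ v, a (x v) = x (a v)) ∧ ∀ v w, B (a v) (a w) = C v w := by
  classical
  haveI : Finite V := Module.finite_of_finite F
  haveI : Finite (Module.End F V) := Finite.of_injective _ DFunLike.coe_injective
  have hη0 : η ≠ 0 := by rcases hη with rfl | rfl <;> norm_num
  have hBi : Function.Injective B := (injective_iff_map_eq_zero B).2 fun v hv => hNB v fun u => by
    rw [hB v u, hv, LinearMap.zero_apply, mul_zero]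
  let Be : V ≃ₗ[F] Module.Dual F V := LinearEquiv.ofBijective B
    ⟨hBi, (LinearMap.injective_iff_surjective_of_finrank_eq_finrank Subspace.dual_finrank_eq.symm).1 hBi⟩
  let t : Module.End F V := Be.symm.toLinearMap ∘ₗ C
  have ht' : ∀ v w, B (t w) v = C w v := fun v w => by
    show (Be (Be.symm (C w))) v = C w v
    rw [Be.apply_symm_apply]
  have ht : ∀ v w, B v (t w) = C v w := fun v w =>
    mul_left_cancel₀ hη0 (by rw [← hB, ← hC, ht'])
  have hinjB : ∀ {p r : V}, (∀ v, B v p = B v r) → p = r := fun {p r} h =>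
    sub_eq_zero.1 (hNB _ fun v => by rw [map_sub, h, sub_self])
  have htx : Commute t x.toLinearMap := LinearMap.ext fun w => hinjB fun v => by
    obtain ⟨v, rfl⟩ := x.surjective v
    show B (x v) (t (x w)) = B (x v) (x (t w))
    rw [ht, hxC, hxB, ht]
  have hts : ∀ v w, B (t v) w = B v (t w) := fun v w => by rw [ht', ht]
  set n := diffInv x with hn
  have hskew : IsSkew B n := isSkew_diffInv hxB
  have htn : Commute t n := Commute.sub_right htx (commute_symm htx)
  let S : Set (Module.End F V) := {t, n * n}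
  have hS : ∀ p ∈ S, ∀ r ∈ S, p * r = r * p := by
    intro p hp r hr
    rcases hp with rfl | rfl <;> rcases hr with rfl | rfl <;>
      first
        | rfl
        | exact (htn.mul_right htn).eq
        | exact (htn.mul_right htn).eq.symm
  letI := Subring.closureCommRingOfComm hS
  have hnx : Commute n x.toLinearMap := ((Commute.refl _).sub_left (commute_symm (Commute.refl _)).symm)
  have hgood : ∀ r ∈ Subring.closure S, Commute r x.toLinearMap ∧ ∀ v w, B (r v) w = B v (r w) := by
    intro r hr
    induction hr using Subring.closure_induction with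
    | mem r hr =>
      rcases hr with rfl | rfl
      · exact ⟨htx, hts⟩
      · exact ⟨hnx.mul_left hnx, fun v w => by
          show B (n (n v)) w = B v (n (n w))
          rw [hskew, hskew, neg_neg]⟩
    | zero => exact ⟨Commute.zero_left _, fun v w => by simp⟩
    | one => exact ⟨Commute.one_left _, fun v w => by simp⟩
    | add p r _ _ hp hr => exact ⟨hp.1.add_left hr.1, fun v w => by simp [hp.2, hr.2]⟩
    | neg p _ hp => exact ⟨hp.1.neg_left, fun v w => by simp [hp.2]⟩
    | mul p r hp' hr' hp hr =>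
      refine ⟨hp.1.mul_left hr.1, fun v w => ?_⟩
      have hpr : p * r = r * p := congrArg Subtype.val (mul_comm (⟨p, hp'⟩ : Subring.closure S) ⟨r, hr'⟩)
      show B (p (r v)) w = B v ((p * r) w)
      rw [hp.2, hr.2, hpr]
      rfl
  have hunit : ∀ r : Subring.closure S, Function.Injective r.1 → IsUnit r := by
    intro r hr
    have hinj : Function.Injective (fun p : Subring.closure S => r * p) := fun p p' h =>
      Subtype.ext (LinearMap.ext fun v => hr (LinearMap.congr_fun (congrArg Subtype.val h) v))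
    obtain ⟨p, hp⟩ := (Finite.injective_iff_surjective.1 hinj) 1
    exact IsUnit.of_mul_eq_one p hp
  let u : Subring.closure S := ⟨t, Subring.subset_closure (Set.mem_insert _ _)⟩
  let m : Subring.closure S := ⟨n * n, Subring.subset_closure (Set.mem_insert_of_mem _ rfl)⟩
  have hd : IsUnit ((0 : Subring.closure S) ^ 2 - 4 * -m) := by
    refine hunit _ ?_
    have h4 : ((4 : Subring.closure S) : Module.End F V) = (4 : F) • 1 := by
      rw [← Algebra.algebraMap_eq_smul_one, map_ofNat]; rfl
    push_cast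
    rw [h4]
    refine (injective_iff_map_eq_zero _).2 fun v hv => ?_
    simp only [zero_pow two_ne_zero, zero_sub, mul_neg, neg_neg, smul_mul_assoc, one_mul, m, LinearMap.smul_apply,
      Module.End.mul_apply, smul_eq_zero] at hv
    rcases hv with hv | hv
    · exact absurd (mul_self_eq_zero.1 (show (2 : F) * 2 = 0 by linear_combination hv)) h2
    · exact hreg (hreg (hv.trans (by rw [map_zero, map_zero])))
  have hu : IsUnit u := hunit u ((injective_iff_map_eq_zero t).2 fun w hw => hNC w fun v => by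
    rw [← ht, hw, map_zero])
  obtain ⟨c₀, c₁, hc⟩ := exists_quad 0 (-m) u hd hu
  have hc' : ∀ w, t w = c₀.1 (c₀.1 w) - n (n (c₁.1 (c₁.1 w))) := by
    intro w
    rw [show t = ((quad 0 (-m) c₀ c₁ : Subring.closure S) : Module.End F V) from (congrArg Subtype.val hc).symm,
      quad]
    push_cast
    simp [m, pow_two]
    abel
  have hrn : ∀ r : Subring.closure S, Commute r.1 n := fun r =>
    (hgood _ r.2).1.sub_right (commute_symm (hgood _ r.2).1)
  let a : Module.End F V := c₀.1 + c₁.1 * n
  have ha : ∀ v w, B (a v) (a w) = C v w := by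
    intro v w
    rw [← ht, hc' w]
    have e1 : c₀.1 (c₁.1 (n w)) = c₁.1 (n (c₀.1 w)) := by
      have h1 : c₀.1 * c₁.1 = c₁.1 * c₀.1 := congrArg Subtype.val (mul_comm c₀ c₁)
      calc c₀.1 (c₁.1 (n w)) = c₁.1 (c₀.1 (n w)) := LinearMap.congr_fun h1 _
        _ = c₁.1 (n (c₀.1 w)) := by rw [show c₀.1 (n w) = n (c₀.1 w) from LinearMap.congr_fun (hrn c₀).eq w]
    have e2 : n (c₁.1 (c₁.1 (n w))) = n (n (c₁.1 (c₁.1 w))) := by
      rw [show c₁.1 (n w) = n (c₁.1 w) from LinearMap.congr_fun (hrn c₁).eq w,
        show c₁.1 (n (c₁.1 w)) = n (c₁.1 (c₁.1 w)) from LinearMap.congr_fun (hrn c₁).eq _]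
    have e3 : c₁.1 (n (c₀.1 w)) = n (c₁.1 (c₀.1 w)) := LinearMap.congr_fun (hrn c₁).eq _
    have s0 := (hgood _ c₀.2).2
    have s1 := (hgood _ c₁.2).2
    simp only [a, LinearMap.add_apply, Module.End.mul_apply, map_add]
    rw [s0 v, s1 (n v), hskew v, s0 v, s1 (n v), hskew v, map_sub, e1, e2, e3]
    ring
  have hainj : Function.Injective a := (injective_iff_map_eq_zero a).2 fun w hw => hNC w fun v => by
    rw [← ha, hw, map_zero]
  refine ⟨LinearEquiv.ofInjectiveEndo a hainj, fun v => ?_, ha⟩
  exact LinearMap.congr_fun (((hgood _ c₀.2).1.add_left ((hgood _ c₁.2).1.mul_left hnx)).eq) v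

/-- Similar isometries without eigenvalues one and minus one are similar by an isometry. -/
theorem exists_intertwine_regular [Finite F] [FiniteDimensional F V] {V' : Type*} [AddCommGroup V'] [Module F V']
    [FiniteDimensional F V'] {B' : V' →ₗ[F] V' →ₗ[F] F} (h2 : (2 : F) ≠ 0) (hη : η = 1 ∨ η = -1)
    (hB : IsEta B η) (hB' : IsEta B' η) (hNB : ∀ v, (∀ u, B u v = 0) → v = 0)
    (hNB' : ∀ v, (∀ u, B' u v = 0) → v = 0) (x : V' ≃ₗ[F] V') (y : V ≃ₗ[F] V)
    (hx : ∀ u v, B' (x u) (x v) = B' u v) (hy : ∀ u v, B (y u) (y v) = B u v)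
    (hreg : Function.Injective (diffInv x)) (e : V' ≃ₗ[F] V) (he : ∀ v, e (x v) = y (e v)) :
    ∃ u : V' ≃ₗ[F] V, (∀ v w, B (u v) (u w) = B' v w) ∧ ∀ v, u (x v) = y (u v) := by
  let C' : V' →ₗ[F] V' →ₗ[F] F := B.compl₁₂ e.toLinearMap e.toLinearMap
  have hC' : ∀ v w, C' v w = B (e v) (e w) := fun v w => rfl
  obtain ⟨a, hax, ha⟩ := exists_commute (B := B') (C := C') h2 hη hB' (fun u v => by rw [hC', hC', hB]) hNB'
    (fun v hv => e.injective ((hNB _ fun u => by
      obtain ⟨u, rfl⟩ := e.surjective u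
      rw [← hC', hv]).trans (map_zero e).symm)) x hx (fun u v => by rw [hC', hC', he, he, hy]) hreg
  refine ⟨a.symm.trans e, fun v w => ?_, fun v => ?_⟩
  · rw [LinearEquiv.trans_apply, LinearEquiv.trans_apply, ← hC', ← ha, a.apply_symm_apply, a.apply_symm_apply]
  · rw [LinearEquiv.trans_apply, LinearEquiv.trans_apply, ← he]
    refine congrArg e ((a.symm_apply_eq).2 ?_)
    rw [hax, a.apply_symm_apply]

end CfsgLib.ClassNumberForm
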