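import Cfsg.Agent.Lib.KnownA.ClassNumberForm.Exists
import Cfsg.Agent.Lib.KnownA.ClassNumberForm.Regular

/-!
# The generalised eigenspaces of an isometry for one and minus one

The multiplicities and the signs of the normal families on these eigenspaces.
-/

set_option autoImplicit false
set_option linter.unusedSectionVars false

open Module

namespace CfsgLib.ClassNumberForm

open CfsgLib.Classical

variable {F : Type*} [Field F] {V : Type*} [AddCommGroup V] [Module F V] [FiniteDimensional F V]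
  {B : V →ₗ[F] V →ₗ[F] F} {η ν : F}

/-- Shift of an endomorphism. -/
def shiftBy (x : V ≃ₗ[F] V) (c : F) : Module.End F V := x.toLinearMap - c • 1

theorem shiftBy_apply (x : V ≃ₗ[F] V) (c : F) (v : V) : shiftBy x c v = x v - c • v := rfl

/-- The generalised eigenspace. -/
noncomputable def eig (x : V ≃ₗ[F] V) (c : F) : Submodule F V :=
  LinearMap.ker (shiftBy x c ^ finrank F V)

theorem commute_shiftBy (x : V ≃ₗ[F] V) (c d : F) : Commute (shiftBy x c) (shiftBy x d) :=
  ((Commute.refl _).sub_left ((Commute.one_left _).smul_left c)).sub_right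
    ((Commute.one_right _).smul_right d)

theorem commute_symm_shiftBy (x : V ≃ₗ[F] V) (c : F) : Commute x.symm.toLinearMap (shiftBy x c) :=
  ((commute_symm (Commute.refl _)).symm).sub_right ((Commute.one_right _).smul_right c)

theorem commute_diffInv_shiftBy (x : V ≃ₗ[F] V) (c : F) : Commute (diffInv x) (shiftBy x c) :=
  (((Commute.refl _).sub_right ((Commute.one_right _).smul_right c))).sub_left (commute_symm_shiftBy x c)

theorem diffInv_eq (x : V ≃ₗ[F] V) {c : F} (hc : c * c = 1) :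
    diffInv x = x.symm.toLinearMap * (shiftBy x c * shiftBy x (-c)) := by
  refine LinearMap.ext fun v => ?_
  simp only [Module.End.mul_apply, shiftBy_apply, diffInv_apply, LinearEquiv.coe_coe, map_sub, map_smul,
    x.symm_apply_apply, neg_smul, smul_neg, smul_sub, sub_neg_eq_add, smul_add, smul_smul, hc, one_smul,
    map_add]
  module

theorem shiftBy_pow_eq_zero_iff (x : V ≃ₗ[F] V) (c : F) (v : V) :
    v ∈ eig x c ↔ ∃ k, (shiftBy x c ^ k) v = 0 := by
  refine ⟨fun h => ⟨_, h⟩, fun ⟨k, hk⟩ => ?_⟩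
  show (shiftBy x c ^ finrank F V) v = 0
  have h : v ∈ LinearMap.ker (shiftBy x c ^ k) := hk
  have h' : LinearMap.ker (shiftBy x c ^ k) ≤ LinearMap.ker (shiftBy x c ^ finrank F V) :=
    Module.End.ker_pow_le_ker_pow_finrank _ _
  exact h' h

theorem map_mem_eig (x : V ≃ₗ[F] V) (c : F) {g : Module.End F V} (hg : Commute g (shiftBy x c)) {v : V}
    (hv : v ∈ eig x c) : g v ∈ eig x c := by
  show (shiftBy x c ^ finrank F V) (g v) = 0
  have hv' : (shiftBy x c ^ finrank F V) v = 0 := hv
  rw [← Module.End.mul_apply, ← (hg.pow_right _).eq, Module.End.mul_apply, hv', map_zero]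

theorem diffInv_mem_eig (x : V ≃ₗ[F] V) (c : F) : ∀ v ∈ eig x c, diffInv x v ∈ eig x c := fun _ hv =>
  map_mem_eig x c (commute_diffInv_shiftBy x c) hv

theorem nil_on_eig (x : V ≃ₗ[F] V) {c : F} (hc : c * c = 1) :
    ∃ m, ∀ w ∈ eig x c, (diffInv x ^ m) w = 0 := by
  refine ⟨finrank F V, fun w hw => ?_⟩
  have h1 : Commute x.symm.toLinearMap (shiftBy x c * shiftBy x (-c)) :=
    (commute_symm_shiftBy x c).mul_right (commute_symm_shiftBy x (-c))
  rw [diffInv_eq x hc, h1.mul_pow, (commute_shiftBy x c (-c)).mul_pow,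
    ((commute_shiftBy x c (-c)).pow_pow _ _).eq, Module.End.mul_apply, Module.End.mul_apply,
    show (shiftBy x c ^ finrank F V) w = 0 from hw, map_zero, map_zero]

theorem inj_on_eig (x : V ≃ₗ[F] V) {c d : F} (hcd : c ≠ d) {v : V} (hv : v ∈ eig x c)
    (h : shiftBy x d v = 0) : v = 0 := by
  have h' : ∀ k, (shiftBy x c ^ k) v = (d - c) ^ k • v := by
    intro k
    induction k with
    | zero => simp
    | succ k ih =>
      rw [shiftBy_apply, sub_eq_zero] at h
      rw [pow_succ', Module.End.mul_apply, ih, map_smul, shiftBy_apply, h, ← sub_smul, smul_smul, pow_succ]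
  have := h' (finrank F V)
  rw [show (shiftBy x c ^ finrank F V) v = 0 from hv] at this
  exact (smul_eq_zero.1 this.symm).resolve_left (pow_ne_zero _ (sub_ne_zero.2 hcd.symm))

theorem inj_on_eig_pow (x : V ≃ₗ[F] V) {c d : F} (hcd : c ≠ d) :
    ∀ (k : ℕ) {v : V}, v ∈ eig x c → (shiftBy x d ^ k) v = 0 → v = 0 := by
  intro k
  induction k with
  | zero => intro v _ h; simpa using h
  | succ k ih =>
    intro v hv h
    rw [pow_succ, Module.End.mul_apply] at h
    exact inj_on_eig x hcd hv (ih (map_mem_eig x c (commute_shiftBy x d c) hv) h)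

theorem sq_of_sign {c : F} (hc : c = 1 ∨ c = -1) : c * c = 1 := by rcases hc with rfl | rfl <;> norm_num

theorem ne_neg_of_sign (h2 : (2 : F) ≠ 0) {c : F} (hc : c = 1 ∨ c = -1) : c ≠ -c := by
  rcases hc with rfl | rfl
  · exact fun h => h2 (by linear_combination h)
  · exact fun h => h2 (by linear_combination -h)

theorem ker_diffInv_pow_eig (x : V ≃ₗ[F] V) (h2 : (2 : F) ≠ 0) {c : F} (hc : c = 1 ∨ c = -1) (k : ℕ) {v : V}
    (hv : v ∈ eig x c) : (diffInv x ^ k) v = 0 ↔ (shiftBy x c ^ k) v = 0 := by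
  have h1 : Commute x.symm.toLinearMap (shiftBy x c * shiftBy x (-c)) :=
    (commute_symm_shiftBy x c).mul_right (commute_symm_shiftBy x (-c))
  rw [diffInv_eq x (sq_of_sign hc), h1.mul_pow, (commute_shiftBy x c (-c)).mul_pow,
    ((commute_shiftBy x c (-c)).pow_pow _ _).eq, Module.End.mul_apply, Module.End.mul_apply]
  refine ⟨fun h => ?_, fun h => by rw [h, map_zero, map_zero]⟩
  have hinj : Function.Injective (x.symm.toLinearMap ^ k) := by
    rw [Module.End.coe_pow]
    exact x.symm.injective.iterate k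
  have h3 := hinj (h.trans (map_zero _).symm)
  exact inj_on_eig_pow x (ne_neg_of_sign h2 hc) k (map_mem_eig x c ((Commute.refl _).pow_left k) hv) h3

/-- The adjoint of a shift. -/
theorem form_shiftBy_pow {x : V ≃ₗ[F] V} (hx : ∀ u v, B (x u) (x v) = B u v) {c : F} (hc : c * c = 1) :
    ∀ (k : ℕ) (u v : V), B ((shiftBy x c ^ k) u) v =
      B u (((-c) ^ k • x.symm.toLinearMap ^ k) ((shiftBy x c ^ k) v)) := by
  have base : ∀ u v, B (shiftBy x c u) v = B u (((-c) • x.symm.toLinearMap) (shiftBy x c v)) := fun u v => by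
    simp only [shiftBy_apply, LinearMap.smul_apply, LinearEquiv.coe_coe, map_sub, map_smul, LinearMap.sub_apply,
      x.symm_apply_apply, form_symm_right hx, smul_eq_mul, map_neg, LinearMap.neg_apply]
    linear_combination (-(B u (x.symm v))) * hc
  intro k
  induction k with
  | zero => intro u v; simp
  | succ k ih =>
    intro u v
    rw [pow_succ (shiftBy x c), Module.End.mul_apply, ih, base, ← smul_pow]
    set T := (-c) • x.symm.toLinearMap with hT
    have hcomm : Commute T (shiftBy x c) := (commute_symm_shiftBy x c).smul_left _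
    show B u ((T * shiftBy x c * (T ^ k * shiftBy x c ^ k)) v) = _
    rw [← smul_pow, pow_succ' T]
    congr 1
    show _ = (T * T ^ k * (shiftBy x c ^ k * shiftBy x c)) v
    rw [mul_assoc T (shiftBy x c), ← mul_assoc (shiftBy x c), ← (hcomm.pow_left k).eq, mul_assoc (T ^ k),
      ← pow_succ', ← pow_succ, mul_assoc T (T ^ k)]

theorem exists_eq_shiftBy_pow (x : V ≃ₗ[F] V) {c d : F} (hcd : c ≠ d) (k : ℕ) {v : V} (hv : v ∈ eig x c) :
    ∃ w ∈ eig x c, (shiftBy x d ^ k) w = v := by
  have hm : ∀ w ∈ eig x c, (shiftBy x d ^ k) w ∈ eig x c := fun w hw =>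
    map_mem_eig x c ((commute_shiftBy x d c).pow_left k) hw
  have hinj : Function.Injective ((shiftBy x d ^ k).restrict hm) :=
    (injective_iff_map_eq_zero _).2 fun w hw =>
      Subtype.ext (inj_on_eig_pow x hcd k w.2 (congrArg Subtype.val hw))
  obtain ⟨w, hw⟩ := LinearMap.injective_iff_surjective.1 hinj ⟨v, hv⟩
  exact ⟨w.1, w.2, congrArg Subtype.val hw⟩

theorem orth_eig {x : V ≃ₗ[F] V} (hx : ∀ u v, B (x u) (x v) = B u v) (h2 : (2 : F) ≠ 0) {c : F}
    (hc : c = 1 ∨ c = -1) {u v : V} (hu : u ∈ eig x c) (hv : v ∈ eig x (-c)) : B u v = 0 := by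
  obtain ⟨w, -, rfl⟩ := exists_eq_shiftBy_pow x (ne_neg_of_sign h2 hc) (finrank F V) hu
  rw [form_shiftBy_pow hx (by rw [neg_mul_neg]; exact sq_of_sign hc), show (shiftBy x (-c) ^ finrank F V) v = 0 from hv,
    map_zero, map_zero]

/-- The regular part. -/
noncomputable def regPart (x : V ≃ₗ[F] V) : Submodule F V := LinearMap.range (diffInv x ^ finrank F V)

theorem ker_diffInv_le (x : V ≃ₗ[F] V) (h2 : (2 : F) ≠ 0) :
    LinearMap.ker (diffInv x ^ finrank F V) ≤ eig x 1 ⊔ eig x (-1) := by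
  intro v hv
  have h1 : Commute x.symm.toLinearMap (shiftBy x 1 * shiftBy x (-1)) :=
    (commute_symm_shiftBy x 1).mul_right (commute_symm_shiftBy x (-1))
  have hinj : Function.Injective (x.symm.toLinearMap ^ finrank F V) := by
    rw [Module.End.coe_pow]
    exact x.symm.injective.iterate _
  rw [LinearMap.mem_ker, diffInv_eq x (one_mul 1), h1.mul_pow, (commute_shiftBy x 1 (-1)).mul_pow,
    Module.End.mul_apply] at hv
  have hv' : (shiftBy x 1 ^ finrank F V * shiftBy x (-1) ^ finrank F V) v = 0 := hinj (hv.trans (map_zero _).symm)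
  let f : Polynomial F := (Polynomial.X - Polynomial.C 1) ^ finrank F V
  let g : Polynomial F := (Polynomial.X - Polynomial.C (-1)) ^ finrank F V
  have hev : ∀ a : F, Polynomial.aeval x.toLinearMap ((Polynomial.X - Polynomial.C a) ^ finrank F V) =
      shiftBy x a ^ finrank F V := fun a => by
    rw [map_pow, map_sub, Polynomial.aeval_X, Polynomial.aeval_C, Algebra.algebraMap_eq_smul_one]; rfl
  have hco : IsCoprime f g :=
    (Polynomial.isCoprime_X_sub_C_of_isUnit_sub (Ne.isUnit (sub_ne_zero.2 (ne_neg_of_sign h2 (Or.inl rfl))))).pow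
  have h := Polynomial.sup_ker_aeval_eq_ker_aeval_mul_of_coprime x.toLinearMap hco
  rw [map_mul] at h
  simp only [f, g, hev] at h
  show v ∈ eig x 1 ⊔ eig x (-1)
  rw [eig, eig, h, LinearMap.mem_ker]
  exact hv'

theorem eig_le_ker (x : V ≃ₗ[F] V) {c : F} (hc : c * c = 1) :
    eig x c ≤ LinearMap.ker (diffInv x ^ finrank F V) := by
  intro v hv
  have h1 : Commute x.symm.toLinearMap (shiftBy x c * shiftBy x (-c)) :=
    (commute_symm_shiftBy x c).mul_right (commute_symm_shiftBy x (-c))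
  rw [LinearMap.mem_ker, diffInv_eq x hc, h1.mul_pow, (commute_shiftBy x c (-c)).mul_pow,
    ((commute_shiftBy x c (-c)).pow_pow _ _).eq, Module.End.mul_apply, Module.End.mul_apply,
    show (shiftBy x c ^ finrank F V) v = 0 from hv, map_zero, map_zero]

theorem orth_reg {x : V ≃ₗ[F] V} (hx : ∀ u v, B (x u) (x v) = B u v) {c : F} (hc : c * c = 1) {u v : V}
    (hu : u ∈ eig x c) (hv : v ∈ regPart x) : B v u = 0 := by
  obtain ⟨w, rfl⟩ := hv
  rw [(isSkew_diffInv hx).pow_left, LinearMap.mem_ker.1 (eig_le_ker x hc hu), map_zero, mul_zero]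

theorem diffInv_mem_reg (x : V ≃ₗ[F] V) {g : Module.End F V} (hg : Commute g (diffInv x)) :
    ∀ v ∈ regPart x, g v ∈ regPart x := by
  rintro _ ⟨w, rfl⟩
  exact ⟨g w, (LinearMap.congr_fun (hg.pow_right _).eq w).symm⟩

theorem sup_eq_top (x : V ≃ₗ[F] V) (h2 : (2 : F) ≠ 0) : eig x 1 ⊔ eig x (-1) ⊔ regPart x = ⊤ := by
  rw [eq_top_iff]
  refine le_trans (le_of_eq ?_) (sup_le_sup_right (ker_diffInv_le x h2) _)
  have h := LinearMap.eventually_codisjoint_ker_pow_range_pow (diffInv x)
  obtain ⟨N, hN⟩ := Filter.eventually_atTop.1 h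
  have hk : ∀ m, finrank F V ≤ m → LinearMap.ker (diffInv x ^ m) = LinearMap.ker (diffInv x ^ finrank F V) :=
    fun m hm => Module.End.ker_pow_eq_ker_pow_finrank_of_le hm
  have hr : LinearMap.range (diffInv x ^ (max N (finrank F V))) ≤ regPart x := by
    obtain ⟨r, hr⟩ : ∃ r, max N (finrank F V) = finrank F V + r := ⟨_ - _, (Nat.add_sub_cancel' (le_max_right _ _)).symm⟩
    rw [hr, pow_add, Module.End.mul_eq_comp]
    exact LinearMap.range_comp_le_range _ _
  refine (top_le_iff.1 (le_trans (le_of_eq (hN (max N (finrank F V)) (le_max_left _ _)).eq_top.symm) ?_)).symm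
  rw [hk _ (le_max_right _ _)]
  exact sup_le_sup_left hr _

theorem disjoint_reg (x : V ≃ₗ[F] V) {v : V} (hv : v ∈ regPart x)
    (h : (diffInv x ^ finrank F V) v = 0) : v = 0 := by
  obtain ⟨w, rfl⟩ := hv
  rw [← Module.End.mul_apply, ← pow_add] at h
  have : w ∈ LinearMap.ker (diffInv x ^ finrank F V) := by
    rw [← Module.End.ker_pow_eq_ker_pow_finrank_of_le (Nat.le_add_right (finrank F V) (finrank F V))]
    exact h
  exact this

theorem nondeg_eig {x : V ≃ₗ[F] V} (hB : IsEta B η) (hx : ∀ u v, B (x u) (x v) = B u v)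
    (hN : ∀ v, (∀ u, B u v = 0) → v = 0) (h2 : (2 : F) ≠ 0) {c : F} (hc : c = 1 ∨ c = -1) :
    ∀ v ∈ eig x c, (∀ w ∈ eig x c, B w v = 0) → v = 0 := by
  intro v hv h
  refine hN v fun u => ?_
  obtain ⟨ab, hab, r, hr, rfl⟩ := Submodule.mem_sup.1 ((sup_eq_top x h2).symm ▸ Submodule.mem_top (x := u))
  obtain ⟨a, ha, b, hb, rfl⟩ := Submodule.mem_sup.1 hab
  simp only [map_add, LinearMap.add_apply]
  rw [orth_reg hx (sq_of_sign hc) hv hr, add_zero]
  rcases hc with rfl | rfl
  · rw [h a ha, hB v b, orth_eig hx h2 (Or.inl rfl) hv hb, mul_zero, add_zero]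
  · rw [h b hb, hB v a, orth_eig hx h2 (Or.inr rfl) hv (by rwa [neg_neg]), mul_zero, add_zero]

theorem nondeg_reg {x : V ≃ₗ[F] V} (hB : IsEta B η) (hx : ∀ u v, B (x u) (x v) = B u v)
    (hN : ∀ v, (∀ u, B u v = 0) → v = 0) (h2 : (2 : F) ≠ 0) :
    ∀ v ∈ regPart x, (∀ w ∈ regPart x, B w v = 0) → v = 0 := by
  intro v hv h
  refine hN v fun u => ?_
  obtain ⟨ab, hab, r, hr, rfl⟩ := Submodule.mem_sup.1 ((sup_eq_top x h2).symm ▸ Submodule.mem_top (x := u))
  obtain ⟨a, ha, b, hb, rfl⟩ := Submodule.mem_sup.1 hab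
  simp only [map_add, LinearMap.add_apply]
  rw [h r hr, hB v a, orth_reg hx (one_mul 1) ha hv, hB v b, orth_reg hx (sq_of_sign (Or.inr rfl)) hb hv]
  ring

/-- The data of an isometry that is needed for the normal families. -/
structure IsoData (B : V →ₗ[F] V →ₗ[F] F) (η ν : F) (x : V ≃ₗ[F] V) : Prop where
  two : (2 : F) ≠ 0
  eta : η = 1 ∨ η = -1
  nu : ¬IsSquare ν
  form : IsEta B η
  nondeg : ∀ v, (∀ u, B u v = 0) → v = 0
  iso : ∀ u v, B (x u) (x v) = B u v

variable [Fintype F]

theorem exists_fam_eig {x : V ≃ₗ[F] V} (D : IsoData B η ν x) {c : F} (hc : c = 1 ∨ c = -1) :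
    ∃ S : Fam B η ν (diffInv x) (eig x c), S.Spans :=
  exists_fam D.two D.eta D.nu D.form (isSkew_diffInv D.iso) _ (diffInv_mem_eig x c) (nil_on_eig x (sq_of_sign hc))
    (nondeg_eig D.form D.iso D.nondeg D.two hc)

/-- The chosen family. -/
noncomputable def famOf {x : V ≃ₗ[F] V} (D : IsoData B η ν x) {c : F} (hc : c = 1 ∨ c = -1) :
    Fam B η ν (diffInv x) (eig x c) :=
  (exists_fam_eig D hc).choose

theorem famOf_spans {x : V ≃ₗ[F] V} (D : IsoData B η ν x) {c : F} (hc : c = 1 ∨ c = -1) :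
    (famOf D hc).Spans := (exists_fam_eig D hc).choose_spec

/-- The second difference of the kernels gives the multiplicities. -/
theorem mult_ker {x : V ≃ₗ[F] V} (D : IsoData B η ν x) {c : F} (hc : c = 1 ∨ c = -1) (k : ℕ) :
    (famOf D hc).mult (k + 1) + finrank F (LinearMap.ker (shiftBy x c ^ k)) +
        finrank F (LinearMap.ker (shiftBy x c ^ (k + 2))) =
      2 * finrank F (LinearMap.ker (shiftBy x c ^ (k + 1))) := by
  have key : ∀ j, finrank F ((eig x c).map (diffInv x ^ j)) + finrank F (LinearMap.ker (shiftBy x c ^ j)) =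
      finrank F (eig x c) := by
    intro j
    let g := (diffInv x ^ j).domRestrict (eig x c)
    have hr : LinearMap.range g = (eig x c).map (diffInv x ^ j) := LinearMap.range_domRestrict _ _
    have hk : (LinearMap.ker g).map (eig x c).subtype = LinearMap.ker (shiftBy x c ^ j) := by
      ext v
      constructor
      · rintro ⟨w, hw, rfl⟩
        exact (ker_diffInv_pow_eig x D.two hc j w.2).1 hw
      · intro hv
        have hve : v ∈ eig x c := (shiftBy_pow_eq_zero_iff x c v).2 ⟨j, hv⟩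
        exact ⟨⟨v, hve⟩, (ker_diffInv_pow_eig x D.two hc j hve).2 hv, rfl⟩
    rw [← hr, ← hk, (Submodule.equivMapOfInjective _ (eig x c).subtype_injective (LinearMap.ker g)).symm.finrank_eq]
    exact LinearMap.finrank_range_add_finrank_ker g
  have h := (famOf D hc).mult_rank (isSkew_diffInv D.iso) (diffInv_mem_eig x c) (famOf_spans D hc) k
  have := key k
  have := key (k + 1)
  have := key (k + 2)
  omega

theorem ker_intertwine {x y : V ≃ₗ[F] V} (e : V ≃ₗ[F] V) (he : ∀ v, e (x v) = y (e v)) (c : F) (k : ℕ) (v : V) :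
    (shiftBy y c ^ k) (e v) = e ((shiftBy x c ^ k) v) := by
  induction k with
  | zero => simp
  | succ k ih =>
    rw [pow_succ', pow_succ', Module.End.mul_apply, Module.End.mul_apply, ih, shiftBy_apply, shiftBy_apply,
      map_sub, map_smul, he]

theorem finrank_ker_intertwine {x y : V ≃ₗ[F] V} (e : V ≃ₗ[F] V) (he : ∀ v, e (x v) = y (e v)) (c : F) (k : ℕ) :
    finrank F (LinearMap.ker (shiftBy x c ^ k)) = finrank F (LinearMap.ker (shiftBy y c ^ k)) := by
  have h : (LinearMap.ker (shiftBy x c ^ k)).map (e : V →ₗ[F] V) = LinearMap.ker (shiftBy y c ^ k) := by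
    ext v
    obtain ⟨v, rfl⟩ := e.surjective v
    rw [LinearMap.mem_ker, ker_intertwine e he]
    constructor
    · rintro ⟨w, hw, hwv⟩
      rw [e.injective hwv] at hw
      rw [LinearMap.mem_ker.1 hw, map_zero]
    · intro hv
      exact ⟨v, e.injective (hv.trans (map_zero e).symm), rfl⟩
  rw [← h, LinearEquiv.finrank_map_eq]

theorem mult_eq {x y : V ≃ₗ[F] V} (D : IsoData B η ν x) (E : IsoData B η ν y) (e : V ≃ₗ[F] V)
    (he : ∀ v, e (x v) = y (e v)) {c : F} (hc : c = 1 ∨ c = -1) (k : ℕ) :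
    (famOf D hc).mult k = (famOf E hc).mult k := by
  rcases k with _ | k
  · rw [Fam.mult_zero, Fam.mult_zero]
  · have h1 := mult_ker D hc k
    have h2 := mult_ker E hc k
    rw [finrank_ker_intertwine e he c k, finrank_ker_intertwine e he c (k + 1),
      finrank_ker_intertwine e he c (k + 2)] at h1
    omega

/-- Two nilpotent perturbations of a sign with the same difference with their inverses are equal. -/
theorem eq_of_diff {R : Type*} [Ring R] [Algebra F R] (h2 : (2 : F) ≠ 0) {c : F} (hc : c * c = 1) {X Xi X' Xi' : R}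
    (h1 : X * Xi = 1) (h1' : Xi' * X' = 1) (hN : X - Xi = X' - Xi') (ha : IsNilpotent (X - algebraMap F R c))
    (ha' : IsNilpotent (X' - algebraMap F R c)) : X = X' := by
  set a := X - algebraMap F R c
  set a' := X' - algebraMap F R c
  set L : Module.End F R := c • LinearMap.mulLeft F a + c • LinearMap.mulRight F a' +
    LinearMap.mulLeft F a * LinearMap.mulRight F a'
  have hl : IsNilpotent (LinearMap.mulLeft F a) := by
    obtain ⟨m, hm⟩ := ha
    exact ⟨m, by rw [LinearMap.pow_mulLeft, hm, LinearMap.mulLeft_zero_eq_zero]⟩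
  have hr : IsNilpotent (LinearMap.mulRight F a') := by
    obtain ⟨m, hm⟩ := ha'
    exact ⟨m, by rw [LinearMap.pow_mulRight, hm, LinearMap.mulRight_zero_eq_zero]⟩
  have hcm : Commute (LinearMap.mulLeft F a) (LinearMap.mulRight F a') := LinearMap.commute_mulLeft_right a a'
  have hL : IsNilpotent L := by
    refine Commute.isNilpotent_add ?_ (Commute.isNilpotent_add ((hcm.smul_left c).smul_right c) (hl.smul c)
      (hr.smul c)) (hcm.isNilpotent_mul_right hl)
    exact (((Commute.refl _).mul_right hcm).smul_left c).add_left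
      ((hcm.symm.mul_right (Commute.refl _)).smul_left c)
  have hD : L (X - X') = (-2 : F) • (X - X') := by
    have e1 : Xi - Xi' = X - X' := by
      rw [show Xi = X - (X' - Xi') from by rw [← hN]; abel]
      abel
    have e2 : X * (X - X') * X' = -(X - X') := by
      rw [← e1, mul_sub, h1, sub_mul, one_mul, mul_assoc, h1', mul_one, e1, neg_sub]
    have e3 : X * (X - X') * X' = L (X - X') + (X - X') := by
      simp only [L, LinearMap.add_apply, LinearMap.smul_apply, Module.End.mul_apply, LinearMap.mulLeft_apply,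
        LinearMap.mulRight_apply]
      generalize X - X' = D
      rw [show X = c • 1 + a by simp [a, Algebra.algebraMap_eq_smul_one],
        show X' = c • 1 + a' by simp [a', Algebra.algebraMap_eq_smul_one]]
      simp only [add_mul, mul_add, smul_mul_assoc, mul_smul_comm, one_mul, mul_one, smul_add, smul_smul, hc,
        one_smul, mul_assoc]
      abel
    rw [neg_smul, two_smul]
    rw [e3] at e2
    rw [eq_sub_of_add_eq e2]
    abel
  have hpow : ∀ m : ℕ, (L ^ m) (X - X') = (-2 : F) ^ m • (X - X') := by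
    intro m
    induction m with
    | zero => simp
    | succ m ih => rw [pow_succ', Module.End.mul_apply, ih, map_smul, hD, smul_smul, pow_succ]
  obtain ⟨m, hm⟩ := hL
  have h := hpow m
  rw [hm, LinearMap.zero_apply] at h
  exact sub_eq_zero.1 ((smul_eq_zero.1 h.symm).resolve_left (pow_ne_zero _ (neg_ne_zero.2 h2)))

/-- The intertwining on an eigenspace. -/
theorem exists_intertwine_eig {x y : V ≃ₗ[F] V} (D : IsoData B η ν x) (E : IsoData B η ν y) (e : V ≃ₗ[F] V)
    (he : ∀ v, e (x v) = y (e v)) {c : F} (hc : c = 1 ∨ c = -1)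
    (hbit : ∀ k, (famOf D hc).Bit k ↔ (famOf E hc).Bit k) :
    ∃ f : eig x c ≃ₗ[F] eig y c, (∀ v w, B (f v : V) (f w : V) = B (v : V) (w : V)) ∧
      ∀ v : eig x c, (f ⟨x v, map_mem_eig x c ((Commute.refl _).sub_right ((Commute.one_right _).smul_right c)) v.2⟩ : V) =
        y (f v : V) := by
  classical
  obtain ⟨φ, h1, h2, h3⟩ := (famOf D hc).exists_equiv (famOf E hc) D.two (fun h => D.nu (h ▸ IsSquare.one))
    (fun k => mult_eq D E e he hc k) hbit
  obtain ⟨f, hf, hfn⟩ := (famOf D hc).exists_intertwine (famOf E hc) (isSkew_diffInv D.iso) (isSkew_diffInv E.iso)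
    (diffInv_mem_eig x c) (diffInv_mem_eig y c) (famOf_spans D hc) (famOf_spans E hc) φ h1 h2 h3
  refine ⟨f, hf, fun v => ?_⟩
  have hcx : ∀ z : V ≃ₗ[F] V, ∀ w ∈ eig z c, z.toLinearMap w ∈ eig z c := fun z w hw =>
    map_mem_eig z c ((Commute.refl _).sub_right ((Commute.one_right _).smul_right c)) hw
  have hci : ∀ z : V ≃ₗ[F] V, ∀ w ∈ eig z c, z.symm.toLinearMap w ∈ eig z c := fun z w hw =>
    map_mem_eig z c (commute_symm_shiftBy z c) hw
  let X : Module.End F (eig x c) := x.toLinearMap.restrict (hcx x)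
  let Xi : Module.End F (eig x c) := x.symm.toLinearMap.restrict (hci x)
  let X' : Module.End F (eig x c) := f.symm.conj (y.toLinearMap.restrict (hcx y))
  let Xi' : Module.End F (eig x c) := f.symm.conj (y.symm.toLinearMap.restrict (hci y))
  have hX' : ∀ w, (f (X' w) : V) = y (f w : V) := fun w => by
    show (f (f.symm _) : V) = _
    rw [f.apply_symm_apply]
    rfl
  have hXi' : ∀ w, (f (Xi' w) : V) = y.symm (f w : V) := fun w => by
    show (f (f.symm _) : V) = _
    rw [f.apply_symm_apply]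
    rfl
  have k1 : X * Xi = 1 := LinearMap.ext fun w => Subtype.ext (x.apply_symm_apply _)
  have k2 : Xi' * X' = 1 := LinearMap.ext fun w => f.injective (Subtype.ext (by
    show (f (Xi' (X' w)) : V) = (f w : V)
    rw [hXi', hX', y.symm_apply_apply]))
  have k3 : X - Xi = X' - Xi' := LinearMap.ext fun w => f.injective (Subtype.ext (by
    rw [LinearMap.sub_apply X', map_sub f, Submodule.coe_sub, hX', hXi']
    exact hfn w))
  have hN : ∀ (z : V ≃ₗ[F] V) (Z : Module.End F (eig x c)) (g : eig x c ≃ₗ[F] eig z c),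
      (∀ w, (g (Z w) : V) = z (g w : V)) → IsNilpotent (Z - algebraMap F _ c) := by
    intro z Z g hg
    refine ⟨finrank F V, LinearMap.ext fun w => g.injective (Subtype.ext ?_)⟩
    have hk : ∀ m, (g (((Z - algebraMap F _ c) ^ m) w) : V) = (shiftBy z c ^ m) (g w : V) := by
      intro m
      induction m with
      | zero => simp
      | succ m ih =>
        rw [pow_succ', pow_succ', Module.End.mul_apply, Module.End.mul_apply, LinearMap.sub_apply,
          Module.algebraMap_end_apply, map_sub, map_smul, Submodule.coe_sub, Submodule.coe_smul, hg, ih,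
          shiftBy_apply]
    rw [hk, LinearMap.zero_apply, map_zero]
    exact (g w).2
  have hXX : X = X' := eq_of_diff D.two (sq_of_sign hc) k1 k2 k3 (hN x X (LinearEquiv.refl F _) fun w => rfl)
    (hN y X' f hX')
  rw [← hX' v]
  exact congrArg (fun T : Module.End F (eig x c) => ((f (T v) : eig y c) : V)) hXX

theorem map_x_mem_eig (x : V ≃ₗ[F] V) (c : F) {v : V} (hv : v ∈ eig x c) : x v ∈ eig x c :=
  map_mem_eig x c ((Commute.refl x.toLinearMap).sub_right ((Commute.one_right _).smul_right c)) hv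

theorem map_x_mem_reg (x : V ≃ₗ[F] V) {v : V} (hv : v ∈ regPart x) : x v ∈ regPart x :=
  diffInv_mem_reg x ((Commute.refl _).sub_right (commute_symm (Commute.refl x.toLinearMap))) v hv

/-- The intertwining on the regular parts. -/
theorem exists_intertwine_reg {x y : V ≃ₗ[F] V} (D : IsoData B η ν x) (E : IsoData B η ν y) (e : V ≃ₗ[F] V)
    (he : ∀ v, e (x v) = y (e v)) :
    ∃ h : regPart x ≃ₗ[F] regPart y, (∀ v w, B (h v : V) (h w : V) = B (v : V) (w : V)) ∧
      ∀ v : regPart x, (h ⟨x v, map_x_mem_reg x v.2⟩ : V) = y (h v : V) := by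
  classical
  have hcR : ∀ z : V ≃ₗ[F] V, ∀ v ∈ regPart z, z.toLinearMap v ∈ regPart z := fun z v hv =>
    diffInv_mem_reg z ((Commute.refl _).sub_right (commute_symm (Commute.refl _))) v hv
  have hsR : ∀ z : V ≃ₗ[F] V, ∀ v ∈ regPart z, z.symm.toLinearMap v ∈ regPart z := fun z v hv =>
    diffInv_mem_reg z ((commute_symm (Commute.refl _)).symm.sub_right (Commute.refl _)) v hv
  let res : ∀ z : V ≃ₗ[F] V, regPart z ≃ₗ[F] regPart z := fun z =>
    LinearEquiv.ofLinearMap (z.toLinearMap.restrict (hcR z)) (z.symm.toLinearMap.restrict (hsR z))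
      (LinearMap.ext fun v => Subtype.ext (z.apply_symm_apply _))
      (LinearMap.ext fun v => Subtype.ext (z.symm_apply_apply _))
  have heR : (regPart x).map (e : V →ₗ[F] V) = regPart y := by
    have hp : ∀ k v, e ((diffInv x ^ k) v) = (diffInv y ^ k) (e v) := by
      intro k
      induction k with
      | zero => intro v; simp
      | succ k ih => intro v; rw [pow_succ', pow_succ', Module.End.mul_apply, Module.End.mul_apply,
          intertwine_diffInv he, ih]
    ext v
    constructor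
    · rintro ⟨_, ⟨w, rfl⟩, rfl⟩
      exact ⟨e w, (hp _ w).symm⟩
    · rintro ⟨w, rfl⟩
      refine ⟨_, ⟨e.symm w, rfl⟩, ?_⟩
      rw [LinearEquiv.coe_coe, hp, e.apply_symm_apply]
  let eR : regPart x ≃ₗ[F] regPart y := (e.submoduleMap (regPart x)).trans (LinearEquiv.ofEq _ _ heR)
  obtain ⟨h, hh, hhx⟩ := exists_intertwine_regular (B := B.compl₁₂ (regPart y).subtype (regPart y).subtype)
    (B' := B.compl₁₂ (regPart x).subtype (regPart x).subtype) D.two D.eta (fun u v => D.form _ _)
    (fun u v => D.form _ _)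
    (fun v hv => Subtype.ext (nondeg_reg E.form E.iso E.nondeg E.two v v.2 fun w hw => hv ⟨w, hw⟩))
    (fun v hv => Subtype.ext (nondeg_reg D.form D.iso D.nondeg D.two v v.2 fun w hw => hv ⟨w, hw⟩))
    (res x) (res y) (fun u v => D.iso _ _) (fun u v => E.iso _ _)
    ((injective_iff_map_eq_zero _).2 fun v hv => Subtype.ext (disjoint_reg x v.2 (by
      have hv' : diffInv x (v : V) = 0 := congrArg Subtype.val hv
      rcases Nat.eq_zero_or_pos (finrank F V) with h0 | h0
      · haveI := Module.finrank_zero_iff.1 h0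
        exact Subsingleton.elim _ _
      · obtain ⟨k, hk⟩ : ∃ k, finrank F V = k + 1 := ⟨finrank F V - 1, by omega⟩
        rw [hk, pow_succ, Module.End.mul_apply, hv', map_zero])))
    eR (fun v => Subtype.ext (he _))
  exact ⟨h, hh, fun v => congrArg Subtype.val (hhx v)⟩

/-- The sum of the three parts. -/
theorem exists_sumEquiv {x : V ≃ₗ[F] V} (D : IsoData B η ν x) :
    ∃ T : ((eig x 1 × eig x (-1)) × regPart x) ≃ₗ[F] V,
      (∀ a b r, T ((a, b), r) = (a : V) + b + r) ∧
      ∀ a a' b b' r r', B (T ((a, b), r)) (T ((a', b'), r')) =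
        B (a : V) a' + B (b : V) b' + B (r : V) r' := by
  classical
  let T : ∀ z : V ≃ₗ[F] V, (eig z 1 × eig z (-1)) × regPart z →ₗ[F] V := fun z =>
    LinearMap.coprod (LinearMap.coprod (eig z 1).subtype (eig z (-1)).subtype) (regPart z).subtype
  have hT : ∀ z, Function.Bijective (T z) := by
    intro z
    refine ⟨(injective_iff_map_eq_zero _).2 ?_, fun v => ?_⟩
    · rintro ⟨⟨a, b⟩, r⟩ h0
      simp only [T, LinearMap.coprod_apply, Submodule.coe_subtype] at h0
      have hr : (r : V) = 0 := disjoint_reg z r.2 (by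
        have hh := congrArg (diffInv z ^ finrank F V) h0
        rwa [map_add, map_add, LinearMap.mem_ker.1 (eig_le_ker z (one_mul 1) a.2),
          LinearMap.mem_ker.1 (eig_le_ker z (sq_of_sign (Or.inr rfl)) b.2), add_zero, zero_add, map_zero] at hh)
      rw [hr, add_zero, add_eq_zero_iff_eq_neg] at h0
      have ha : (a : V) = 0 := inj_on_eig_pow z (ne_neg_of_sign D.two (Or.inl rfl)) (finrank F V) a.2 (by
        rw [h0, map_neg, show (shiftBy z (-1) ^ finrank F V) (b : V) = 0 from b.2, neg_zero])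
      rw [ha, zero_eq_neg] at h0
      simp [Subtype.ext_iff, Prod.ext_iff, ha, h0, hr]
    · obtain ⟨ab, hab, r, hr, rfl⟩ := Submodule.mem_sup.1 ((sup_eq_top z D.two).symm ▸ Submodule.mem_top (x := v))
      obtain ⟨a, ha, b, hb, rfl⟩ := Submodule.mem_sup.1 hab
      exact ⟨((⟨a, ha⟩, ⟨b, hb⟩), ⟨r, hr⟩), rfl⟩
  refine ⟨LinearEquiv.ofBijective (T x) (hT x), fun a b r => rfl, fun a a' b b' r r' => ?_⟩
  show B ((a : V) + b + r) ((a' : V) + b' + r') = _
  simp only [map_add, LinearMap.add_apply]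
  rw [orth_eig D.iso D.two (Or.inl rfl) a.2 b'.2, D.form a'.1 b.1, orth_eig D.iso D.two (Or.inl rfl) a'.2 b.2,
    orth_reg D.iso (one_mul 1) a'.2 r.2, orth_reg D.iso (sq_of_sign (Or.inr rfl)) b'.2 r.2, D.form r'.1 a.1,
    orth_reg D.iso (one_mul 1) a.2 r'.2, D.form r'.1 b.1, orth_reg D.iso (sq_of_sign (Or.inr rfl)) b.2 r'.2]
  ring

/-- Similar isometries with the same signs are similar by an isometry. -/
theorem exists_intertwine_isometry {x y : V ≃ₗ[F] V} (D : IsoData B η ν x) (E : IsoData B η ν y) (e : V ≃ₗ[F] V)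
    (he : ∀ v, e (x v) = y (e v))
    (hbit : ∀ (c : F) (hc : c = 1 ∨ c = -1) k, (famOf D hc).Bit k ↔ (famOf E hc).Bit k) :
    ∃ u : V ≃ₗ[F] V, (∀ v w, B (u v) (u w) = B v w) ∧ ∀ v, u (x v) = y (u v) := by
  obtain ⟨f, hf, hfx⟩ := exists_intertwine_eig D E e he (Or.inl rfl) (hbit 1 (Or.inl rfl))
  obtain ⟨g, hg, hgx⟩ := exists_intertwine_eig D E e he (Or.inr rfl) (hbit (-1) (Or.inr rfl))
  obtain ⟨h, hh, hhx⟩ := exists_intertwine_reg D E e he
  obtain ⟨T₁, hT₁, hB₁⟩ := exists_sumEquiv D
  obtain ⟨T₂, hT₂, hB₂⟩ := exists_sumEquiv E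
  let u : V ≃ₗ[F] V := T₁.symm.trans (((f.prodCongr g).prodCongr h).trans T₂)
  have hu : ∀ a b r, u (T₁ ((a, b), r)) = T₂ ((f a, g b), h r) := fun a b r => by
    simp only [u, LinearEquiv.trans_apply, LinearEquiv.symm_apply_apply]
    rfl
  refine ⟨u, fun v w => ?_, fun v => ?_⟩
  · obtain ⟨⟨⟨a, b⟩, r⟩, rfl⟩ := T₁.surjective v
    obtain ⟨⟨⟨a', b'⟩, r'⟩, rfl⟩ := T₁.surjective w
    rw [hu, hu, hB₂, hB₁, hf, hg, hh]
  · obtain ⟨⟨⟨a, b⟩, r⟩, rfl⟩ := T₁.surjective v
    rw [hu, hT₂, map_add y, map_add y, ← hfx, ← hgx, ← hhx,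
      show x (T₁ ((a, b), r)) =
        T₁ ((⟨x a, map_x_mem_eig x 1 a.2⟩, ⟨x b, map_x_mem_eig x (-1) b.2⟩), ⟨x r, map_x_mem_reg x r.2⟩) by
        rw [hT₁, hT₁, map_add, map_add], hu, hT₂]

end CfsgLib.ClassNumberForm
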