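import Cfsg.Agent.Lib.KnownA.ClassNumberForm.Family
import Cfsg.Agent.Lib.KnownA.ClassNumberSU.Intertwine

/-!
# Existence of normal families

Every nilpotent skew map of a non-degenerate symmetric or alternating form over a finite field of odd
characteristic has a spanning normal family.
-/

set_option autoImplicit false
set_option linter.unusedSectionVars false

open Module

namespace CfsgLib.ClassNumberForm

open CfsgLib.Classical

variable {F : Type*} [Field F] {V : Type*} [AddCommGroup V] [Module F V]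
  {B : V →ₗ[F] V →ₗ[F] F} {η ν : F} {n : Module.End F V}

theorem sign_cases (hη : η = 1 ∨ η = -1) (c : ℕ) : η * (-1) ^ c = 1 ∨ η * (-1) ^ c = -1 := by
  rcases hη with rfl | rfl <;> rcases neg_one_pow_eq_or F c with h | h <;> simp [h]

theorem self_eq_zero (h2 : (2 : F) ≠ 0) (hB : IsEta B η) (hn : IsSkew B n) {c : ℕ}
    (hc : η * (-1) ^ c = -1) (u : V) : B u ((n ^ c) u) = 0 := by
  have h := hn.swap hB c u u
  rw [hc] at h
  exact (mul_eq_zero.1 (show (2 : F) * B u ((n ^ c) u) = 0 by linear_combination h)).resolve_left h2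

theorem expand (hn : IsSkew B n) (c K : ℕ) (a b : F) (x y z w : V) :
    B (x + a • (n ^ K) y) ((n ^ c) (z + b • (n ^ K) w)) =
      B x ((n ^ c) z) + b * B x ((n ^ (c + K)) w) + a * ((-1) ^ K * B y ((n ^ (c + K)) z)) +
        a * (b * ((-1) ^ K * B y ((n ^ (c + K + K)) w))) := by
  simp only [map_add, map_smul, LinearMap.add_apply, LinearMap.smul_apply, smul_eq_mul, hn.pow_left,
    ← Module.End.mul_apply, ← pow_add]
  rw [Nat.add_comm K c, show K + (c + K) = c + K + K by omega]
  ring

section Pieces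

variable {W : Submodule F V} (hW : ∀ w ∈ W, n w ∈ W) {e : ℕ} (he : 0 < e)
  (hne : ∀ w ∈ W, (n ^ e) w = 0) (h2 : (2 : F) ≠ 0) (hη : η = 1 ∨ η = -1) (hB : IsEta B η) (hn : IsSkew B n)
include hW he hne h2 hη hB hn

theorem pow_high {c : ℕ} (hc : e ≤ c) {w : V} (hw : w ∈ W) : (n ^ c) w = 0 := by
  obtain ⟨r, rfl⟩ : ∃ r, c = r + e := ⟨c - e, by omega⟩
  rw [pow_add, Module.End.mul_apply, hne w hw, map_zero]

theorem pow_mem' {w : V} (hw : w ∈ W) : ∀ a, (n ^ a) w ∈ W := by
  intro a
  induction a with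
  | zero => simpa using hw
  | succ a ih => rw [pow_succ', Module.End.mul_apply]; exact hW _ ih

theorem exists_single (hs : Single η e) {δ : F} (hδ : δ ≠ 0) {u₀ : V} (hu₀ : u₀ ∈ W)
    (h₀ : B u₀ ((n ^ (e - 1)) u₀) = δ) :
    ∃ u ∈ W, B u ((n ^ (e - 1)) u) = δ ∧ ∀ c, c + 1 ≠ e → B u ((n ^ c) u) = 0 := by
  have key : ∀ k, ∃ u ∈ W, B u ((n ^ (e - 1)) u) = δ ∧
      ∀ j, 1 ≤ j → j ≤ k → j < e → B u ((n ^ (e - 1 - j)) u) = 0 := by
    intro k
    induction k with
    | zero => exact ⟨u₀, hu₀, h₀, fun j h h' => by omega⟩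
    | succ k ih =>
      obtain ⟨u, hu, htop, hlow⟩ := ih
      by_cases hk : k + 1 < e
      swap
      · exact ⟨u, hu, htop, fun j h h' h'' => hlow j h (by omega) h''⟩
      rcases Nat.even_or_odd (k + 1) with hK | hK
      swap
      · refine ⟨u, hu, htop, fun j h h' h'' => ?_⟩
        rcases eq_or_ne j (k + 1) with rfl | hj
        · refine self_eq_zero h2 hB hn ?_ u
          have hp : (-1 : F) ^ (e - 1 - (k + 1)) * (-1) ^ (k + 1) = (-1) ^ (e - 1) := by
            rw [← pow_add, Nat.sub_add_cancel (by omega)]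
          rw [hK.neg_one_pow] at hp
          unfold Single at hs
          linear_combination (-1 : F) * hs - η * hp
        · exact hlow j h (by omega) h''
      set g := B u ((n ^ (e - 1 - (k + 1))) u) with hg
      have hout : ∀ c, e ≤ c → B u ((n ^ c) u) = 0 := fun c hc => by
        rw [pow_high hW he hne h2 hη hB hn hc hu, map_zero]
      refine ⟨u + (-g / (2 * δ)) • (n ^ (k + 1)) u,
        add_mem hu (W.smul_mem _ (pow_mem' hW he hne h2 hη hB hn hu _)), ?_, fun j h h' h'' => ?_⟩
      · rw [expand hn, hK.neg_one_pow, hout (e - 1 + (k + 1)) (by omega),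
          hout (e - 1 + (k + 1) + (k + 1)) (by omega), htop]
        ring
      · rcases eq_or_ne j (k + 1) with rfl | hj
        · rw [expand hn, hK.neg_one_pow, show e - 1 - (k + 1) + (k + 1) = e - 1 by omega,
            hout (e - 1 + (k + 1)) (by omega), htop, ← hg]
          field_simp
          ring
        · rw [expand hn, hout (e - 1 - j + (k + 1)) (by omega), hout (e - 1 - j + (k + 1) + (k + 1)) (by omega),
            hlow j h (by omega) h'']
          ring
  obtain ⟨u, hu, htop, hlow⟩ := key e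
  refine ⟨u, hu, htop, fun c hc => ?_⟩
  rcases lt_or_ge c e with h | h
  · have := hlow (e - 1 - c) (by omega) (by omega) (by omega)
    rwa [show e - 1 - (e - 1 - c) = c by omega] at this
  · rw [pow_high hW he hne h2 hη hB hn h hu, map_zero]

theorem exists_pair (hs : ¬Single η e) {u₀ v₀ : V} (hu₀ : u₀ ∈ W) (hv₀ : v₀ ∈ W)
    (h₀ : B u₀ ((n ^ (e - 1)) v₀) = 1) :
    ∃ u ∈ W, ∃ v ∈ W, B u ((n ^ (e - 1)) v) = 1 ∧ B v ((n ^ (e - 1)) u) = -1 ∧
      (∀ c, B u ((n ^ c) u) = 0 ∧ B v ((n ^ c) v) = 0) ∧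
      ∀ c, c + 1 ≠ e → B u ((n ^ c) v) = 0 ∧ B v ((n ^ c) u) = 0 := by
  have hsg : η * (-1) ^ (e - 1) = -1 := (sign_cases hη _).resolve_left hs
  have key : ∀ k, ∃ u ∈ W, ∃ v ∈ W, B u ((n ^ (e - 1)) v) = 1 ∧
      ∀ j, 1 ≤ j → j ≤ k → j < e → B u ((n ^ (e - 1 - j)) v) = 0 ∧ B u ((n ^ (e - 1 - j)) u) = 0 ∧
        B v ((n ^ (e - 1 - j)) v) = 0 := by
    intro k
    induction k with
    | zero => exact ⟨u₀, hu₀, v₀, hv₀, h₀, fun j h h' => by omega⟩
    | succ k ih =>
      obtain ⟨u, hu, v, hv, htop, hlow⟩ := ih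
      by_cases hk : k + 1 < e
      swap
      · exact ⟨u, hu, v, hv, htop, fun j h h' h'' => hlow j h (by omega) h''⟩
      have hout : ∀ x ∈ W, ∀ (y : V) c, e ≤ c → B y ((n ^ c) x) = 0 := fun x hx y c hc => by
        rw [pow_high hW he hne h2 hη hB hn hc hx, map_zero]
      have hvu : B v ((n ^ (e - 1)) u) = -1 := by rw [hn.swap hB, hsg, htop, mul_one]
      have huu : B u ((n ^ (e - 1)) u) = 0 := self_eq_zero h2 hB hn hsg u
      have hvv : B v ((n ^ (e - 1)) v) = 0 := self_eq_zero h2 hB hn hsg v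
      -- the cross term
      set g := B u ((n ^ (e - 1 - (k + 1))) v) with hg
      set v₁ := v + (-g) • (n ^ (k + 1)) v with hv₁
      have hv₁m : v₁ ∈ W := add_mem hv (W.smul_mem _ (pow_mem' hW he hne h2 hη hB hn hv _))
      have e1 : ∀ c, B u ((n ^ c) v₁) = B u ((n ^ c) v) + -g * B u ((n ^ (c + (k + 1))) v) := fun c => by
        rw [hv₁, map_add, map_smul, map_add, map_smul, smul_eq_mul, ← Module.End.mul_apply, ← pow_add]
      have htop₁ : B u ((n ^ (e - 1)) v₁) = 1 := by
        rw [e1, hout v hv u (e - 1 + (k + 1)) (by omega), htop]; ring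
      have hcross : B u ((n ^ (e - 1 - (k + 1))) v₁) = 0 := by
        rw [e1, show e - 1 - (k + 1) + (k + 1) = e - 1 by omega, htop, ← hg]; ring
      have hlow₁ : ∀ j, 1 ≤ j → j ≤ k → j < e → B u ((n ^ (e - 1 - j)) v₁) = 0 ∧
          B v₁ ((n ^ (e - 1 - j)) v₁) = 0 := by
        intro j h h' h''
        obtain ⟨a, -, b⟩ := hlow j h h' h''
        refine ⟨?_, ?_⟩
        · rw [e1, hout v hv u (e - 1 - j + (k + 1)) (by omega), a]; ring
        · rw [hv₁, expand hn, hout v hv v (e - 1 - j + (k + 1)) (by omega),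
            hout v hv v (e - 1 - j + (k + 1) + (k + 1)) (by omega), b]
          ring
      have hvv₁ : B v₁ ((n ^ (e - 1)) v₁) = 0 := self_eq_zero h2 hB hn hsg v₁
      have hvu₁ : B v₁ ((n ^ (e - 1)) u) = -1 := by rw [hn.swap hB, hsg, htop₁, mul_one]
      clear_value v₁
      rcases Nat.even_or_odd (k + 1) with hK | hK
      · have hc' : η * (-1) ^ (e - 1 - (k + 1)) = -1 := by
          have hp : (-1 : F) ^ (e - 1 - (k + 1)) * (-1) ^ (k + 1) = (-1) ^ (e - 1) := by
            rw [← pow_add, Nat.sub_add_cancel (by omega)]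
          rw [hK.neg_one_pow, mul_one] at hp
          rw [hp, hsg]
        refine ⟨u, hu, v₁, hv₁m, htop₁, fun j h h' h'' => ?_⟩
        rcases eq_or_ne j (k + 1) with rfl | hj
        · exact ⟨hcross, self_eq_zero h2 hB hn hc' u, self_eq_zero h2 hB hn hc' v₁⟩
        · exact ⟨(hlow₁ j h (by omega) h'').1, (hlow j h (by omega) h'').2.1, (hlow₁ j h (by omega) h'').2⟩
      · set α := -B u ((n ^ (e - 1 - (k + 1))) u) / 2 with hα
        set γ := B v₁ ((n ^ (e - 1 - (k + 1))) v₁) / 2 with hγ
        refine ⟨u + α • (n ^ (k + 1)) v₁, add_mem hu (W.smul_mem _ (pow_mem' hW he hne h2 hη hB hn hv₁m _)),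
          v₁ + γ • (n ^ (k + 1)) u, add_mem hv₁m (W.smul_mem _ (pow_mem' hW he hne h2 hη hB hn hu _)), ?_,
          fun j h h' h'' => ?_⟩
        · rw [expand hn, hout u hu u (e - 1 + (k + 1)) (by omega), hout v₁ hv₁m v₁ (e - 1 + (k + 1)) (by omega),
            hout u hu v₁ (e - 1 + (k + 1) + (k + 1)) (by omega), htop₁]
          ring
        · rcases eq_or_ne j (k + 1) with rfl | hj
          · rw [expand hn, expand hn, expand hn, hK.neg_one_pow,
              show e - 1 - (k + 1) + (k + 1) = e - 1 by omega, htop₁, hvu₁, hvv₁, huu,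
              hout v₁ hv₁m v₁ (e - 1 + (k + 1)) (by omega), hout u hu v₁ (e - 1 + (k + 1)) (by omega),
              hout u hu u (e - 1 + (k + 1)) (by omega)]
            refine ⟨by rw [hcross]; ring, ?_, ?_⟩
            · rw [hα]; field_simp; ring
            · rw [hγ]; field_simp; ring
          · obtain ⟨a, b⟩ := hlow₁ j h (by omega) h''
            rw [expand hn, expand hn, expand hn, hout u hu u (e - 1 - j + (k + 1)) (by omega),
              hout u hu v₁ (e - 1 - j + (k + 1)) (by omega), hout v₁ hv₁m u (e - 1 - j + (k + 1)) (by omega),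
              hout v₁ hv₁m v₁ (e - 1 - j + (k + 1)) (by omega),
              hout u hu u (e - 1 - j + (k + 1) + (k + 1)) (by omega),
              hout v₁ hv₁m v₁ (e - 1 - j + (k + 1) + (k + 1)) (by omega),
              hout u hu v₁ (e - 1 - j + (k + 1) + (k + 1)) (by omega), a, b, (hlow j h (by omega) h'').2.1]
            exact ⟨by ring, by ring, by ring⟩
  obtain ⟨u, hu, v, hv, htop, hlow⟩ := key e
  have hvu : B v ((n ^ (e - 1)) u) = -1 := by rw [hn.swap hB, hsg, htop, mul_one]
  have hall : ∀ c, c + 1 ≠ e → B u ((n ^ c) v) = 0 ∧ B u ((n ^ c) u) = 0 ∧ B v ((n ^ c) v) = 0 := by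
    intro c hc
    rcases lt_or_ge c e with h | h
    · have := hlow (e - 1 - c) (by omega) (by omega) (by omega)
      rwa [show e - 1 - (e - 1 - c) = c by omega] at this
    · simp [pow_high hW he hne h2 hη hB hn h hu, pow_high hW he hne h2 hη hB hn h hv]
  refine ⟨u, hu, v, hv, htop, hvu, fun c => ?_, fun c hc => ⟨(hall c hc).1, ?_⟩⟩
  · rcases eq_or_ne (c + 1) e with h | h
    · have hc : c = e - 1 := by omega
      subst hc
      exact ⟨self_eq_zero h2 hB hn hsg u, self_eq_zero h2 hB hn hsg v⟩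
    · exact (hall c h).2
  · rw [hn.swap hB, (hall c hc).1, mul_zero]

/-- A family of one or two generators at the top size. -/
theorem exists_top [Fintype F] (hν : ¬IsSquare ν) (hnd : ∀ x ∈ W, (∀ w ∈ W, B w x = 0) → x = 0)
    (hex : ∃ w ∈ W, (n ^ (e - 1)) w ≠ 0) :
    ∃ S : Fam B η ν n W, Nonempty S.ι ∧ (∀ i, S.e i = e) ∧
      (Single η e → ∀ i, S.d i = ν → ∀ w ∈ W, B w ((n ^ (e - 1)) w) ≠ 1) := by
  classical
  obtain ⟨w₀, hw₀, hw₀'⟩ := hex
  obtain ⟨v₀, hv₀, hb⟩ : ∃ v₀ ∈ W, B v₀ ((n ^ (e - 1)) w₀) ≠ 0 := by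
    by_contra h
    push Not at h
    exact hw₀' (hnd _ (pow_mem' hW he hne h2 hη hB hn hw₀ _) h)
  have hν0 : ν ≠ 0 := fun h => hν (h ▸ IsSquare.zero)
  by_cases hs : Single η e
  · obtain ⟨δ, hδ, u₀, hu₀, h₀, hbad⟩ : ∃ δ, (δ = 1 ∨ δ = ν) ∧ ∃ u₀ ∈ W, B u₀ ((n ^ (e - 1)) u₀) = δ ∧
        (δ = ν → ∀ w ∈ W, B w ((n ^ (e - 1)) w) ≠ 1) := by
      by_cases h1 : ∃ u ∈ W, B u ((n ^ (e - 1)) u) = 1
      · obtain ⟨u, hu, h⟩ := h1
        exact ⟨1, Or.inl rfl, u, hu, h, fun h' => absurd (h' ▸ IsSquare.one) hν⟩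
      push Not at h1
      obtain ⟨u, hu, h⟩ : ∃ u ∈ W, B u ((n ^ (e - 1)) u) ≠ 0 := by
        by_contra h
        push Not at h
        have h3 := h _ (add_mem hv₀ hw₀)
        simp only [map_add, LinearMap.add_apply] at h3
        rw [h _ hv₀, h _ hw₀, hn.swap hB (e - 1) v₀ w₀, show η * (-1) ^ (e - 1) = 1 from hs, one_mul] at h3
        exact hb ((mul_eq_zero.1 (show (2 : F) * B v₀ ((n ^ (e - 1)) w₀) = 0 by linear_combination h3)).resolve_left h2)
      have hscal : ∀ t : F, B (t • u) ((n ^ (e - 1)) (t • u)) = t * t * B u ((n ^ (e - 1)) u) := fun t => by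
        simp only [map_smul, LinearMap.smul_apply, smul_eq_mul]; ring
      have hnsq : ¬IsSquare (B u ((n ^ (e - 1)) u)) := by
        rintro ⟨r, hr⟩
        refine h1 _ (W.smul_mem r⁻¹ hu) ?_
        have hr0 : r ≠ 0 := fun h' => h (by rw [hr, h', mul_zero])
        rw [hscal, hr]
        field_simp
      have hchar : ringChar F ≠ 2 := fun hc => by
        haveI := ringChar.of_eq hc
        exact h2 CharTwo.two_eq_zero
      obtain ⟨t, ht⟩ : IsSquare (ν * B u ((n ^ (e - 1)) u)) := by
        rw [← quadraticChar_one_iff_isSquare (mul_ne_zero hν0 h), map_mul,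
          (quadraticChar_neg_one_iff_not_isSquare).2 hν, (quadraticChar_neg_one_iff_not_isSquare).2 hnsq]
        norm_num
      refine ⟨ν, Or.inr rfl, (t / B u ((n ^ (e - 1)) u)) • u, W.smul_mem _ hu, ?_, fun _ => h1⟩
      rw [hscal]
      field_simp
      linear_combination -ht
    have hδ0 : δ ≠ 0 := hδ.elim (fun h => h ▸ one_ne_zero) fun h => h ▸ hν0
    obtain ⟨u, hu, htop, hlow⟩ := exists_single hW he hne h2 hη hB hn hs hδ0 hu₀ h₀
    refine ⟨{
      ι := Unit
      fι := inferInstance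
      e := fun _ => e
      p := id
      d := fun _ => δ
      u := fun _ => u
      pos := fun _ => he
      pp := fun _ => rfl
      ep := fun _ => rfl
      d0 := fun _ => hδ0
      mem := fun _ => hu
      gram := fun i j c => ⟨fun _ h => by rw [show c = e - 1 by omega]; exact htop,
        fun h => hlow c fun h' => h ⟨rfl, h'⟩⟩
      single := fun i _ => ⟨rfl, hδ⟩
      pair := fun i h => absurd hs h
      nu_unique := fun i j _ _ _ _ => rfl }, ⟨()⟩, fun _ => rfl, fun _ _ h => hbad h⟩
  · obtain ⟨u₁, hu₁, h₁⟩ : ∃ u₁ ∈ W, B u₁ ((n ^ (e - 1)) w₀) = 1 :=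
      ⟨(B v₀ ((n ^ (e - 1)) w₀))⁻¹ • v₀, W.smul_mem _ hv₀, by
        rw [map_smul, LinearMap.smul_apply, smul_eq_mul, inv_mul_cancel₀ hb]⟩
    obtain ⟨u, hu, v, hv, huv, hvu, hself, hcross⟩ := exists_pair hW he hne h2 hη hB hn hs hu₁ hw₀ h₁
    refine ⟨{
      ι := Bool
      fι := inferInstance
      e := fun _ => e
      p := not
      d := fun b => if b then 1 else -1
      u := fun b => if b then u else v
      pos := fun _ => he
      pp := Bool.not_not
      ep := fun _ => rfl
      d0 := fun b => by cases b <;> simp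
      mem := fun b => by cases b <;> simp [hu, hv]
      gram := fun i j c => ?_
      single := fun i h => absurd h hs
      pair := fun i _ => ⟨by cases i <;> simp, by cases i <;> simp, by cases i <;> simp⟩
      nu_unique := fun i j h => absurd h hs }, ⟨true⟩, fun _ => rfl, fun h => absurd h hs⟩
    constructor
    · intro h1 h
      subst h1
      rw [show c = e - 1 by omega]
      cases i <;> simp [huv, hvu]
    · intro h
      cases i <;> cases j <;> simp only [Bool.not_true, Bool.not_false, reduceCtorEq, false_and,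
        true_and, not_false_eq_true] at h ⊢ <;>
        first
          | exact (hself c).1
          | exact (hself c).2
          | exact (hcross c h).1
          | exact (hcross c h).2

end Pieces

namespace Fam

variable {W : Submodule F V}

/-- Union of two orthogonal families. -/
def union {W₁ W₂ : Submodule F V} (S : Fam B η ν n W₁) (T : Fam B η ν n W₂) (h1 : W₁ ≤ W) (h2 : W₂ ≤ W)
    (hST : ∀ i j c, B (S.u i) ((n ^ c) (T.u j)) = 0) (hTS : ∀ i j c, B (T.u i) ((n ^ c) (S.u j)) = 0)
    (huniq : ∀ i j, Single η (S.e i) → S.d i = ν → T.d j = ν → S.e i = T.e j → False) : Fam B η ν n W where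
  ι := S.ι ⊕ T.ι
  fι := @instFintypeSum _ _ S.fι T.fι
  e := Sum.elim S.e T.e
  p := Sum.map S.p T.p
  d := Sum.elim S.d T.d
  u := Sum.elim S.u T.u
  pos := by rintro (i | i) <;> [exact S.pos i; exact T.pos i]
  pp := by rintro (i | i) <;> simp [S.pp, T.pp]
  ep := by rintro (i | i) <;> simp [S.ep, T.ep]
  d0 := by rintro (i | i) <;> [exact S.d0 i; exact T.d0 i]
  mem := by rintro (i | i) <;> [exact h1 (S.mem i); exact h2 (T.mem i)]
  gram := by
    rintro (i | i) (j | j) c <;> simp only [Sum.map_inl, Sum.map_inr, Sum.elim_inl, Sum.elim_inr,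
      Sum.inl.injEq, Sum.inr.injEq, reduceCtorEq, false_and, not_false_eq_true, forall_const, false_implies,
      true_and]
    · exact S.gram i j c
    · exact hST i j c
    · exact hTS i j c
    · exact T.gram i j c
  single := by
    rintro (i | i) h <;> simp only [Sum.map_inl, Sum.map_inr, Sum.elim_inl, Sum.elim_inr, Sum.inl.injEq,
      Sum.inr.injEq] at h ⊢
    · exact S.single i h
    · exact T.single i h
  pair := by
    rintro (i | i) h <;> simp only [Sum.map_inl, Sum.map_inr, Sum.elim_inl, Sum.elim_inr, ne_eq, Sum.inl.injEq,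
      Sum.inr.injEq] at h ⊢
    · exact S.pair i h
    · exact T.pair i h
  nu_unique := by
    rintro (i | i) (j | j) h hi hj he <;> simp only [Sum.elim_inl, Sum.elim_inr] at h hi hj he
    · rw [S.nu_unique i j h hi hj he]
    · exact (huniq i j h hi hj he).elim
    · exact (huniq j i (he ▸ h) hj hi he.symm).elim
    · rw [T.nu_unique i j h hi hj he]

/-- The family inside its span. -/
def toSpan (S : Fam B η ν n W) : Fam B η ν n (Submodule.span F (Set.range S.vec)) :=
  { S with mem := fun i => Submodule.subset_span ⟨⟨i, ⟨0, S.pos i⟩⟩, by simp [vec]⟩ }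

end Fam

/-- Existence of spanning normal families. -/
theorem exists_fam [Fintype F] [FiniteDimensional F V] (h2 : (2 : F) ≠ 0) (hη : η = 1 ∨ η = -1) (hν : ¬IsSquare ν)
    (hB : IsEta B η) (hn : IsSkew B n) (W : Submodule F V) (hW : ∀ w ∈ W, n w ∈ W)
    (hnil : ∃ m, ∀ w ∈ W, (n ^ m) w = 0) (hnd : ∀ x ∈ W, (∀ w ∈ W, B w x = 0) → x = 0) :
    ∃ S : Fam B η ν n W, S.Spans := by
  classical
  induction hd : finrank F W using Nat.strong_induction_on generalizing W with
  | _ D ih =>
    subst hd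
    have hspec := Nat.find_spec hnil
    set e := Nat.find hnil with hedef
    rcases Nat.eq_zero_or_pos e with he | he
    · have hW0 : W = ⊥ := (Submodule.eq_bot_iff W).2 fun w hw => by
        have := hspec w hw; rwa [he, pow_zero, Module.End.one_apply] at this
      refine ⟨{
        ι := Empty
        fι := inferInstance
        e := fun i => i.elim
        p := fun i => i.elim
        d := fun i => i.elim
        u := fun i => i.elim
        pos := fun i => i.elim
        pp := fun i => i.elim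
        ep := fun i => i.elim
        d0 := fun i => i.elim
        mem := fun i => i.elim
        gram := fun i => i.elim
        single := fun i => i.elim
        pair := fun i => i.elim
        nu_unique := fun i => i.elim }, ?_⟩
      subst hW0
      simp [Fam.Spans]
    have hex : ∃ w ∈ W, (n ^ (e - 1)) w ≠ 0 := by
      have h := Nat.find_min hnil (show e - 1 < Nat.find hnil by rw [← hedef]; omega)
      push Not at h
      exact h
    obtain ⟨S, ⟨i₀⟩, hSe, hbad⟩ := exists_top hW he hspec h2 hη hB hn hν hnd hex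
    letI := S.fι
    set U := Submodule.span F (Set.range S.vec) with hU
    have hUW : U ≤ W := Submodule.span_le.2 fun x hx => by
      obtain ⟨y, rfl⟩ := hx
      exact S.vec_mem hW y
    have hUn : ∀ w ∈ U, n w ∈ U := fun w hw => by
      refine (Submodule.span_le (p := U.comap n)).2 ?_ hw
      rintro _ ⟨⟨i, a⟩, rfl⟩
      show n (S.vec ⟨i, a⟩) ∈ U
      rw [Fam.vec, ← Module.End.mul_apply, ← pow_succ']
      rcases lt_or_ge ((a : ℕ) + 1) (S.e i) with h | h
      · exact Submodule.subset_span ⟨⟨i, ⟨_, h⟩⟩, rfl⟩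
      · rw [pow_high hW he hspec h2 hη hB hn (c := (a : ℕ) + 1) (by have := hSe i; omega) (S.mem i)]
        exact zero_mem _
    have hUS : S.toSpan.Spans := by
      show ∑ i, S.e i = finrank F U
      rw [hU, finrank_span_eq_card (S.linearIndependent hn), Fintype.card_sigma]
      simp
    have hUdual : ∀ x, S.toSpan.dual x ∈ U := fun x => Fam.pow_mem hUn (S.toSpan.mem _) _
    have hUnd : NondegOn B U := nondegOn_iff.2 fun x hx h => by
      refine S.toSpan.eq_zero_of_orth hn hUn hUS hx fun y => ?_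
      rw [hB, h _ (hUdual y), mul_zero]
    set W' := W ⊓ perp B U
    have hW' : ∀ w ∈ W', n w ∈ W' := fun w hw =>
      ⟨hW _ hw.1, mem_perp.2 fun u hu => by
        have h := hn u w
        rw [mem_perp.1 hw.2 _ (hUn u hu)] at h
        exact neg_eq_zero.1 h.symm⟩
    have hsum : U ⊔ W' = W := by
      refine le_antisymm (sup_le hUW inf_le_left) fun w hw => ?_
      obtain ⟨a, ha, b, hb, rfl⟩ := Submodule.mem_sup.1
        (hUnd.isCompl.sup_eq_top ▸ Submodule.mem_top (x := w))
      exact Submodule.add_mem_sup ha ⟨(W.add_mem_iff_right (hUW ha)).1 hw, hb⟩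
    have hinf : U ⊓ W' = ⊥ := by
      refine le_bot_iff.1 ((inf_le_inf_left U inf_le_right).trans ?_)
      rw [(hUnd.isCompl).inf_eq_bot]
    have hdim : finrank F U + finrank F W' = finrank F W := by
      have h := Submodule.finrank_sup_add_finrank_inf_eq U W'
      rw [hsum, hinf, finrank_bot, add_zero] at h
      omega
    have hnd' : ∀ x ∈ W', (∀ w ∈ W', B w x = 0) → x = 0 := fun x hx h => by
      refine hnd x hx.1 fun w hw => ?_
      obtain ⟨a, ha, b, hb, rfl⟩ := Submodule.mem_sup.1 (hsum.symm ▸ hw)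
      rw [map_add, LinearMap.add_apply, h b hb, mem_perp.1 hx.2 a ha, add_zero]
    have hUS' : ∑ i, S.e i = finrank F U := hUS
    have hpos : 0 < finrank F U := by
      rw [← hUS']
      exact Finset.sum_pos' (fun i _ => Nat.zero_le _) ⟨i₀, Finset.mem_univ _, S.pos i₀⟩
    obtain ⟨T, hT⟩ := ih (finrank F W') (by omega) W' hW' ⟨e, fun w hw => hspec w hw.1⟩ hnd' rfl
    letI := T.fι
    have hTS : ∀ i j c, B (S.u i) ((n ^ c) (T.u j)) = 0 := fun i j c =>
      mem_perp.1 (Fam.pow_mem hW' (T.mem j) c).2 _ (S.toSpan.mem i)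
    refine ⟨S.union T le_rfl inf_le_left hTS (fun i j c => by rw [hn.swap hB, hTS, mul_zero]) ?_, ?_⟩
    · intro i j hs hi hj hij
      rw [hSe] at hs hij
      have hTj := (T.gram j (T.p j) (e - 1)).1 rfl (by omega)
      rw [(T.single j (by rw [← hij]; exact hs)).1, hj] at hTj
      have hSi := (S.gram i (S.p i) (e - 1)).1 rfl (by rw [hSe]; omega)
      rw [(S.single i (by rw [hSe]; exact hs)).1, hi] at hSi
      obtain ⟨x, y, hxy⟩ := CfsgLib.ClassNumberSU.exists_quad_field (K := F) 0 1 ν⁻¹ (by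
        intro h
        exact h2 (mul_self_eq_zero.1 (by linear_combination -h)))
      refine hbad hs i hi _ (add_mem (W.smul_mem x (S.mem i)) (W.smul_mem y (T.mem j).1)) ?_
      simp only [map_add, map_smul, LinearMap.add_apply, LinearMap.smul_apply, smul_eq_mul, hSi, hTj, hTS i j,
        show B (T.u j) ((n ^ (e - 1)) (S.u i)) = 0 by rw [hn.swap hB, hTS, mul_zero]]
      have hν0 : ν ≠ 0 := fun h => hν (h ▸ IsSquare.zero)
      unfold CfsgLib.ClassNumberSU.quad at hxy
      linear_combination ν * hxy + mul_inv_cancel₀ hν0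
    · show ∑ i, Sum.elim S.e T.e i = _
      rw [Fintype.sum_sum_type]
      simp only [Sum.elim_inl, Sum.elim_inr]
      rw [hT, ← hdim, hUS']

end CfsgLib.ClassNumberForm
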