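import Cfsg.Agent.Lib.Classical.FormBasic

/-!
# Normal families for skew maps of symmetric or alternating forms

A normal family is a finite family of cyclic generators of a nilpotent skew map whose Gram matrix is monomial.
Families with the same combinatorial data are intertwined by isometries.
-/

set_option autoImplicit false
set_option linter.unusedSectionVars false

open Module

namespace CfsgLib.ClassNumberForm

open CfsgLib.Classical

variable {F : Type*} [Field F] {V : Type*} [AddCommGroup V] [Module F V]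
  {V' : Type*} [AddCommGroup V'] [Module F V']

/-- A form is `η`-symmetric. -/
def IsEta (B : V →ₗ[F] V →ₗ[F] F) (η : F) : Prop := ∀ u v, B v u = η * B u v

/-- A map is skew for a form. -/
def IsSkew (B : V →ₗ[F] V →ₗ[F] F) (n : Module.End F V) : Prop := ∀ u v, B (n u) v = -B u (n v)

/-- The sizes that occur in singles. -/
def Single (η : F) (e : ℕ) : Prop := η * (-1) ^ (e - 1) = 1

section Skew

variable {B : V →ₗ[F] V →ₗ[F] F} {η : F} {n : Module.End F V}

theorem IsSkew.pow_left (hn : IsSkew B n) :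
    ∀ (a : ℕ) (u v : V), B ((n ^ a) u) v = (-1) ^ a * B u ((n ^ a) v) := by
  intro a
  induction a with
  | zero => intro u v; simp
  | succ a ih =>
    intro u v
    have h1 : (n ^ (a + 1)) u = n ((n ^ a) u) := by rw [pow_succ', Module.End.mul_apply]
    have h2 : (n ^ (a + 1)) v = (n ^ a) (n v) := by rw [pow_succ, Module.End.mul_apply]
    rw [h1, h2, hn, ih, pow_succ]
    ring

theorem IsSkew.swap (hn : IsSkew B n) (hB : IsEta B η) (a : ℕ) (u v : V) :
    B v ((n ^ a) u) = η * (-1) ^ a * B u ((n ^ a) v) := by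
  rw [hB ((n ^ a) u) v, hn.pow_left, mul_assoc]

end Skew

/-- A normal family inside a subspace. -/
structure Fam (B : V →ₗ[F] V →ₗ[F] F) (η ν : F) (n : Module.End F V) (W : Submodule F V) where
  /-- The index type. -/
  ι : Type
  /-- The index type is finite. -/
  fι : Fintype ι
  /-- The sizes. -/
  e : ι → ℕ
  /-- The partners. -/
  p : ι → ι
  /-- The top values. -/
  d : ι → F
  /-- The generators. -/
  u : ι → V
  pos : ∀ i, 0 < e i
  pp : ∀ i, p (p i) = i
  ep : ∀ i, e (p i) = e i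
  d0 : ∀ i, d i ≠ 0
  mem : ∀ i, u i ∈ W
  gram : ∀ (i j : ι) (c : ℕ), (j = p i → c + 1 = e i → B (u i) ((n ^ c) (u j)) = d i) ∧
    (¬(j = p i ∧ c + 1 = e i) → B (u i) ((n ^ c) (u j)) = 0)
  single : ∀ i, Single η (e i) → p i = i ∧ (d i = 1 ∨ d i = ν)
  pair : ∀ i, ¬Single η (e i) → p i ≠ i ∧ (d i = 1 ∨ d i = -1) ∧ d (p i) = -d i
  nu_unique : ∀ i j, Single η (e i) → d i = ν → d j = ν → e i = e j → i = j

attribute [local instance] Fam.fι

namespace Fam

variable {B : V →ₗ[F] V →ₗ[F] F} {η ν : F} {n : Module.End F V} {W : Submodule F V}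
  (S : Fam B η ν n W)

/-- The spanning vectors. -/
noncomputable def vec (x : Σ i, Fin (S.e i)) : V := (n ^ (x.2 : ℕ)) (S.u x.1)

/-- The dual vectors. -/
noncomputable def dual (x : Σ i, Fin (S.e i)) : V := (n ^ (S.e x.1 - 1 - (x.2 : ℕ))) (S.u (S.p x.1))

theorem gram_vec (hn : IsSkew B n) (i j : S.ι) (a b : ℕ) :
    B ((n ^ a) (S.u i)) ((n ^ b) (S.u j)) = (-1) ^ a * B (S.u i) ((n ^ (a + b)) (S.u j)) := by
  rw [hn.pow_left, ← Module.End.mul_apply, ← pow_add]

theorem vec_dual (hn : IsSkew B n) (x y : Σ i, Fin (S.e i)) :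
    (x = y → B (S.vec x) (S.dual y) ≠ 0) ∧ (x ≠ y → B (S.vec x) (S.dual y) = 0) := by
  obtain ⟨i, a⟩ := x
  obtain ⟨j, b⟩ := y
  constructor
  · rintro h
    cases h
    rw [vec, dual, S.gram_vec hn]
    dsimp only
    rw [(S.gram i (S.p i) _).1 rfl (by have := a.2; omega)]
    exact mul_ne_zero (pow_ne_zero _ (neg_ne_zero.2 one_ne_zero)) (S.d0 i)
  · intro h
    rw [vec, dual, S.gram_vec hn]
    dsimp only
    rw [(S.gram i (S.p j) _).2 ?_, mul_zero]
    rintro ⟨h1, h2⟩
    obtain rfl : j = i := by rw [← S.pp j, h1, S.pp]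
    have := a.2
    have := b.2
    exact h (by rw [Fin.ext (show (a : ℕ) = b by omega)])

theorem linearIndependent (hn : IsSkew B n) : LinearIndependent F S.vec := by
  classical
  rw [Fintype.linearIndependent_iff]
  intro g hg x
  have h := congrArg (fun v => B v (S.dual x)) hg
  simp only [map_sum, LinearMap.sum_apply, map_smul, LinearMap.smul_apply, smul_eq_mul, map_zero,
    LinearMap.zero_apply] at h
  rw [Finset.sum_eq_single x (fun y _ hy => by rw [(S.vec_dual hn y x).2 hy, mul_zero])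
    (fun h' => absurd (Finset.mem_univ x) h')] at h
  exact (mul_eq_zero.1 h).resolve_right ((S.vec_dual hn x x).1 rfl)

theorem vec_mem (hW : ∀ w ∈ W, n w ∈ W) (x : Σ i, Fin (S.e i)) : S.vec x ∈ W := by
  obtain ⟨i, a⟩ := x
  obtain ⟨a, ha⟩ := a
  show (n ^ a) (S.u i) ∈ W
  clear ha
  induction a with
  | zero => simpa using S.mem i
  | succ a ih => rw [pow_succ', Module.End.mul_apply]; exact hW _ ih

/-- The family spans the subspace. -/
def Spans : Prop := ∑ i, S.e i = finrank F W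

variable [FiniteDimensional F V]

/-- The basis of a spanning family. -/
noncomputable def basis (hn : IsSkew B n) (hW : ∀ w ∈ W, n w ∈ W) (hS : S.Spans) :
    Basis (Σ i, Fin (S.e i)) F W := by
  classical
  have hli : LinearIndependent F (fun x => (⟨S.vec x, S.vec_mem hW x⟩ : W)) :=
    LinearIndependent.of_comp W.subtype (S.linearIndependent hn)
  have hcard : Fintype.card (Σ i, Fin (S.e i)) = finrank F W := by
    rw [Fintype.card_sigma]
    simp only [Fintype.card_fin]
    exact hS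
  exact Basis.mk hli (le_of_eq (hli.span_eq_top_of_card_eq_finrank' hcard).symm)

theorem coe_basis (hn : IsSkew B n) (hW : ∀ w ∈ W, n w ∈ W) (hS : S.Spans) (x : Σ i, Fin (S.e i)) :
    ((S.basis hn hW hS x : W) : V) = S.vec x := by
  simp [basis]

theorem span_vec (hn : IsSkew B n) (hW : ∀ w ∈ W, n w ∈ W) (hS : S.Spans) :
    Submodule.span F (Set.range S.vec) = W := by
  have h := congrArg (Submodule.map W.subtype) (S.basis hn hW hS).span_eq
  rw [Submodule.map_subtype_top, Submodule.map_span, ← Set.range_comp] at h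
  refine Eq.trans (congrArg (Submodule.span F) (congrArg Set.range (funext fun x => ?_))) h
  exact (S.coe_basis hn hW hS x).symm

theorem eq_zero_of_orth (hn : IsSkew B n) (hW : ∀ w ∈ W, n w ∈ W) (hS : S.Spans) {v : V} (hv : v ∈ W)
    (h : ∀ x, B v (S.dual x) = 0) : v = 0 := by
  classical
  let b := S.basis hn hW hS
  have hc : ∀ x, b.repr ⟨v, hv⟩ x = 0 := fun x => by
    have h1 := h x
    have e : v = ∑ y, b.repr ⟨v, hv⟩ y • S.vec y := by
      have h2 := congrArg W.subtype (b.sum_repr ⟨v, hv⟩)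
      simp only [map_sum, map_smul, Submodule.coe_subtype] at h2
      refine h2.symm.trans (Finset.sum_congr rfl fun y _ => ?_)
      rw [S.coe_basis]
    rw [e] at h1
    simp only [map_sum, LinearMap.sum_apply, map_smul, LinearMap.smul_apply, smul_eq_mul] at h1
    rw [Finset.sum_eq_single x (fun y _ hy => by rw [(S.vec_dual hn y x).2 hy, mul_zero])
      (fun h' => absurd (Finset.mem_univ x) h')] at h1
    exact (mul_eq_zero.1 h1).resolve_right ((S.vec_dual hn x x).1 rfl)
  have : (⟨v, hv⟩ : W) = 0 := b.repr.map_eq_zero_iff.1 (Finsupp.ext hc)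
  exact congrArg Subtype.val this

theorem pow_mem (hW : ∀ w ∈ W, n w ∈ W) {v : V} (hv : v ∈ W) : ∀ a, (n ^ a) v ∈ W := by
  intro a
  induction a with
  | zero => simpa using hv
  | succ a ih => rw [pow_succ', Module.End.mul_apply]; exact hW _ ih

theorem pow_eq_zero (hn : IsSkew B n) (hW : ∀ w ∈ W, n w ∈ W) (hS : S.Spans) (i : S.ι) {c : ℕ}
    (hc : S.e i ≤ c) : (n ^ c) (S.u i) = 0 := by
  refine S.eq_zero_of_orth hn hW hS (pow_mem hW (S.mem i) c) fun x => ?_
  rw [dual, S.gram_vec hn, (S.gram i (S.p x.1) _).2 ?_, mul_zero]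
  rintro ⟨-, h⟩
  omega

theorem exists_intertwine {B' : V' →ₗ[F] V' →ₗ[F] F} {n' : Module.End F V'} {W' : Submodule F V'}
    [FiniteDimensional F V'] (S' : Fam B' η ν n' W') (hn : IsSkew B n) (hn' : IsSkew B' n')
    (hW : ∀ w ∈ W, n w ∈ W) (hW' : ∀ w ∈ W', n' w ∈ W') (hS : S.Spans) (hS' : S'.Spans)
    (φ : S.ι ≃ S'.ι) (he : ∀ i, S'.e (φ i) = S.e i) (hp : ∀ i, φ (S.p i) = S'.p (φ i))
    (hd : ∀ i, S'.d (φ i) = S.d i) :
    ∃ f : W ≃ₗ[F] W', (∀ v w : W, B' (f v : V') (f w : V') = B (v : V) (w : V)) ∧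
      ∀ v : W, (f ⟨n v, hW v v.2⟩ : V') = n' (f v : V') := by
  classical
  let b := S.basis hn hW hS
  let b' := S'.basis hn' hW' hS'
  let ψ : (Σ i, Fin (S.e i)) ≃ Σ i, Fin (S'.e i) := Equiv.sigmaCongr φ fun i => finCongr (he i).symm
  let f := b.equiv b' ψ
  have hf : ∀ x, (f (b x) : V') = (n' ^ (x.2 : ℕ)) (S'.u (φ x.1)) := fun x => by
    simp only [f, Basis.equiv_apply, b', S'.coe_basis]
    rfl
  have hg : ∀ i j c, B' (S'.u (φ i)) ((n' ^ c) (S'.u (φ j))) = B (S.u i) ((n ^ c) (S.u j)) := by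
    intro i j c
    by_cases h : j = S.p i ∧ c + 1 = S.e i
    · rw [(S.gram i j c).1 h.1 h.2, (S'.gram (φ i) (φ j) c).1 (by rw [h.1, hp]) (by rw [he]; exact h.2), hd]
    · rw [(S.gram i j c).2 h, (S'.gram (φ i) (φ j) c).2 fun h' => h ⟨φ.injective (by rw [hp]; exact h'.1),
        by rw [← he]; exact h'.2⟩]
  refine ⟨f, ?_, ?_⟩
  · have key : (LinearMap.compl₁₂ B' (W'.subtype ∘ₗ f.toLinearMap) (W'.subtype ∘ₗ f.toLinearMap)) =
        LinearMap.compl₁₂ B W.subtype W.subtype := by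
      refine b.ext fun x => b.ext fun y => ?_
      show B' (f (b x) : V') (f (b y) : V') = B (b x : V) (b y : V)
      rw [hf, hf, S.coe_basis, S.coe_basis, vec, vec, S.gram_vec hn, hn'.pow_left, ← Module.End.mul_apply,
        ← pow_add, hg]
    exact fun v w => LinearMap.congr_fun₂ key v w
  · let N : W →ₗ[F] W := n.restrict hW
    have hpow : ∀ (i : S.ι) (c : ℕ), (f ⟨(n ^ c) (S.u i), pow_mem hW (S.mem i) c⟩ : V') =
        (n' ^ c) (S'.u (φ i)) := by
      intro i c
      rcases lt_or_ge c (S.e i) with hc | hc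
      · rw [← hf ⟨i, ⟨c, hc⟩⟩]
        refine congrArg (fun v => ((f v : W') : V')) (Subtype.ext ?_)
        rw [S.coe_basis]
        rfl
      · rw [show (⟨(n ^ c) (S.u i), pow_mem hW (S.mem i) c⟩ : W) = 0 from
          Subtype.ext (S.pow_eq_zero hn hW hS i hc), map_zero,
          S'.pow_eq_zero hn' hW' hS' (φ i) (by rw [he]; exact hc)]
        rfl
    have key : W'.subtype ∘ₗ f.toLinearMap ∘ₗ N = n' ∘ₗ W'.subtype ∘ₗ f.toLinearMap := by
      refine b.ext fun x => ?_
      show (f (N (b x)) : V') = n' (f (b x) : V')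
      rw [hf, ← Module.End.mul_apply, ← pow_succ', ← hpow x.1 ((x.2 : ℕ) + 1)]
      refine congrArg (fun v => ((f v : W') : V')) (Subtype.ext ?_)
      show n (b x : V) = _
      rw [S.coe_basis, vec, ← Module.End.mul_apply, ← pow_succ']
    exact fun v => LinearMap.congr_fun key v

/-- The multiplicity of a size. -/
noncomputable def mult (e : ℕ) : ℕ := Nat.card {i // S.e i = e}

/-- The sign of a size. -/
def Bit (e : ℕ) : Prop := Single η e ∧ ∃ i, S.e i = e ∧ S.d i = ν

theorem mult_pos_of_bit {e : ℕ} (h : S.Bit e) : 0 < S.mult e := by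
  obtain ⟨-, i, hi, -⟩ := h
  haveI : Nonempty {i // S.e i = e} := ⟨⟨i, hi⟩⟩
  exact Nat.card_pos

theorem even_mult {e : ℕ} (he : ¬Single η e) (h2 : (2 : F) ≠ 0) :
    S.mult e = 2 * Nat.card {i // S.e i = e ∧ S.d i = 1} ∧
      Nat.card {i // S.e i = e ∧ S.d i = -1} = Nat.card {i // S.e i = e ∧ S.d i = 1} := by
  classical
  have hne : (1 : F) ≠ -1 := fun h => h2 (by linear_combination h)
  have hs : ∀ i, S.e i = e → ¬Single η (S.e i) := fun i hi => by rwa [hi]
  have hflip : Nat.card {i // S.e i = e ∧ S.d i = -1} = Nat.card {i // S.e i = e ∧ S.d i = 1} := by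
    refine Nat.card_congr
      { toFun := fun i => ⟨S.p i.1, by rw [S.ep]; exact i.2.1,
          by rw [(S.pair _ (hs _ i.2.1)).2.2, i.2.2, neg_neg]⟩
        invFun := fun i => ⟨S.p i.1, by rw [S.ep]; exact i.2.1,
          by rw [(S.pair _ (hs _ i.2.1)).2.2, i.2.2]⟩
        left_inv := fun i => Subtype.ext (S.pp _)
        right_inv := fun i => Subtype.ext (S.pp _) }
  refine ⟨?_, hflip⟩
  rw [two_mul]
  conv_rhs => arg 2; rw [← hflip]
  rw [mult, Nat.card_eq_fintype_card, Nat.card_eq_fintype_card, Nat.card_eq_fintype_card,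
    Fintype.card_subtype, Fintype.card_subtype, Fintype.card_subtype,
    ← Finset.card_union_of_disjoint (Finset.disjoint_filter.2 fun i _ h h' => hne (h.2.symm.trans h'.2))]
  congr 1
  ext i
  simp only [Finset.mem_filter, Finset.mem_univ, true_and, Finset.mem_union]
  exact ⟨fun h => ((S.pair i (hs i h)).2.1).imp (fun h' => ⟨h, h'⟩) (fun h' => ⟨h, h'⟩),
    fun h => h.elim And.left And.left⟩

theorem card_single {e : ℕ} (he : Single η e) :
    (Nat.card {i // S.e i = e ∧ S.d i = ν} ≤ 1) ∧ (0 < Nat.card {i // S.e i = e ∧ S.d i = ν} ↔ S.Bit e) ∧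
      (ν ≠ 1 → Nat.card {i // S.e i = e ∧ S.d i = 1} + Nat.card {i // S.e i = e ∧ S.d i = ν} = S.mult e) := by
  classical
  refine ⟨?_, ?_, fun hν => ?_⟩
  · refine Finite.card_le_one_iff_subsingleton.2 ⟨fun i j => Subtype.ext ?_⟩
    exact S.nu_unique _ _ (by rw [i.2.1]; exact he) i.2.2 j.2.2 (i.2.1.trans j.2.1.symm)
  · rw [Nat.card_pos_iff]
    exact ⟨fun ⟨⟨i⟩, _⟩ => ⟨he, i.1, i.2⟩, fun ⟨_, i, hi⟩ => ⟨⟨⟨i, hi⟩⟩, inferInstance⟩⟩
  · rw [mult, Nat.card_eq_fintype_card, Nat.card_eq_fintype_card, Nat.card_eq_fintype_card,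
      Fintype.card_subtype, Fintype.card_subtype, Fintype.card_subtype,
      ← Finset.card_union_of_disjoint (Finset.disjoint_filter.2 fun i _ h h' => hν (h'.2.symm.trans h.2))]
    congr 1
    ext i
    simp only [Finset.mem_filter, Finset.mem_univ, true_and, Finset.mem_union]
    refine ⟨fun h => h.elim And.left And.left, fun h => ?_⟩
    exact ((S.single i (by rw [h]; exact he)).2).imp (fun h' => ⟨h, h'⟩) (fun h' => ⟨h, h'⟩)

theorem card_key_eq {B' : V' →ₗ[F] V' →ₗ[F] F} {n' : Module.End F V'} {W' : Submodule F V'}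
    [FiniteDimensional F V'] (S' : Fam B' η ν n' W') (h2 : (2 : F) ≠ 0) (hν : ν ≠ 1)
    (hm : ∀ e, S.mult e = S'.mult e) (hb : ∀ e, S.Bit e ↔ S'.Bit e) (c : ℕ × F) :
    Nat.card {i // (S.e i, S.d i) = c} = Nat.card {i // (S'.e i, S'.d i) = c} := by
  obtain ⟨e, x⟩ := c
  rw [Nat.card_congr (Equiv.subtypeEquivRight (q := fun i => S.e i = e ∧ S.d i = x) fun i => Prod.mk_inj),
    Nat.card_congr (Equiv.subtypeEquivRight (q := fun i => S'.e i = e ∧ S'.d i = x) fun i => Prod.mk_inj)]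
  by_cases he : Single η e
  · have hνc : Nat.card {i // S.e i = e ∧ S.d i = ν} = Nat.card {i // S'.e i = e ∧ S'.d i = ν} := by
      have a := (S.card_single he).1
      have b := (S'.card_single he).1
      have a' := (S.card_single he).2.1
      have b' := (S'.card_single he).2.1
      have h := hb e
      rcases Nat.eq_zero_or_pos (Nat.card {i // S.e i = e ∧ S.d i = ν}) with h0 | h0 <;>
        rcases Nat.eq_zero_or_pos (Nat.card {i // S'.e i = e ∧ S'.d i = ν}) with h1 | h1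
      · omega
      · exact absurd (a'.2 (h.2 (b'.1 h1))) (by omega)
      · exact absurd (b'.2 (h.1 (a'.1 h0))) (by omega)
      · omega
    rcases eq_or_ne x ν with rfl | hx
    · exact hνc
    rcases eq_or_ne x 1 with rfl | hx1
    · have a := (S.card_single he).2.2 hν
      have b := (S'.card_single he).2.2 hν
      have := hm e
      omega
    · haveI : IsEmpty {i // S.e i = e ∧ S.d i = x} :=
        ⟨fun i => ((S.single i.1 (by rw [i.2.1]; exact he)).2).elim (fun h => hx1 (i.2.2 ▸ h))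
          (fun h => hx (i.2.2 ▸ h))⟩
      haveI : IsEmpty {i // S'.e i = e ∧ S'.d i = x} :=
        ⟨fun i => ((S'.single i.1 (by rw [i.2.1]; exact he)).2).elim (fun h => hx1 (i.2.2 ▸ h))
          (fun h => hx (i.2.2 ▸ h))⟩
      rw [Nat.card_of_isEmpty, Nat.card_of_isEmpty]
  · obtain ⟨a, a'⟩ := S.even_mult he h2
    obtain ⟨b, b'⟩ := S'.even_mult he h2
    have := hm e
    rcases eq_or_ne x 1 with rfl | hx1
    · omega
    rcases eq_or_ne x (-1) with rfl | hx
    · omega
    · haveI : IsEmpty {i // S.e i = e ∧ S.d i = x} :=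
        ⟨fun i => ((S.pair i.1 (by rw [i.2.1]; exact he)).2.1).elim (fun h => hx1 (i.2.2 ▸ h))
          (fun h => hx (i.2.2 ▸ h))⟩
      haveI : IsEmpty {i // S'.e i = e ∧ S'.d i = x} :=
        ⟨fun i => ((S'.pair i.1 (by rw [i.2.1]; exact he)).2.1).elim (fun h => hx1 (i.2.2 ▸ h))
          (fun h => hx (i.2.2 ▸ h))⟩
      rw [Nat.card_of_isEmpty, Nat.card_of_isEmpty]

theorem exists_equiv_of {B' : V' →ₗ[F] V' →ₗ[F] F} {n' : Module.End F V'} {W' : Submodule F V'}
    [FiniteDimensional F V'] (S' : Fam B' η ν n' W') (h2 : (2 : F) ≠ 0) (φ₁ : S.ι ≃ S'.ι)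
    (h₁ : ∀ i, S'.e (φ₁ i) = S.e i ∧ (¬Single η (S.e i) → S'.d (φ₁ i) = S.d i)) :
    ∃ φ : S.ι ≃ S'.ι, (∀ i, S'.e (φ i) = S.e i) ∧ (∀ i, φ (S.p i) = S'.p (φ i)) ∧
      (∀ i, ¬Single η (S.e i) → S'.d (φ i) = S.d i) ∧ ∀ i, Single η (S.e i) → φ i = φ₁ i := by
  classical
  have hne : (1 : F) ≠ -1 := fun h => h2 (by linear_combination h)
  let φ : S.ι → S'.ι := fun i =>
    if Single η (S.e i) ∨ S.d i = 1 then φ₁ i else S'.p (φ₁ (S.p i))
  have hφ : ∀ i, S'.e (φ i) = S.e i ∧ (¬Single η (S.e i) → S'.d (φ i) = S.d i) := fun i => by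
    by_cases h : Single η (S.e i) ∨ S.d i = 1
    · simp only [φ, if_pos h]
      exact h₁ i
    · rw [not_or] at h
      simp only [φ, if_neg (not_or.2 h)]
      obtain ⟨a, b⟩ := h₁ (S.p i)
      have hP := S.pair i h.1
      refine ⟨by rw [S'.ep, a, S.ep], fun _ => ?_⟩
      rw [(S'.pair _ (by rw [a, S.ep]; exact h.1)).2.2, b (by rw [S.ep]; exact h.1), hP.2.2, neg_neg]
  have hinj : Function.Injective φ := by
    intro i j hij
    have hk1 : S.e i = S.e j := by rw [← (hφ i).1, ← (hφ j).1, hij]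
    by_cases hs : Single η (S.e i)
    · have hs' : Single η (S.e j) := hk1 ▸ hs
      simp only [φ, if_pos (Or.inl hs : Single η (S.e i) ∨ S.d i = 1),
        if_pos (Or.inl hs' : Single η (S.e j) ∨ S.d j = 1)] at hij
      exact φ₁.injective hij
    · have hs' : ¬Single η (S.e j) := hk1 ▸ hs
      have hk2 : S.d i = S.d j := by rw [← (hφ i).2 hs, ← (hφ j).2 hs', hij]
      by_cases h : S.d i = 1
      · simp only [φ, if_pos (Or.inr h : Single η (S.e i) ∨ S.d i = 1),
          if_pos (Or.inr (hk2 ▸ h) : Single η (S.e j) ∨ S.d j = 1)] at hij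
        exact φ₁.injective hij
      · simp only [φ, if_neg (not_or.2 ⟨hs, h⟩), if_neg (not_or.2 ⟨hs', hk2 ▸ h⟩)] at hij
        have := φ₁.injective (S'.pp _ ▸ congrArg S'.p hij |>.trans (S'.pp _))
        rw [← S.pp i, this, S.pp]
  have hbij : Function.Bijective φ :=
    (Fintype.bijective_iff_injective_and_card φ).2 ⟨hinj, Fintype.card_congr φ₁⟩
  refine ⟨Equiv.ofBijective φ hbij, fun i => (hφ i).1, fun i => ?_, fun i => (hφ i).2, fun i hs => ?_⟩
  swap
  · show φ i = φ₁ i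
    simp only [φ, if_pos (Or.inl hs : Single η (S.e i) ∨ S.d i = 1)]
  show φ (S.p i) = S'.p (φ i)
  by_cases hs : Single η (S.e i)
  · rw [(S.single i hs).1, (S'.single _ (by rw [(hφ i).1]; exact hs)).1]
  · obtain ⟨-, hd, hdp⟩ := S.pair i hs
    have hsp : ¬Single η (S.e (S.p i)) := by rwa [S.ep]
    rcases hd with hd | hd
    · have hdp' : ¬(Single η (S.e (S.p i)) ∨ S.d (S.p i) = 1) := by
        rw [not_or]
        exact ⟨hsp, by rw [hdp, hd]; exact fun h => hne h.symm⟩
      simp only [φ, if_pos (Or.inr hd : Single η (S.e i) ∨ S.d i = 1), if_neg hdp', S.pp]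
    · have hdi : ¬(Single η (S.e i) ∨ S.d i = 1) := by
        rw [not_or]
        exact ⟨hs, by rw [hd]; exact fun h => hne h.symm⟩
      have hdp' : Single η (S.e (S.p i)) ∨ S.d (S.p i) = 1 := Or.inr (by rw [hdp, hd, neg_neg])
      simp only [φ, if_pos hdp', if_neg hdi, S'.pp]

theorem exists_equiv {B' : V' →ₗ[F] V' →ₗ[F] F} {n' : Module.End F V'} {W' : Submodule F V'}
    [FiniteDimensional F V'] (S' : Fam B' η ν n' W') (h2 : (2 : F) ≠ 0) (hν : ν ≠ 1)
    (hm : ∀ e, S.mult e = S'.mult e) (hb : ∀ e, S.Bit e ↔ S'.Bit e) :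
    ∃ φ : S.ι ≃ S'.ι, (∀ i, S'.e (φ i) = S.e i) ∧ (∀ i, φ (S.p i) = S'.p (φ i)) ∧
      ∀ i, S'.d (φ i) = S.d i := by
  classical
  have key : ∀ c : ℕ × F, Nonempty ({i // (S.e i, S.d i) = c} ≃ {i // (S'.e i, S'.d i) = c}) := fun c =>
    ⟨Fintype.equivOfCardEq (by rw [← Nat.card_eq_fintype_card, ← Nat.card_eq_fintype_card]
                               exact S.card_key_eq S' h2 hν hm hb c)⟩
  let E := fun c => (key c).some
  let φ₁ : S.ι ≃ S'.ι := Equiv.ofFiberEquiv E
  have h₁ : ∀ i, S'.e (φ₁ i) = S.e i ∧ S'.d (φ₁ i) = S.d i := fun i =>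
    Prod.mk.inj (Equiv.ofFiberEquiv_map E i)
  obtain ⟨φ, he, hp, hd, hs⟩ := S.exists_equiv_of S' h2 φ₁ fun i => ⟨(h₁ i).1, fun _ => (h₁ i).2⟩
  refine ⟨φ, he, hp, fun i => ?_⟩
  by_cases h : Single η (S.e i)
  · rw [hs i h]; exact (h₁ i).2
  · exact hd i h

theorem finrank_map_pow (hn : IsSkew B n) (hW : ∀ w ∈ W, n w ∈ W) (hS : S.Spans) (k : ℕ) :
    finrank F (W.map (n ^ k)) = ∑ i, (S.e i - k) := by
  classical
  let sh : (Σ i, Fin (S.e i - k)) → Σ i, Fin (S.e i) := fun x =>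
    ⟨x.1, ⟨(x.2 : ℕ) + k, by have := x.2.2; omega⟩⟩
  have hsh : Function.Injective sh := by
    rintro ⟨i, a⟩ ⟨j, b⟩ h
    simp only [sh, Sigma.mk.injEq] at h
    obtain ⟨rfl, h⟩ := h
    simp only [heq_eq_eq, Fin.mk.injEq, Nat.add_right_cancel_iff] at h
    rw [Fin.ext h]
  have hli : LinearIndependent F (S.vec ∘ sh) := (S.linearIndependent hn).comp sh hsh
  have hspan : W.map (n ^ k) = Submodule.span F (Set.range (S.vec ∘ sh)) := by
    conv_lhs => rw [← S.span_vec hn hW hS, Submodule.map_span, ← Set.range_comp]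
    refine le_antisymm (Submodule.span_le.2 ?_) (Submodule.span_mono ?_)
    · rintro _ ⟨⟨i, a⟩, rfl⟩
      have he : ((n ^ k) ∘ S.vec) ⟨i, a⟩ = (n ^ (k + (a : ℕ))) (S.u i) := by
        rw [pow_add]; rfl
      rw [SetLike.mem_coe, he]
      rcases lt_or_ge (k + (a : ℕ)) (S.e i) with h | h
      · refine Submodule.subset_span ⟨⟨i, ⟨a, by omega⟩⟩, ?_⟩
        simp only [sh, Function.comp_apply, vec]
        rw [Nat.add_comm]
      · rw [S.pow_eq_zero hn hW hS i h]
        exact zero_mem _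
    · rintro _ ⟨⟨i, a⟩, rfl⟩
      refine ⟨⟨i, ⟨a, by have := a.2; omega⟩⟩, ?_⟩
      simp only [sh, Function.comp_apply, vec]
      rw [← Module.End.mul_apply, ← pow_add, Nat.add_comm]
  rw [hspan, finrank_span_eq_card hli, Fintype.card_sigma]
  simp

theorem mult_rank (hn : IsSkew B n) (hW : ∀ w ∈ W, n w ∈ W) (hS : S.Spans) (k : ℕ) :
    finrank F (W.map (n ^ k)) + finrank F (W.map (n ^ (k + 2))) =
      2 * finrank F (W.map (n ^ (k + 1))) + S.mult (k + 1) := by
  classical
  rw [S.finrank_map_pow hn hW hS, S.finrank_map_pow hn hW hS, S.finrank_map_pow hn hW hS, mult,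
    Nat.card_eq_fintype_card, Fintype.card_subtype, Finset.card_filter, Finset.mul_sum,
    ← Finset.sum_add_distrib, ← Finset.sum_add_distrib]
  refine Finset.sum_congr rfl fun i _ => ?_
  split_ifs with h <;> omega

theorem mult_zero : S.mult 0 = 0 := by
  haveI : IsEmpty {i // S.e i = 0} := ⟨fun i => by have := S.pos i.1; omega⟩
  exact Nat.card_of_isEmpty

end Fam

end CfsgLib.ClassNumberForm
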