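import Mathlib

/-!
# Class numbers for a subgroup of index two next to a central involution

If `O` is `G` times a central involution and `H ≤ G` has index at most two, the class number of `H` is controlled by
that of `O` and by the number of classes whose centralisers meet `G` in `H`.
-/

set_option autoImplicit false
set_option linter.unusedSectionVars false

namespace CfsgLib.ClassNumberForm

variable {O : Type*} [Group O] [Finite O]

/-- The centraliser of `y` meets `G` inside `H`. -/
def SplitIn (G H : Subgroup O) (y : O) : Prop := ∀ g ∈ G, g * y = y * g → g ∈ H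

theorem splitIn_mul_center {G H : Subgroup O} {z y : O} (hz : ∀ g, z * g = g * z) (h : SplitIn G H y) :
    SplitIn G H (z * y) := fun g hg hc => h g hg (mul_left_cancel (a := z) (by
  rw [← mul_assoc, ← mul_assoc, hz g, mul_assoc g z y, hc]))

/-- Commuting pairs in a group with a central complement of order two. -/
theorem card_conjClasses_central (G : Subgroup O) {z : O} (hz : ∀ g, z * g = g * z) (hz2 : z * z = 1) (hzG : z ∉ G)
    (hcov : ∀ g, g ∈ G ∨ z * g ∈ G) :
    Nat.card O = 2 * Nat.card G ∧ Nat.card (ConjClasses O) = 2 * Nat.card (ConjClasses G) := by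
  classical
  let em : Bool → O → O := fun b g => if b then z * g else g
  have hem : ∀ b g, em b (em b g) = g := fun b g => by
    cases b <;> simp [em, ← mul_assoc, hz2]
  have hcomm : ∀ b c g h, Commute (em b g) (em c h) ↔ Commute g h := by
    have h1 : ∀ g h, Commute (z * g) h ↔ Commute g h := fun g h => by
      constructor
      · intro hc
        have := (show Commute z h from hz h).mul_left hc
        rwa [← mul_assoc, hz2, one_mul] at this
      · exact fun hc => (show Commute z h from hz h).mul_left hc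
    intro b c g h
    have h3 : ∀ g h, Commute g (z * h) ↔ Commute g h := fun g h =>
      Commute.symm_iff.trans ((h1 h g).trans Commute.symm_iff)
    cases b <;> cases c <;> simp [em, h1, h3]
  let e : O ≃ G × Bool :=
    { toFun := fun g => if h : g ∈ G then (⟨g, h⟩, false) else (⟨z * g, (hcov g).resolve_left h⟩, true)
      invFun := fun p => em p.2 p.1
      left_inv := fun g => by
        by_cases h : g ∈ G <;> simp [h, em, ← mul_assoc, hz2]
      right_inv := fun p => by
        obtain ⟨⟨g, hg⟩, b⟩ := p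
        cases b
        · simp [em, hg]
        · have : z * g ∉ G := fun h => hzG (by simpa using G.mul_mem h (G.inv_mem hg))
          simp [em, this, ← mul_assoc, hz2] }
  have hO : Nat.card O = 2 * Nat.card G := by
    rw [Nat.card_congr e, Nat.card_prod, Nat.card_eq_fintype_card (α := Bool), Fintype.card_bool, mul_comm]
  refine ⟨hO, ?_⟩
  let f : {p : O × O // Commute p.1 p.2} ≃ {p : G × G // Commute p.1 p.2} × (Bool × Bool) :=
    { toFun := fun p => (⟨((e p.1.1).1, (e p.1.2).1), by
          have h := p.2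
          rw [← e.symm_apply_apply p.1.1, ← e.symm_apply_apply p.1.2] at h
          exact Subtype.ext ((hcomm _ _ _ _).1 h).eq⟩, ((e p.1.1).2, (e p.1.2).2))
      invFun := fun p => ⟨(e.symm (p.1.1.1, p.2.1), e.symm (p.1.1.2, p.2.2)),
        (hcomm _ _ _ _).2 (show Commute (p.1.1.1 : O) p.1.1.2 from congrArg Subtype.val p.1.2.eq)⟩
      left_inv := fun p => Subtype.ext (Prod.ext (e.symm_apply_apply _) (e.symm_apply_apply _))
      right_inv := fun p => by simp }
  have h := card_comm_eq_card_conjClasses_mul_card O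
  rw [Nat.card_congr f, Nat.card_prod, Nat.card_prod, card_comm_eq_card_conjClasses_mul_card,
    Nat.card_eq_fintype_card (α := Bool), Fintype.card_bool, hO] at h
  have hG : 0 < Nat.card G := Nat.card_pos
  exact Nat.eq_of_mul_eq_mul_right hG (by linarith)

/-- Pairs `(y, g)` with `y` split are at most the split classes times the order. -/
theorem card_split_pairs_le (G H : Subgroup O) :
    Nat.card {p : G × G // Commute p.1 p.2 ∧ SplitIn G H (p.1 : O)} ≤
      Nat.card {C : ConjClasses G // ∃ y, ConjClasses.mk y = C ∧ SplitIn G H (y : O)} * Nat.card G := by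
  classical
  have hc : ∀ y : G, ∃ c : G, c * (ConjClasses.mk y).out * c⁻¹ = y := fun y =>
    isConj_iff.1 (ConjClasses.mk_eq_mk_iff_isConj.1 (Quotient.out_eq _))
  choose c hc using hc
  rw [← Nat.card_prod]
  refine Nat.card_le_card_of_injective
    (fun p => (⟨ConjClasses.mk p.1.1, p.1.1, rfl, p.2.2⟩, p.1.2 * c p.1.1)) fun p p' h => ?_
  obtain ⟨⟨y, g⟩, hcy, hy⟩ := p
  obtain ⟨⟨y', g'⟩, hcy', hy'⟩ := p'
  simp only [Prod.mk.injEq, Subtype.mk.injEq] at h
  have key : ∀ a b : G, Commute a b → b * c a * (ConjClasses.mk a).out * (b * c a)⁻¹ = a := fun a b hab => by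
    rw [mul_inv_rev, show b * c a * (ConjClasses.mk a).out * ((c a)⁻¹ * b⁻¹) =
      b * (c a * (ConjClasses.mk a).out * (c a)⁻¹) * b⁻¹ by group, hc, ← hab.eq, mul_inv_cancel_right]
  obtain rfl : y = y' := by rw [← key y g hcy, h.2, h.1, key y' g' hcy']
  exact Subtype.ext (Prod.ext rfl (mul_right_cancel h.2))

/-- The class number of a subgroup of index at most two. -/
theorem index_two_bounds (G H : Subgroup O) (hHG : H ≤ G) (hmul : ∀ x ∈ G, ∀ y ∈ G, x ∉ H → y ∉ H → x * y ∈ H) :
    4 * Nat.card (ConjClasses H) ≤ 2 * Nat.card (ConjClasses G) +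
        6 * Nat.card {C : ConjClasses G // ∃ y, ConjClasses.mk y = C ∧ SplitIn G H (y : O)} ∧
      Nat.card (ConjClasses G) ≤ 2 * Nat.card (ConjClasses H) := by
  classical
  let P : (G → G → Prop) → ℕ := fun r => Nat.card {p : G × G // Commute p.1 p.2 ∧ r p.1 p.2}
  let S : G → Prop := fun a => SplitIn G H (a : O)
  let i : G → Prop := fun a => (a : O) ∈ H
  have split : ∀ r s : G → G → Prop, P r = P (fun a b => r a b ∧ s a b) + P (fun a b => r a b ∧ ¬s a b) := by
    intro r s
    simp only [P]
    rw [← Nat.card_sum]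
    exact Nat.card_congr ((Equiv.sumCompl fun p : {p : G × G // Commute p.1 p.2 ∧ r p.1 p.2} =>
      s p.1.1 p.1.2).symm.trans (Equiv.sumCongr ((Equiv.subtypeSubtypeEquivSubtypeInter _
        fun p : G × G => s p.1 p.2).trans (Equiv.subtypeEquivRight fun p => and_assoc))
      ((Equiv.subtypeSubtypeEquivSubtypeInter _ fun p : G × G => ¬s p.1 p.2).trans
        (Equiv.subtypeEquivRight fun p => and_assoc))))
  set HH := P fun a b => i a ∧ i b
  set HO := P fun a b => i a ∧ ¬i b
  set SS := P fun a _ => S a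
  have htot : Nat.card {p : G × G // Commute p.1 p.2} = HH + HO + P (fun a b => ¬i a ∧ i b) +
      P (fun a b => ¬i a ∧ ¬i b) := by
    have h0 : Nat.card {p : G × G // Commute p.1 p.2} = P fun _ _ => True :=
      Nat.card_congr (Equiv.subtypeEquivRight fun p => (and_true _).symm.to_iff)
    have e : ∀ r r' : G → G → Prop, (∀ a b, r a b ↔ r' a b) → P r = P r' := fun r r' h =>
      Nat.card_congr (Equiv.subtypeEquivRight fun p => and_congr_right fun _ => h _ _)
    rw [h0, split (fun _ _ => True) (fun a _ => i a), split (fun a b => True ∧ i a) (fun _ b => i b),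
      split (fun a b => True ∧ ¬i a) (fun _ b => i b)]
    simp only [HH, HO]
    rw [e (fun a b => (True ∧ i a) ∧ i b) (fun a b => i a ∧ i b) (fun a b => by simp),
      e (fun a b => (True ∧ i a) ∧ ¬i b) (fun a b => i a ∧ ¬i b) (fun a b => by simp),
      e (fun a b => (True ∧ ¬i a) ∧ i b) (fun a b => ¬i a ∧ i b) (fun a b => by simp),
      e (fun a b => (True ∧ ¬i a) ∧ ¬i b) (fun a b => ¬i a ∧ ¬i b) (fun a b => by simp), ← add_assoc]
  have hOH : P (fun a b => ¬i a ∧ i b) = HO := Nat.card_congr
    { toFun := fun p => ⟨(p.1.2, p.1.1), p.2.1.symm, p.2.2.2, p.2.2.1⟩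
      invFun := fun p => ⟨(p.1.2, p.1.1), p.2.1.symm, p.2.2.2, p.2.2.1⟩
      left_inv := fun _ => rfl
      right_inv := fun _ => rfl }
  have hOO : P (fun a b => ¬i a ∧ ¬i b) = P (fun a b => ¬i a ∧ i b) := Nat.card_congr
    { toFun := fun p => ⟨(p.1.1, p.1.1 * p.1.2), (Commute.refl _).mul_right p.2.1, p.2.2.1,
        hmul _ p.1.1.2 _ p.1.2.2 p.2.2.1 p.2.2.2⟩
      invFun := fun p => ⟨(p.1.1, p.1.1⁻¹ * p.1.2), ((Commute.refl p.1.1).inv_right).mul_right p.2.1, p.2.2.1,
        fun h => p.2.2.1 (by
          have h' : ((p.1.1⁻¹ * p.1.2 : G) : O) ∈ H := h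
          have h'' := H.inv_mem (H.mul_mem h' (H.inv_mem p.2.2.2))
          simpa [i] using h'')⟩
      left_inv := fun p => Subtype.ext (Prod.ext rfl (inv_mul_cancel_left _ _))
      right_inv := fun p => Subtype.ext (Prod.ext rfl (mul_inv_cancel_left _ _)) }
  have hSi : ∀ a : G, S a → i a := fun a h => h a a.2 rfl
  have hSS : SS = P (fun a b => (i a ∧ i b) ∧ S a) :=
    Nat.card_congr (Equiv.subtypeEquivRight fun p => ⟨fun h => ⟨h.1, ⟨hSi _ h.2,
      h.2 _ p.2.2 (congrArg Subtype.val h.1.eq.symm)⟩, h.2⟩, fun h => ⟨h.1, h.2.2⟩⟩)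
  have hns : P (fun a b => (i a ∧ i b) ∧ ¬S a) = HO := by
    have hg : ∀ a : G, ¬S a → ∃ g : G, Commute g a ∧ ¬i g := fun a h => by
      simp only [S, SplitIn, not_forall] at h
      obtain ⟨g, hg, hc, hgH⟩ := h
      exact ⟨⟨g, hg⟩, Subtype.ext hc, hgH⟩
    choose g hgc hgi using hg
    exact Nat.card_congr
      { toFun := fun p => ⟨(p.1.1, g p.1.1 p.2.2.2 * p.1.2), ((hgc _ _).symm).mul_right p.2.1, p.2.2.1.1,
          fun h => hgi _ p.2.2.2 (by
            have h' : ((g p.1.1 p.2.2.2 * p.1.2 : G) : O) ∈ H := h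
            simpa [i] using H.mul_mem h' (H.inv_mem p.2.2.1.2))⟩
        invFun := fun p =>
          have hn : ¬S p.1.1 := fun hs => p.2.2.2 (hs _ p.1.2.2 (congrArg Subtype.val p.2.1.eq.symm))
          ⟨(p.1.1, (g p.1.1 hn)⁻¹ * p.1.2), ((hgc _ _).inv_left.symm).mul_right p.2.1, ⟨p.2.2.1,
            hmul _ (G.inv_mem (g p.1.1 hn).2) _ p.1.2.2 (fun h => hgi _ hn (by simpa [i] using H.inv_mem h))
              p.2.2.2⟩, hn⟩
        left_inv := fun p => Subtype.ext (Prod.ext rfl (inv_mul_cancel_left _ _))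
        right_inv := fun p => Subtype.ext (Prod.ext rfl (mul_inv_cancel_left _ _)) }
  have hHH : HH = SS + HO := by
    rw [hSS, ← hns]
    exact split (fun a b => i a ∧ i b) (fun a _ => S a)
  have hH : HH = Nat.card (ConjClasses H) * Nat.card H := by
    rw [← card_comm_eq_card_conjClasses_mul_card]
    exact Nat.card_congr
      { toFun := fun p => ⟨(⟨p.1.1, p.2.2.1⟩, ⟨p.1.2, p.2.2.2⟩), Subtype.ext (congrArg Subtype.val p.2.1.eq :)⟩
        invFun := fun p => ⟨(⟨p.1.1, hHG p.1.1.2⟩, ⟨p.1.2, hHG p.1.2.2⟩),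
          Subtype.ext (congrArg Subtype.val p.2.eq :), p.1.1.2, p.1.2.2⟩
        left_inv := fun _ => rfl
        right_inv := fun _ => rfl }
  have hsle : SS ≤ Nat.card {C : ConjClasses G // ∃ y, ConjClasses.mk y = C ∧ SplitIn G H (y : O)} * Nat.card G :=
    card_split_pairs_le G H
  rw [card_comm_eq_card_conjClasses_mul_card, hOO, hOH] at htot
  set s := Nat.card {C : ConjClasses G // ∃ y, ConjClasses.mk y = C ∧ SplitIn G H (y : O)}
  have hGpos : 0 < Nat.card G := Nat.card_pos
  by_cases ha : ∃ a ∈ G, a ∉ H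
  · obtain ⟨a, haG, haH⟩ := ha
    have hidx : Nat.card G = 2 * Nat.card H := by
      have e : G ≃ H × Bool :=
        { toFun := fun g => if h : (g : O) ∈ H then (⟨g, h⟩, false) else (⟨a * g, hmul a haG g g.2 haH h⟩, true)
          invFun := fun p => if p.2 then ⟨a⁻¹ * p.1, G.mul_mem (G.inv_mem haG) (hHG p.1.2)⟩ else ⟨p.1, hHG p.1.2⟩
          left_inv := fun g => by by_cases h : (g : O) ∈ H <;> simp [h]
          right_inv := fun p => by
            obtain ⟨⟨g, hg⟩, b⟩ := p
            cases b
            · simp [hg]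
            · have : a⁻¹ * g ∉ H := fun h => haH (by
                simpa using H.inv_mem (H.mul_mem h (H.inv_mem hg)))
              simp [this] }
      rw [Nat.card_congr e, Nat.card_prod, Nat.card_eq_fintype_card (α := Bool), Fintype.card_bool, mul_comm]
    have hHpos : 0 < Nat.card H := Nat.card_pos
    constructor
    · refine Nat.le_of_mul_le_mul_right (c := Nat.card H) ?_ hHpos
      rw [hidx] at htot hsle
      nlinarith
    · refine Nat.le_of_mul_le_mul_right (c := Nat.card H) ?_ hHpos
      rw [hidx] at htot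
      nlinarith
  · push Not at ha
    obtain rfl : H = G := le_antisymm hHG ha
    have hnone : HO = 0 := by
      haveI : IsEmpty {p : H × H // Commute p.1 p.2 ∧ (i p.1 ∧ ¬i p.2)} := ⟨fun p => p.2.2.2 p.1.2.2⟩
      exact Nat.card_of_isEmpty
    constructor
    · refine Nat.le_of_mul_le_mul_right (c := Nat.card H) ?_ hGpos
      nlinarith
    · omega

/-- The class number of a subgroup of index at most four. -/
theorem index_four_bounds (G H : Subgroup O) {z : O} (hz : ∀ g, z * g = g * z) (hz2 : z * z = 1) (hzG : z ∉ G)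
    (hcov : ∀ g, g ∈ G ∨ z * g ∈ G) (hHG : H ≤ G) (hmul : ∀ x ∈ G, ∀ y ∈ G, x ∉ H → y ∉ H → x * y ∈ H) :
    4 * Nat.card (ConjClasses H) ≤ Nat.card (ConjClasses O) +
        3 * Nat.card {C : ConjClasses O // ∃ y, ConjClasses.mk y = C ∧ SplitIn G H y} ∧
      Nat.card (ConjClasses O) ≤ 4 * Nat.card (ConjClasses H) := by
  classical
  obtain ⟨-, hk⟩ := card_conjClasses_central G hz hz2 hzG hcov
  obtain ⟨h1, h2⟩ := index_two_bounds G H hHG hmul
  refine ⟨?_, by omega⟩
  let T := {C : ConjClasses G // ∃ y, ConjClasses.mk y = C ∧ SplitIn G H (y : O)}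
  let f : T × Bool → {C : ConjClasses O // ∃ y, ConjClasses.mk y = C ∧ SplitIn G H y} := fun p =>
    ⟨ConjClasses.mk (cond p.2 (z * p.1.2.choose) p.1.2.choose), _, rfl, by
      cases p.2
      · exact p.1.2.choose_spec.2
      · exact splitIn_mul_center hz p.1.2.choose_spec.2⟩
  have hf : Function.Injective f := by
    rintro ⟨C, b⟩ ⟨C', b'⟩ h
    obtain ⟨c, hc⟩ := isConj_iff.1 (ConjClasses.mk_eq_mk_iff_isConj.1 (congrArg Subtype.val h))
    have hin : ∀ y : G, c * (y : O) * c⁻¹ ∈ G := fun y => by
      rcases hcov c with h' | h'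
      · exact G.mul_mem (G.mul_mem h' y.2) (G.inv_mem h')
      · have := G.mul_mem (G.mul_mem h' y.2) (G.inv_mem h')
        rwa [mul_inv_rev, show z * c * (y : O) * (c⁻¹ * z⁻¹) = z * (c * y * c⁻¹) * z⁻¹ by group, hz,
          mul_inv_cancel_right] at this
    set y := C.2.choose with hy
    set y' := C'.2.choose with hy'
    cases b <;> cases b' <;> simp only [cond_false, cond_true] at hc
    rotate_left
    · exact (hzG (by simpa [hc] using G.mul_mem (hin y) (G.inv_mem y'.2))).elim
    · refine (hzG ?_).elim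
      have e : z * (c * (y : O) * c⁻¹) = y' := by rw [← hc, ← mul_assoc, ← mul_assoc, hz c]; group
      have := G.mul_mem y'.2 (G.inv_mem (hin y))
      rwa [← e, mul_inv_cancel_right] at this
    all_goals
      have e : c * (y : O) * c⁻¹ = y' := by
        first
          | exact hc
          | refine mul_left_cancel (a := z) (Eq.trans ?_ hc)
            rw [← mul_assoc, ← mul_assoc, hz c]
            group
      obtain ⟨d, hd, hde⟩ : ∃ d ∈ G, d * (y : O) * d⁻¹ = y' := by
        rcases hcov c with h' | h'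
        · exact ⟨c, h', e⟩
        · refine ⟨z * c, h', ?_⟩
          rw [mul_inv_rev, show z * c * (y : O) * (c⁻¹ * z⁻¹) = z * (c * y * c⁻¹) * z⁻¹ by group, hz,
            mul_inv_cancel_right, e]
      refine Prod.ext (Subtype.ext ?_) rfl
      rw [← C.2.choose_spec.1, ← C'.2.choose_spec.1, ← hy, ← hy', ConjClasses.mk_eq_mk_iff_isConj, isConj_iff]
      exact ⟨⟨d, hd⟩, Subtype.ext hde⟩
  have := Nat.card_le_card_of_injective f hf
  rw [Nat.card_prod, Nat.card_eq_fintype_card (α := Bool), Fintype.card_bool] at this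
  simp only [T] at this
  omega

end CfsgLib.ClassNumberForm
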