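import Cfsg.Agent.Lib.KnownA.ClassNumberForm.Count

/-!
# Numerical bounds
-/

set_option autoImplicit false
set_option linter.unusedSectionVars false

namespace CfsgLib.ClassNumberForm

open Finset

/-- The local factor. -/
def locFac (x : ℚ) : ℚ := (1 + x) ^ 4 / (1 - x)

theorem locFac_nonneg {x : ℚ} (h0 : 0 ≤ x) (h1 : x < 1) : 0 ≤ locFac x :=
  div_nonneg (pow_nonneg (by linarith) _) (by linarith)

theorem one_le_locFac {x : ℚ} (h0 : 0 ≤ x) (h1 : x < 1) : 1 ≤ locFac x := by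
  rw [locFac, le_div_iff₀ (by linarith), one_mul]
  have : 1 ≤ (1 + x) ^ 4 := one_le_pow₀ (by linarith)
  linarith

theorem locFac_mono {x y : ℚ} (h0 : 0 ≤ x) (hxy : x ≤ y) (h1 : y < 1) : locFac x ≤ locFac y := by
  unfold locFac
  gcongr

theorem locFac_step {y : ℚ} (h0 : 0 ≤ y) (h1 : y ≤ 1 / 243) :
    (1 - 9 * y) * locFac y ≤ 1 - 3 * y := by
  rw [locFac, ← mul_div_assoc, div_le_iff₀ (by linarith)]
  have h2 : (1 + y) ^ 4 ≤ 1 + 4 * y + 7 * y ^ 2 := by
    nlinarith [mul_le_mul_of_nonneg_left h1 (sq_nonneg y), pow_nonneg h0 3, pow_nonneg h0 4,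
      mul_le_mul_of_nonneg_left h1 (pow_nonneg h0 3)]
  refine (mul_le_mul_of_nonneg_left h2 (by linarith)).trans ?_
  nlinarith [pow_nonneg h0 3, sq_nonneg y]

/-- The product of the local factors at `1/3`. -/
theorem prod_third (m : ℕ) : ∏ j ∈ range m, locFac ((1 / 3 : ℚ) ^ (j + 1)) ≤ 54 / 5 := by
  have hk : ∀ j : ℕ, 0 ≤ (1 / 3 : ℚ) ^ (j + 1) ∧ (1 / 3 : ℚ) ^ (j + 1) < 1 := fun j =>
    ⟨by positivity, pow_lt_one₀ (by norm_num) (by norm_num) (Nat.succ_ne_zero j)⟩
  have key : ∀ r, ∏ j ∈ range (4 + r), locFac ((1 / 3 : ℚ) ^ (j + 1)) ≤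
      54 / 5 * (1 - 3 * (1 / 3 : ℚ) ^ (4 + r)) := by
    intro r
    induction r with
    | zero => norm_num [Finset.prod_range_succ, locFac]
    | succ r ih =>
      rw [← add_assoc, Finset.prod_range_succ]
      refine (mul_le_mul_of_nonneg_right ih (locFac_nonneg (hk _).1 (hk _).2)).trans ?_
      have hy : (1 / 3 : ℚ) ^ (4 + r + 1) ≤ 1 / 243 := by
        calc (1 / 3 : ℚ) ^ (4 + r + 1) ≤ (1 / 3 : ℚ) ^ 5 :=
              pow_le_pow_of_le_one (by norm_num) (by norm_num) (by omega)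
          _ = 1 / 243 := by norm_num
      rw [mul_assoc, show (3 : ℚ) * (1 / 3) ^ (4 + r) = 9 * (1 / 3) ^ (4 + r + 1) by rw [pow_succ]; ring]
      exact mul_le_mul_of_nonneg_left (locFac_step (by positivity) hy) (by norm_num)
  refine le_trans ?_ ((key m).trans ?_)
  · refine Finset.prod_le_prod_of_subset_of_one_le (Finset.range_subset_range.2 (by omega))
      (fun j _ => locFac_nonneg (hk j).1 (hk j).2) fun j _ _ => one_le_locFac (hk j).1 (hk j).2
  · have : 0 ≤ (1 / 3 : ℚ) ^ (4 + m) := by positivity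
    linarith

theorem prod_locFac_le {x : ℚ} (h0 : 0 ≤ x) (h3 : x ≤ 1 / 3) (m : ℕ) :
    ∏ j ∈ range m, locFac (x ^ (j + 1)) ≤ 54 / 5 := by
  refine le_trans (Finset.prod_le_prod (fun j _ => ?_) fun j _ => ?_) (prod_third m)
  · exact locFac_nonneg (by positivity) (pow_lt_one₀ h0 (by linarith) (Nat.succ_ne_zero j))
  · exact locFac_mono (by positivity) (pow_le_pow_left₀ h0 h3 _)
      (pow_lt_one₀ (by norm_num) (by norm_num) (Nat.succ_ne_zero j))

theorem cK_eq (x : ℚ) : ∀ m, cK x (m + 1) = ∏ j ∈ range m, 1 / (1 - x ^ (j + 1))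
  | 0 => rfl
  | m + 1 => by
    rw [Finset.prod_range_succ, ← cK_eq x m, mul_one_div]
    rfl

theorem cK_mul_le {x : ℚ} (h0 : 0 ≤ x) (h3 : x ≤ 1 / 3) (m : ℕ) {n : ℕ} (hn : n ≤ m + 1) :
    cK x (m + 1) * ∏ j ∈ range n, (1 + x ^ (j + 1)) ^ 4 ≤ 54 / 5 := by
  have hk : ∀ j : ℕ, 0 ≤ x ^ (j + 1) ∧ x ^ (j + 1) < 1 := fun j =>
    ⟨by positivity, pow_lt_one₀ h0 (by linarith) (Nat.succ_ne_zero j)⟩
  refine le_trans ?_ (prod_locFac_le h0 h3 (m + 1))
  rw [cK_eq, show (∏ j ∈ range (m + 1), locFac (x ^ (j + 1))) =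
    (∏ j ∈ range (m + 1), 1 / (1 - x ^ (j + 1))) * ∏ j ∈ range (m + 1), (1 + x ^ (j + 1)) ^ 4 from by
      rw [← Finset.prod_mul_distrib]
      exact Finset.prod_congr rfl fun j _ => by rw [locFac]; ring]
  refine mul_le_mul ?_ ?_ (Finset.prod_nonneg fun j _ => by have := (hk j).1; positivity)
    (Finset.prod_nonneg fun j _ => div_nonneg zero_le_one (by linarith [(hk j).2]))
  · refine Finset.prod_le_prod_of_subset_of_one_le (Finset.range_subset_range.2 (by omega))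
      (fun j _ => div_nonneg zero_le_one (by linarith [(hk j).2])) fun j _ _ => ?_
    rw [le_div_iff₀ (by linarith [(hk j).2])]
    linarith [(hk j).1]
  · refine Finset.prod_le_prod_of_subset_of_one_le (Finset.range_subset_range.2 hn)
      (fun j _ => by have := (hk j).1; positivity) fun j _ _ => one_le_pow₀ (by linarith [(hk j).1])

/-- A sum over Boolean configurations as a product. -/
theorem sum_config_eq {N : ℕ} (w : Fin N → ℚ) :
    ∑ S : Fin N → Fin 4 → Bool, ∏ i, ∏ k, (if S i k then w i else 1) = ∏ i, (1 + w i) ^ 4 := by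
  rw [← Fintype.prod_sum (fun i (s : Fin 4 → Bool) => ∏ k, if s k then w i else 1)]
  refine Finset.prod_congr rfl fun i _ => ?_
  rw [← Fintype.prod_sum (fun _ (b : Bool) => if b then w i else 1)]
  simp [Fintype.sum_bool, add_comm]

theorem prod_config_eq {N : ℕ} (w : Fin N → ℚ) (S : Fin N → Fin 4 → Bool) :
    ∏ i, ∏ k, (if S i k then w i else 1) = ∏ i, w i ^ (univ.filter fun k => S i k = true).card := by
  refine Finset.prod_congr rfl fun i _ => ?_
  rw [← Finset.prod_filter, Finset.prod_const]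

end CfsgLib.ClassNumberForm
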