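import Cfsg.Agent.Lib.KnownA.ClassNumberForm.Numeric

/-!
# Numerical bounds for orthogonal groups
-/

set_option autoImplicit false
set_option linter.unusedSectionVars false

namespace CfsgLib.ClassNumberForm

open Finset

theorem cK_le_const {x : ℚ} (h0 : 0 ≤ x) (h3 : x ≤ 1 / 3) (m : ℕ) : cK x m ≤ 9 / 5 := by
  rcases m with _ | m
  · norm_num [cK]
  rw [cK_eq]
  have hk : ∀ j : ℕ, 0 ≤ (1 / 3 : ℚ) ^ (j + 1) ∧ (1 / 3 : ℚ) ^ (j + 1) < 1 := fun j =>
    ⟨by positivity, pow_lt_one₀ (by norm_num) (by norm_num) (Nat.succ_ne_zero j)⟩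
  have key : ∀ r, ∏ j ∈ range (4 + r), 1 / (1 - (1 / 3 : ℚ) ^ (j + 1)) ≤ 9 / 5 * (1 - (1 / 3 : ℚ) ^ (4 + r)) := by
    intro r
    induction r with
    | zero => norm_num [Finset.prod_range_succ]
    | succ r ih =>
      rw [← add_assoc, Finset.prod_range_succ, mul_one_div, div_le_iff₀ (by linarith [(hk (4 + r)).2])]
      refine ih.trans ?_
      have e : (1 / 3 : ℚ) ^ (4 + r) = 3 * (1 / 3) ^ (4 + r + 1) := by rw [pow_succ]; ring
      rw [e]
      nlinarith [sq_nonneg ((1 / 3 : ℚ) ^ (4 + r + 1)), (hk (4 + r)).1]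
  calc ∏ j ∈ range m, 1 / (1 - x ^ (j + 1)) ≤ ∏ j ∈ range m, 1 / (1 - (1 / 3 : ℚ) ^ (j + 1)) := by
        refine Finset.prod_le_prod (fun j _ => ?_) fun j _ => ?_
        · have h : x ^ (j + 1) < 1 := pow_lt_one₀ h0 (by linarith) (Nat.succ_ne_zero j)
          exact div_nonneg zero_le_one (by linarith)
        · exact one_div_le_one_div_of_le (by linarith [(hk j).2]) (by linarith [pow_le_pow_left₀ h0 h3 (j + 1)])
    _ ≤ ∏ j ∈ range (4 + m), 1 / (1 - (1 / 3 : ℚ) ^ (j + 1)) := by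
        refine Finset.prod_le_prod_of_subset_of_one_le (Finset.range_subset_range.2 (by omega))
          (fun j _ => div_nonneg zero_le_one (by linarith [(hk j).2])) fun j _ _ => ?_
        rw [le_div_iff₀ (by linarith [(hk j).2])]
        linarith [(hk j).1]
    _ ≤ 9 / 5 := (key m).trans (by linarith [pow_nonneg (by norm_num : (0 : ℚ) ≤ 1 / 3) (4 + m)])

/-- The product over the odd sizes at `29/50`. -/
theorem prod_odd_le (n : ℕ) : ∏ j ∈ range n, (1 + (29 / 50 : ℚ) ^ (2 * j + 1)) ^ 4 ≤ 19 := by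
  have key : ∀ r, ∏ j ∈ range (4 + r), (1 + (29 / 50 : ℚ) ^ (2 * j + 1)) ^ 4 ≤
      19 * (1 - 7 * (29 / 50 : ℚ) ^ (2 * (4 + r) + 1)) := by
    intro r
    induction r with
    | zero => norm_num [Finset.prod_range_succ]
    | succ r ih =>
      rw [← add_assoc, Finset.prod_range_succ]
      refine (mul_le_mul_of_nonneg_right ih (by positivity)).trans ?_
      set z := (29 / 50 : ℚ) ^ (2 * (4 + r) + 1) with hz
      have hz0 : 0 ≤ z := by positivity
      have hz1 : z ≤ 1 / 100 := by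
        calc z ≤ (29 / 50 : ℚ) ^ 9 := pow_le_pow_of_le_one (by norm_num) (by norm_num) (by omega)
          _ ≤ 1 / 100 := by norm_num
      rw [mul_assoc, show (29 / 50 : ℚ) ^ (2 * (4 + r + 1) + 1) = 841 / 2500 * z by
        rw [hz, show 2 * (4 + r + 1) + 1 = 2 * (4 + r) + 1 + 2 by omega, pow_add]; ring]
      refine mul_le_mul_of_nonneg_left ?_ (by norm_num)
      have h2 : (1 + z) ^ 4 ≤ 1 + 4 * z + 7 * z ^ 2 := by
        nlinarith [mul_le_mul_of_nonneg_left hz1 (sq_nonneg z), pow_nonneg hz0 3, pow_nonneg hz0 4,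
          mul_le_mul_of_nonneg_left hz1 (pow_nonneg hz0 3)]
      refine (mul_le_mul_of_nonneg_left h2 (by linarith)).trans ?_
      nlinarith [pow_nonneg hz0 3, sq_nonneg z]
  refine le_trans ?_ ((key n).trans ?_)
  · exact Finset.prod_le_prod_of_subset_of_one_le (Finset.range_subset_range.2 (by omega))
      (fun j _ => by positivity) fun j _ _ => one_le_pow₀ (le_add_of_nonneg_right (by positivity))
  · have : 0 ≤ (29 / 50 : ℚ) ^ (2 * (4 + n) + 1) := by positivity
    linarith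

theorem prod_odd_neg_le {n : ℕ} (hn : 1 ≤ n) :
    ∏ j ∈ range n, (1 - (29 / 50 : ℚ) ^ (2 * j + 1)) ^ 4 ≤ 1 / 20 := by
  have hk : ∀ j : ℕ, (29 / 50 : ℚ) ^ (2 * j + 1) ≤ 1 := fun j => pow_le_one₀ (by norm_num) (by norm_num)
  obtain ⟨m, rfl⟩ : ∃ m, n = m + 1 := ⟨n - 1, by omega⟩
  rw [Finset.prod_range_succ']
  refine (mul_le_mul_of_nonneg_right (Finset.prod_le_one (fun j _ => by positivity) fun j _ => ?_)
    (by positivity)).trans ?_
  · refine pow_le_one₀ (by linarith [hk (j + 1)]) ?_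
    have : 0 ≤ (29 / 50 : ℚ) ^ (2 * (j + 1) + 1) := by positivity
    linarith
  · norm_num

theorem prod_range_double_even (y : ℕ → ℚ) : ∀ n : ℕ,
    ∏ i ∈ range (n + n), (1 + if i % 2 = 0 then y (i + 1) else 0) ^ 4 =
      ∏ j ∈ range n, (1 + y (2 * j + 1)) ^ 4
  | 0 => rfl
  | n + 1 => by
    rw [show n + 1 + (n + 1) = n + n + 1 + 1 by omega, Finset.prod_range_succ, Finset.prod_range_succ,
      prod_range_double_even y n, Finset.prod_range_succ, if_pos (by omega), if_neg (by omega),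
      show n + n + 1 = 2 * n + 1 by omega]
    ring

end CfsgLib.ClassNumberForm
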