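import Cfsg.Agent.Lib.KnownA.ClassNumberForm.SplitCount
import Cfsg.Agent.Lib.KnownA.ClassNumberForm.OrthNumeric

/-!
# Counts for odd dimension

Palindromic tuples whose first entry has no root one or minus one, and sums over configurations of odd weight.
-/

set_option autoImplicit false
set_option linter.unusedSectionVars false

namespace CfsgLib.ClassNumberForm

open Polynomial Finset

/-- Palindromic polynomials of degree `2 * d` without the roots one and minus one, counted from above. -/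
def c0 (q d : ℕ) : ℕ := if d = 0 then 1 else if d = 1 then q - 2 else (q - 1) ^ 2 * q ^ (d - 2)

/-- Weighted count of palindromic tuples whose first entry has no root one or minus one. -/
def cnt0 (q : ℕ) : ℕ → ℕ → ℕ
  | 0, n => c0 q n
  | (m + 1), n => ∑ d ∈ range (n / (m + 2) + 1), q ^ d * cnt0 q m (n - (m + 2) * d)

/-- Weighted count of palindromic tuples with trivial first entry. -/
def eC (q : ℕ) : ℕ → ℕ → ℕ
  | 0, n => if n = 0 then 1 else 0
  | (m + 1), n => ∑ d ∈ range (n / (m + 2) + 1), q ^ d * eC q m (n - (m + 2) * d)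

theorem cnt0_zero (q : ℕ) : ∀ m, cnt0 q m 0 = 1
  | 0 => by simp [cnt0, c0]
  | m + 1 => by simp [cnt0, cnt0_zero q m]

theorem cnt0_le {q : ℕ} (hq : 2 ≤ q) : ∀ m n, (cnt0 q m n : ℚ) ≤
    (1 - (q : ℚ)⁻¹) ^ 2 * cntP q (m + 1) n + (2 * (q : ℚ)⁻¹ - (q : ℚ)⁻¹ ^ 2) * eC q m n := by
  have hq0 : (0 : ℚ) < q := by exact_mod_cast (by omega : 0 < q)
  intro m
  induction m with
  | zero =>
    intro n
    rw [cntP_one]
    rcases n with _ | _ | n
    · simp [cnt0, c0, eC]
      ring_nf
      rfl
    · simp only [cnt0, c0, eC, if_neg (show ¬(0 + 1 = 0) by omega), if_pos, Nat.cast_zero, mul_zero, add_zero,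
        zero_add, pow_one, Nat.cast_sub hq, Nat.cast_ofNat]
      have : (1 - (q : ℚ)⁻¹) ^ 2 * q = q - 2 + (q : ℚ)⁻¹ := by field_simp; ring
      rw [this]
      have : 0 ≤ (q : ℚ)⁻¹ := by positivity
      linarith
    · simp only [cnt0, c0, eC, if_neg (show ¬(n + 1 + 1 = 0) by omega), if_neg (show ¬(n + 1 + 1 = 1) by omega),
        Nat.cast_zero, mul_zero, add_zero, show n + 1 + 1 - 2 = n by omega]
      push_cast [Nat.cast_sub (show 1 ≤ q by omega)]
      refine le_of_eq ?_
      field_simp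
      ring
  | succ m ih =>
    intro n
    show ((∑ d ∈ range (n / (m + 2) + 1), q ^ d * cnt0 q m (n - (m + 2) * d) : ℕ) : ℚ) ≤
      _ * ((∑ d ∈ range (n / (m + 2) + 1), q ^ d * cntP q (m + 1) (n - (m + 2) * d) : ℕ) : ℚ) +
      _ * ((∑ d ∈ range (n / (m + 2) + 1), q ^ d * eC q m (n - (m + 2) * d) : ℕ) : ℚ)
    push_cast
    rw [Finset.mul_sum, Finset.mul_sum, ← Finset.sum_add_distrib]
    refine Finset.sum_le_sum fun d _ => ?_
    refine (mul_le_mul_of_nonneg_left (ih _) (by positivity)).trans (le_of_eq ?_)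
    ring

/-- The bounds for the counts with trivial first entry. -/
def dB (m : ℕ) : ℚ :=
  if m = 0 then 0 else if m = 1 then 1 / 3 else if m = 2 then 49 / 100 else 3 / 5 - 5 / 2 * (1 / 3) ^ (m + 1)

theorem dB_le (m : ℕ) : 0 ≤ dB m ∧ dB m ≤ 3 / 5 := by
  unfold dB
  split_ifs with h0 h1 h2 <;> try norm_num
  have h : (1 / 3 : ℚ) ^ (m + 1) ≤ (1 / 3) ^ 4 := pow_le_pow_of_le_one (by norm_num) (by norm_num) (by omega)
  have h' : (0 : ℚ) ≤ (1 / 3 : ℚ) ^ (m + 1) := by positivity
  norm_num only at h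
  linarith

theorem dB_step (m : ℕ) :
    dB m / (1 - (1 / 3) ^ (m + 1)) + (1 / 3) ^ (m + 1) ≤ dB (m + 1) := by
  rcases m with _ | _ | _ | m
  · norm_num [dB]
  · norm_num [dB]
  · norm_num [dB]
  simp only [dB, if_neg (show ¬(m + 1 + 1 + 1 = 0) by omega), if_neg (show ¬(m + 1 + 1 + 1 = 1) by omega),
    if_neg (show ¬(m + 1 + 1 + 1 = 2) by omega), if_neg (show ¬(m + 1 + 1 + 1 + 1 = 0) by omega),
    if_neg (show ¬(m + 1 + 1 + 1 + 1 = 1) by omega), if_neg (show ¬(m + 1 + 1 + 1 + 1 = 2) by omega)]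
  rw [pow_succ (1 / 3 : ℚ) (m + 1 + 1 + 1 + 1)]
  set z := (1 / 3 : ℚ) ^ (m + 1 + 1 + 1 + 1) with hz
  have hz0 : 0 ≤ z := by positivity
  have hz1 : z ≤ 1 / 81 := by
    calc z ≤ (1 / 3 : ℚ) ^ 4 := pow_le_pow_of_le_one (by norm_num) (by norm_num) (by omega)
      _ = 1 / 81 := by norm_num
  rw [← le_sub_iff_add_le, div_le_iff₀ (by linarith)]
  nlinarith [sq_nonneg z]

theorem eC_le {q : ℕ} (hq : 3 ≤ q) : ∀ m n, (eC q m n : ℚ) ≤ (if n = 0 then 1 else dB m) * (q : ℚ) ^ n := by
  have hq0 : (0 : ℚ) < q := by exact_mod_cast (by omega : 0 < q)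
  intro m
  induction m with
  | zero =>
    intro n
    rcases Nat.eq_zero_or_pos n with rfl | hn
    · simp [eC]
    · simp [eC, dB, hn.ne']
  | succ m ih =>
    intro n
    show ((∑ d ∈ range (n / (m + 2) + 1), q ^ d * eC q m (n - (m + 2) * d) : ℕ) : ℚ) ≤ _
    rcases Nat.eq_zero_or_pos n with rfl | hn
    · simpa using ih 0
    rw [if_neg hn.ne']
    set x : ℚ := (q : ℚ)⁻¹
    have hx0 : 0 ≤ x := by positivity
    have hx3 : x ≤ 1 / 3 := by
      simp only [x, one_div]
      exact inv_anti₀ (by norm_num) (by exact_mod_cast hq)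
    set y := x ^ (m + 1) with hy
    have hy0 : 0 ≤ y := by positivity
    have hy1 : y ≤ (1 / 3) ^ (m + 1) := pow_le_pow_left₀ hx0 hx3 _
    have hy3 : (1 / 3 : ℚ) ^ (m + 1) < 1 := pow_lt_one₀ (by norm_num) (by norm_num) (Nat.succ_ne_zero m)
    push_cast
    have hterm : ∀ d ∈ range (n / (m + 2) + 1), (q : ℚ) ^ d * eC q m (n - (m + 2) * d) ≤
        (y ^ d * dB m + if (m + 2) * d = n then y ^ d else 0) * (q : ℚ) ^ n := by
      intro d hd
      have hd' : (m + 2) * d ≤ n :=
        (Nat.mul_le_mul_left (m + 2) (Nat.lt_succ_iff.1 (mem_range.1 hd))).trans (Nat.mul_div_le n _)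
      obtain ⟨r, rfl⟩ : ∃ r, n = (m + 2) * d + r := ⟨_, (Nat.add_sub_cancel' hd').symm⟩
      rw [Nat.add_sub_cancel_left]
      have hy' : y ^ d * (q : ℚ) ^ ((m + 2) * d + r) = (q : ℚ) ^ d * (q : ℚ) ^ r := by
        rw [hy, ← pow_mul, pow_add, show (m + 2) * d = (m + 1) * d + d by ring, pow_add (q : ℚ) ((m + 1) * d)]
        simp only [x, inv_pow]
        field_simp
      refine (mul_le_mul_of_nonneg_left (ih r) (by positivity)).trans ?_
      rcases Nat.eq_zero_or_pos r with rfl | hr
      · rw [if_pos rfl, if_pos (add_zero _).symm, one_mul, ← hy']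
        exact mul_le_mul_of_nonneg_right (le_add_of_nonneg_left (mul_nonneg (by positivity) (dB_le m).1))
          (by positivity)
      · rw [if_neg hr.ne', if_neg (show ¬((m + 2) * d = (m + 2) * d + r) by omega), add_zero]
        refine le_of_eq ?_
        linear_combination (-dB m) * hy'
    refine (Finset.sum_le_sum hterm).trans ?_
    rw [← Finset.sum_mul]
    refine mul_le_mul_of_nonneg_right (le_trans ?_ (dB_step m)) (by positivity)
    rw [Finset.sum_add_distrib, ← Finset.sum_mul]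
    refine add_le_add ?_ ?_
    · rw [mul_comm, div_eq_mul_one_div]
      refine mul_le_mul_of_nonneg_left ?_ (dB_le m).1
      rw [geom_sum_eq (by linarith : y ≠ 1), ← neg_div_neg_eq, neg_sub, neg_sub]
      refine div_le_div₀ zero_le_one ?_ (by linarith) (by linarith)
      linarith [pow_nonneg hy0 (n / (m + 2) + 1)]
    · rw [← Finset.sum_filter]
      rcases Finset.eq_empty_or_nonempty ((range (n / (m + 2) + 1)).filter fun d => (m + 2) * d = n) with h | ⟨d, hd⟩
      · rw [h, Finset.sum_empty]; positivity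
      · have hd' := (Finset.mem_filter.1 hd).2
        rw [Finset.sum_eq_single_of_mem d hd fun b hb hne => absurd
          (Nat.eq_of_mul_eq_mul_left (by omega) ((Finset.mem_filter.1 hb).2.trans hd'.symm)) hne]
        refine le_trans ?_ hy1
        refine pow_le_of_le_one hy0 (by linarith) ?_
        rintro rfl
        omega

theorem one_sub_mul_cK_le {x : ℚ} (h0 : 0 ≤ x) (h3 : x ≤ 1 / 3) (m : ℕ) : (1 - x) * cK x (m + 1) ≤ 6 / 5 := by
  rcases m with _ | k
  · show (1 - x) * 1 ≤ 6 / 5
    linarith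
  have key : ∀ k, (1 - x) * cK x (k + 2) ≤ 2 / 3 * cK (1 / 3) (k + 2) := by
    intro k
    induction k with
    | zero =>
      show (1 - x) * (1 / (1 - x ^ (0 + 1))) ≤ 2 / 3 * (1 / (1 - (1 / 3) ^ (0 + 1)))
      rw [pow_one, pow_one, mul_one_div_cancel (by linarith)]
      norm_num
    | succ k ih =>
      show (1 - x) * (cK x (k + 2) / (1 - x ^ (k + 2))) ≤ 2 / 3 * (cK (1 / 3) (k + 2) / (1 - (1 / 3) ^ (k + 2)))
      have h1 : (1 / 3 : ℚ) ^ (k + 2) < 1 := pow_lt_one₀ (by norm_num) (by norm_num) (by omega)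
      have hxk : x ^ (k + 2) ≤ (1 / 3) ^ (k + 2) := pow_le_pow_left₀ h0 h3 _
      rw [← mul_div_assoc, ← mul_div_assoc]
      exact div_le_div₀ (mul_nonneg (by norm_num) (cK_pos (by norm_num) (by norm_num) _).le) ih (by linarith)
        (by linarith)
  refine (key k).trans ?_
  linarith [cK_le_const (x := 1 / 3) (by norm_num) le_rfl (k + 2)]

theorem cnt0_bound {q : ℕ} (hq : 3 ≤ q) (m n : ℕ) : (cnt0 q m n : ℚ) ≤ 6 / 5 * (q : ℚ) ^ n := by
  rcases Nat.eq_zero_or_pos n with rfl | hn
  · rw [cnt0_zero]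
    norm_num
  set x : ℚ := (q : ℚ)⁻¹ with hx
  have hx0 : 0 ≤ x := by positivity
  have hx3 : x ≤ 1 / 3 := by
    rw [hx, one_div]
    exact inv_anti₀ (by norm_num) (by exact_mod_cast hq)
  have h1 := cntP_le (q := q) (by omega) m n
  have h2 := eC_le hq m n
  rw [← hx] at h1
  rw [if_neg hn.ne'] at h2
  have hqn : (0 : ℚ) ≤ (q : ℚ) ^ n := by positivity
  have hβ : 0 ≤ 2 * x - x ^ 2 := by nlinarith
  refine (cnt0_le (by omega) m n).trans ?_
  rw [← hx]
  refine (add_le_add (mul_le_mul_of_nonneg_left h1 (sq_nonneg _)) (mul_le_mul_of_nonneg_left h2 hβ)).trans ?_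
  have h3 : (1 - x) ^ 2 * cK x (m + 1) ≤ (1 - x) * (6 / 5) := by
    rw [pow_two, mul_assoc]
    exact mul_le_mul_of_nonneg_left (one_sub_mul_cK_le hx0 hx3 m) (by linarith)
  have h4 := mul_le_mul_of_nonneg_left (dB_le m).2 hβ
  have h5 : ((1 - x) ^ 2 * cK x (m + 1) + (2 * x - x ^ 2) * dB m) * (q : ℚ) ^ n ≤ 6 / 5 * (q : ℚ) ^ n :=
    mul_le_mul_of_nonneg_right (by nlinarith) hqn
  linarith

variable {F : Type*} [Field F]

/-- Neither one nor minus one is a root. -/
def NoSignRoot (P : F[X]) : Prop := P.eval 1 ≠ 0 ∧ P.eval (-1) ≠ 0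

theorem palPol_symm {d : ℕ} (P : PalPol F d) {j : ℕ} (hj : j ≤ 2 * d) :
    P.1.coeff j = P.1.coeff (2 * d - j) := by
  conv_lhs => rw [← P.2.1.2.2.2, star1, ClassNumberSU.coeff_star (by rw [P.2.2]; exact hj), P.2.1.2.1]
  rw [P.2.2]
  simp

theorem palPol_eq {d : ℕ} (P R : PalPol F d) (h : ∀ j, 0 < j → j ≤ d → P.1.coeff j = R.1.coeff j) : P = R := by
  refine Subtype.ext (Polynomial.ext fun j => ?_)
  rcases eq_or_ne j 0 with rfl | hj0
  · rw [P.2.1.2.1, R.2.1.2.1]
  rcases le_or_gt j d with hj | hj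
  · exact h j (by omega) hj
  rcases le_or_gt j (2 * d) with hj2 | hj2
  · rw [palPol_symm P hj2, palPol_symm R hj2]
    rcases eq_or_ne (2 * d - j) 0 with h0 | h0
    · rw [h0, P.2.1.2.1, R.2.1.2.1]
    · exact h _ (by omega) (by omega)
  · rw [coeff_eq_zero_of_natDegree_lt (by rw [P.2.2]; exact hj2),
      coeff_eq_zero_of_natDegree_lt (by rw [R.2.2]; exact hj2)]

theorem palPol_eq_of_eval (h2 : (2 : F) ≠ 0) {e : ℕ} (P R : PalPol F (e + 1)) (h1 : P.1.eval 1 = R.1.eval 1)
    (h1' : P.1.eval (-1) = R.1.eval (-1)) (h : ∀ j, 0 < j → j < e → P.1.coeff j = R.1.coeff j) : P = R := by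
  rcases Nat.eq_zero_or_pos e with rfl | he
  · refine palPol_eq P R fun j hj hj' => ?_
    obtain rfl : j = 1 := by omega
    have hd : ∀ Q : PalPol F (0 + 1), Q.1.natDegree = 2 := fun Q => by simpa using Q.2.2
    have ev : ∀ Q : PalPol F (0 + 1), Q.1.eval 1 = 1 + Q.1.coeff 1 + 1 := fun Q => by
      rw [eval_eq_sum_range, hd Q, Finset.sum_range_succ, Finset.sum_range_succ, Finset.sum_range_one, Q.2.1.2.1,
        palPol_symm Q (j := 2) (by omega), Q.2.1.2.1]
      ring
    rw [ev, ev] at h1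
    linear_combination h1
  set D := P.1 - R.1 with hD
  set α := D.coeff e
  set β := D.coeff (e + 1)
  have hsym : ∀ j, j ≤ 2 * (e + 1) → D.coeff j = D.coeff (2 * (e + 1) - j) := fun j hj => by
    rw [hD, coeff_sub, coeff_sub, palPol_symm P hj, palPol_symm R hj]
  have hlow : ∀ j, j < e → D.coeff j = 0 := fun j hj => by
    rw [hD, coeff_sub, sub_eq_zero]
    rcases Nat.eq_zero_or_pos j with rfl | hj0
    · rw [P.2.1.2.1, R.2.1.2.1]
    · exact h j hj0 hj
  have hform : D = C α * (X ^ e + X ^ (e + 2)) + C β * X ^ (e + 1) := by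
    ext j
    simp only [coeff_add, coeff_C_mul, coeff_X_pow]
    rcases lt_trichotomy j (e + 1) with hj | rfl | hj
    · rcases eq_or_ne j e with rfl | hne
      · rw [if_pos rfl, if_neg (by omega), if_neg (by omega)]; ring
      · rw [hlow j (by omega), if_neg hne, if_neg (by omega), if_neg (by omega)]; ring
    · rw [if_neg (by omega), if_neg (by omega), if_pos rfl]; ring
    · rcases eq_or_ne j (e + 2) with rfl | hne
      · rw [hsym _ (by omega), show 2 * (e + 1) - (e + 2) = e by omega, if_neg (by omega), if_pos rfl,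
          if_neg (by omega)]
        ring
      · rw [if_neg (by omega), if_neg hne, if_neg (by omega), mul_zero, zero_add, mul_zero, zero_add]
        rcases le_or_gt j (2 * (e + 1)) with hj2 | hj2
        · rw [hsym _ hj2]
          exact hlow _ (by omega)
        · rw [hD, coeff_sub, coeff_eq_zero_of_natDegree_lt (by rw [P.2.2]; exact hj2),
            coeff_eq_zero_of_natDegree_lt (by rw [R.2.2]; exact hj2), sub_zero]
  have e1 : 2 * α + β = 0 := by
    have := congrArg (Polynomial.eval 1) hform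
    rw [hD, eval_sub, h1, sub_self] at this
    simp only [eval_add, eval_mul, eval_C, eval_pow, eval_X, one_pow] at this
    linear_combination -this
  have e2 : 2 * α - β = 0 := by
    have := congrArg (Polynomial.eval (-1)) hform
    rw [hD, eval_sub, h1', sub_self] at this
    simp only [eval_add, eval_mul, eval_C, eval_pow, eval_X] at this
    have hp : (-1 : F) ^ e * (2 * α - β) = 0 := by rw [this]; ring
    exact (mul_eq_zero.1 hp).resolve_left (pow_ne_zero _ (neg_ne_zero.2 one_ne_zero))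
  have hα : α = 0 :=
    (mul_eq_zero.1 (show (2 * 2 : F) * α = 0 by linear_combination e1 + e2)).resolve_left (mul_ne_zero h2 h2)
  have hβ : β = 0 := by rw [hα, mul_zero, zero_add] at e1; exact e1
  rw [hα, hβ, map_zero, zero_mul, zero_mul, add_zero, hD, sub_eq_zero] at hform
  exact Subtype.ext hform

variable [Fintype F]

theorem card_palPol0 (h2 : (2 : F) ≠ 0) (d : ℕ) :
    Nat.card {P : PalPol F d // NoSignRoot P.1} ≤ c0 (Fintype.card F) d := by
  classical
  haveI := (card_palPol (F := F) d).1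
  rcases d with _ | _ | d
  · refine (Nat.card_le_card_of_injective (fun P => P.1) Subtype.val_injective).trans ?_
    simpa [c0] using (card_palPol (F := F) 0).2
  · have h4 : (0 : F) ≠ 4 := fun h => h2 (mul_self_eq_zero.1 (show (2 : F) * 2 = 0 by linear_combination -h))
    have hev : ∀ P : PalPol F (0 + 1), P.1.eval 1 - P.1.eval (-1) = 2 * P.1.coeff 1 ∧
        P.1.eval 1 + P.1.eval (-1) = 4 := fun P => by
      have hd : P.1.natDegree = 2 := by simpa using P.2.2
      simp only [eval_eq_sum_range, hd, Finset.sum_range_succ, Finset.sum_range_one, P.2.1.2.1,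
        palPol_symm P (j := 2) (by omega), show 2 * (0 + 1) - 2 = 0 from rfl]
      constructor <;> ring
    refine le_of_le_of_eq (Nat.card_le_card_of_injective
      (β := {a : F // a ∈ ({0, 4} : Finset F)ᶜ}) (fun P => ⟨P.1.1.eval 1, ?_⟩) fun P R h => ?_) ?_
    · simp only [Finset.mem_compl, Finset.mem_insert, Finset.mem_singleton, not_or]
      exact ⟨P.2.1, fun h => P.2.2 (by linear_combination (hev P.1).2 - h)⟩
    · have h' : P.1.1.eval 1 = R.1.1.eval 1 := congrArg Subtype.val h
      exact Subtype.ext (palPol_eq_of_eval h2 P.1 R.1 h' (by linear_combination (hev P.1).2 - (hev R.1).2 - h')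
        fun j h1 h2 => by omega)
    · rw [Nat.card_eq_fintype_card, Fintype.card_coe, Finset.card_compl, Finset.card_pair h4]
      simp [c0]
  · refine le_of_le_of_eq (Nat.card_le_card_of_injective
      (β := {a : F // a ≠ 0} × {a : F // a ≠ 0} × (Fin d → F))
      (fun P => (⟨_, P.2.1⟩, ⟨_, P.2.2⟩, fun i => P.1.1.coeff ((i : ℕ) + 1))) fun P R h => ?_) ?_
    · simp only [Prod.mk.injEq, Subtype.mk.injEq] at h
      refine Subtype.ext (palPol_eq_of_eval h2 P.1 R.1 h.1 h.2.1 fun j hj hj' => ?_)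
      have := congrFun h.2.2 ⟨j - 1, by omega⟩
      simpa only [Nat.sub_add_cancel hj] using this
    · simp only [Nat.card_prod, Nat.card_eq_fintype_card, Fintype.card_prod, Fintype.card_subtype_compl, Fintype.card_subtype_eq,
        Fintype.card_fun, Fintype.card_fin, c0, if_neg (show ¬(d + 1 + 1 = 0) by omega),
        if_neg (show ¬(d + 1 + 1 = 1) by omega), Nat.add_sub_cancel]
      rw [show d + 1 + 1 - 2 = d by omega]
      ring

/-- Palindromic tuples whose first entry has no root one or minus one. -/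
abbrev PTup0 (F : Type*) [Field F] (m M : ℕ) := {h : PTup F (m + 1) M // NoSignRoot (h.1 0)}

theorem card_ptup0 (h2 : (2 : F) ≠ 0) (m : ℕ) :
    ∀ n, Nat.card (PTup0 F m n) ≤ cnt0 (Fintype.card F) m n := by
  induction m with
  | zero =>
    intro n
    haveI := (card_palPol (F := F) n).1
    refine (Nat.card_le_card_of_injective (β := {P : PalPol F n // NoSignRoot P.1})
      (fun h => ⟨⟨h.1.1 0, h.1.2.1 0, by simpa using h.1.2.2⟩, h.2⟩) fun a b h => ?_).trans (card_palPol0 h2 n)
    refine Subtype.ext (Subtype.ext (_root_.funext fun i => ?_))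
    rw [Fin.eq_zero i]
    exact congrArg (fun x : {P : PalPol F n // NoSignRoot P.1} => x.1.1) h
  | succ m ih =>
    intro n
    have hhalf : ∀ b : PTup0 F (m + 1) n, ∃ d, (b.1.1 (Fin.last (m + 1))).natDegree = 2 * d := fun b => by
      obtain ⟨d, hd⟩ := (b.1.2.1 (Fin.last (m + 1))).2.2.1
      exact ⟨d, by omega⟩
    choose hd hhd using hhalf
    have hsum : ∀ b : PTup0 F (m + 1) n, (∑ i : Fin (m + 1), ((i : ℕ) + 1) * (b.1.1 i.castSucc).natDegree) +
        2 * ((m + 2) * hd b) = 2 * n := fun b => by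
      have h := b.1.2.2
      rw [Fin.sum_univ_castSucc, hhd, Fin.val_last] at h
      simp only [Fin.val_castSucc] at h
      rw [mul_left_comm 2]
      exact h
    let S := Σ d : Fin (n / (m + 2) + 1), PalPol F d × PTup0 F m (n - (m + 2) * d)
    let g : PTup0 F (m + 1) n → S := fun b =>
      ⟨⟨hd b, by
          rw [Nat.lt_succ_iff, Nat.le_div_iff_mul_le (show 0 < m + 2 by omega)]
          have := hsum b
          rw [mul_comm]
          omega⟩,
        ⟨b.1.1 (Fin.last (m + 1)), b.1.2.1 _, hhd b⟩,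
        ⟨⟨fun i => b.1.1 i.castSucc, fun i => b.1.2.1 _, by have := hsum b; simp only []; omega⟩, b.2⟩⟩
    have hg : Function.Injective g := by
      intro a b h
      have h1 : a.1.1 (Fin.last (m + 1)) = b.1.1 (Fin.last (m + 1)) := congrArg (fun x : S => x.2.1.1) h
      have h2 : (fun i : Fin (m + 1) => a.1.1 i.castSucc) = fun i => b.1.1 i.castSucc :=
        congrArg (fun x : S => x.2.2.1.1) h
      exact Subtype.ext (Subtype.ext (_root_.funext fun i => Fin.lastCases h1 (fun j => congrFun h2 j) i))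
    have : ∀ d : Fin (n / (m + 2) + 1), Finite (PalPol F d) := fun d => (card_palPol _).1
    have : ∀ d : Fin (n / (m + 2) + 1), Finite (PTup0 F m (n - (m + 2) * d)) := fun d => by
      haveI := (card_ptup (F := F) (m + 1) (n - (m + 2) * d)).1
      infer_instance
    refine (Nat.card_le_card_of_injective g hg).trans ?_
    rw [Nat.card_sigma]
    show _ ≤ ∑ d ∈ range (n / (m + 2) + 1), Fintype.card F ^ d * cnt0 (Fintype.card F) m (n - (m + 2) * d)
    rw [← Fin.sum_univ_eq_sum_range]
    refine Finset.sum_le_sum fun d _ => ?_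
    rw [Nat.card_prod]
    exact Nat.mul_le_mul (card_palPol _).2 (ih _)

theorem sum_config_pow {N k : ℕ} (w : Fin N → ℚ) :
    ∑ S : Fin N → Fin k → Bool, ∏ i, w i ^ (univ.filter fun l => S i l = true).card = ∏ i, (1 + w i) ^ k := by
  calc ∑ S : Fin N → Fin k → Bool, ∏ i, w i ^ (univ.filter fun l => S i l = true).card
      = ∑ S : Fin N → Fin k → Bool, ∏ i, ∏ l, (if S i l then w i else 1) :=
        Finset.sum_congr rfl fun S _ => Finset.prod_congr rfl fun i _ => by
          rw [← Finset.prod_filter, Finset.prod_const]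
    _ = ∏ i, (1 + w i) ^ k := by
        rw [← Fintype.prod_sum (fun i (s : Fin k → Bool) => ∏ l, if s l then w i else 1)]
        refine Finset.prod_congr rfl fun i _ => ?_
        rw [← Fintype.prod_sum (fun _ (b : Bool) => if b then w i else 1)]
        simp [Fintype.sum_bool, add_comm]

theorem prod_range_even_pow (k : ℕ) (y : ℕ → ℚ) : ∀ n : ℕ,
    ∏ i ∈ range (n + n + 1), (1 + if i % 2 = 0 then y (i + 1) else 0) ^ k =
      ∏ j ∈ range (n + 1), (1 + y (2 * j + 1)) ^ k
  | 0 => by simp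
  | n + 1 => by
    rw [show n + 1 + (n + 1) + 1 = n + n + 1 + 1 + 1 by omega, Finset.prod_range_succ, Finset.prod_range_succ,
      prod_range_even_pow k y n, Finset.prod_range_succ _ (n + 1), if_neg (by omega), if_pos (by omega),
      show n + n + 1 + 1 + 1 = 2 * (n + 1) + 1 by omega]
    ring

/-- Configurations of odd weight, valid for odd sizes. -/
def ValidO {N k : ℕ} (S : Fin N → Fin k → Bool) : Prop :=
  (∑ i : Fin N, ((i : ℕ) + 1) * (univ.filter fun l => S i l = true).card) ≤ N ∧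
    Odd (∑ i : Fin N, ((i : ℕ) + 1) * (univ.filter fun l => S i l = true).card) ∧
      ∀ i l, S i l = true → (i : ℕ) % 2 = 0

/-- The sum over configurations of odd weight. -/
theorem sum_odd_weight_le {q : ℕ} (hq : 3 ≤ q) (n k : ℕ) (hk : Even k) {C : ℚ} (hC : 0 ≤ C) (f : ℕ → ℕ)
    (hf : ∀ M, (f M : ℚ) ≤ C * (q : ℚ) ^ M) (s : Finset (Fin (n + n + 1) → Fin k → Bool))
    (hs : ∀ S ∈ s, ValidO S) :
    ((∑ S ∈ s, f ((n + n + 1 - ∑ i : Fin (n + n + 1), ((i : ℕ) + 1) * (univ.filter fun l => S i l = true).card) / 2)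
      : ℕ) : ℚ) ≤
      C * (q : ℚ) ^ n * (25 / 29) * ∏ j ∈ range (n + 1), (1 + (29 / 50 : ℚ) ^ (2 * j + 1)) ^ k := by
  classical
  let y : ℚ := 29 / 50
  let w : ℚ → Fin (n + n + 1) → ℚ := fun s i => if (i : ℕ) % 2 = 0 then s * y ^ ((i : ℕ) + 1) else 0
  let term : ℚ → (Fin (n + n + 1) → Fin k → Bool) → ℚ := fun s S =>
    ∏ i, w s i ^ (univ.filter fun l => S i l = true).card
  let cnt : (Fin (n + n + 1) → Fin k → Bool) → ℕ := fun S =>
    ∑ i : Fin (n + n + 1), (univ.filter fun l => S i l = true).card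
  let wt : (Fin (n + n + 1) → Fin k → Bool) → ℕ := fun S =>
    ∑ i : Fin (n + n + 1), ((i : ℕ) + 1) * (univ.filter fun l => S i l = true).card
  have hneg : ∀ S, term (-1) S = (-1) ^ cnt S * term 1 S := fun S => by
    simp only [term, cnt]
    rw [← Finset.prod_pow_eq_pow_sum, ← Finset.prod_mul_distrib]
    refine Finset.prod_congr rfl fun i _ => ?_
    rw [← mul_pow]
    congr 1
    simp only [w]
    split_ifs <;> ring
  have hpos : ∀ S, 0 ≤ term 1 S := fun S => Finset.prod_nonneg fun i _ => pow_nonneg (by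
    simp only [w]; split_ifs <;> [exact mul_nonneg zero_le_one (by positivity); exact le_rfl]) _
  have hd : ∀ S, 0 ≤ term 1 S - term (-1) S := fun S => by
    rw [hneg]
    rcases neg_one_pow_eq_or ℚ (cnt S) with h | h <;> rw [h] <;> linarith [hpos S]
  have hterm : ∀ S ∈ s, (f ((n + n + 1 - wt S) / 2) : ℚ) ≤
      C * (q : ℚ) ^ n * (25 / 29) * (term 1 S - term (-1) S) := by
    intro S hS
    obtain ⟨hle, hodd, hev⟩ := hs S hS
    have hev' : ∀ i, (univ.filter fun l => S i l = true).card ≠ 0 → (i : ℕ) % 2 = 0 := fun i hi => by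
      obtain ⟨l, hl⟩ := Finset.card_pos.1 (Nat.pos_of_ne_zero hi)
      exact hev i l (Finset.mem_filter.1 hl).2
    have hcnt : Odd (cnt S) := by
      have e : wt S = 2 * (∑ i : Fin (n + n + 1), (i : ℕ) / 2 * (univ.filter fun l => S i l = true).card) + cnt S := by
        simp only [wt, cnt]
        rw [Finset.mul_sum, ← Finset.sum_add_distrib]
        refine Finset.sum_congr rfl fun i _ => ?_
        rcases Nat.eq_zero_or_pos (univ.filter fun l => S i l = true).card with h0 | h0
        · rw [h0, mul_zero, mul_zero, mul_zero, add_zero]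
        · obtain ⟨r, hr⟩ : ∃ r, (i : ℕ) = 2 * r := ⟨(i : ℕ) / 2, by have := hev' i h0.ne'; omega⟩
          rw [hr, Nat.mul_div_cancel_left r two_pos]
          ring
      have hodd' : Odd (wt S) := hodd
      rw [Nat.odd_iff] at hodd' ⊢
      omega
    have hval : term 1 S = y ^ wt S := by
      simp only [term, wt]
      rw [← Finset.prod_pow_eq_pow_sum]
      refine Finset.prod_congr rfl fun i _ => ?_
      rcases Nat.eq_zero_or_pos (univ.filter fun l => S i l = true).card with h0 | h0
      · rw [h0, pow_zero, mul_zero, pow_zero]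
      · simp only [w, if_pos (hev' i h0.ne'), one_mul, ← pow_mul]
    obtain ⟨h, hh⟩ : ∃ h, wt S = 2 * h + 1 := hodd
    have hle' : wt S ≤ n + n + 1 := hle
    rw [hneg, hcnt.neg_one_pow, neg_one_mul, sub_neg_eq_add, hval, hh, show (n + n + 1 - (2 * h + 1)) / 2 = n - h by omega]
    refine (hf (n - h)).trans ?_
    obtain ⟨r, hr⟩ : ∃ r, n = r + h := ⟨n - h, by omega⟩
    rw [show n - h = r by omega, hr, pow_add, pow_succ, pow_mul]
    have hy2 : (1 : ℚ) ≤ (q : ℚ) * y ^ 2 := by
      have : (3 : ℚ) ≤ q := by exact_mod_cast hq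
      simp only [y]
      nlinarith
    have h1 : (1 : ℚ) ≤ (q : ℚ) ^ h * (y ^ 2) ^ h := by rw [← mul_pow]; exact one_le_pow₀ hy2
    have h3 : C * (q : ℚ) ^ r ≤ C * (q : ℚ) ^ r * ((q : ℚ) ^ h * (y ^ 2) ^ h) :=
      le_mul_of_one_le_right (by positivity) h1
    refine h3.trans (le_of_eq ?_)
    simp only [y]
    ring
  push_cast
  refine (Finset.sum_le_sum hterm).trans ?_
  refine (Finset.sum_le_sum_of_subset_of_nonneg (Finset.subset_univ _) fun S _ _ =>
    mul_nonneg (by positivity) (hd S)).trans ?_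
  rw [← Finset.mul_sum, Finset.sum_sub_distrib]
  refine mul_le_mul_of_nonneg_left ?_ (by positivity)
  have e : ∀ t : ℚ, ∑ S : Fin (n + n + 1) → Fin k → Bool, term t S =
      ∏ j ∈ range (n + 1), (1 + t * y ^ (2 * j + 1)) ^ k := fun t => by
    simp only [term]
    rw [sum_config_pow, Fin.prod_univ_eq_prod_range
      (fun i => (1 + if i % 2 = 0 then t * y ^ (i + 1) else 0) ^ k) (n + n + 1),
      prod_range_even_pow k (fun j => t * y ^ j) n]
  rw [e, e]
  simp only [one_mul, y]
  exact sub_le_self _ (Finset.prod_nonneg fun j _ => hk.pow_nonneg _)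

theorem prod_odd_sq_le (n : ℕ) : ∏ j ∈ range n, (1 + (29 / 50 : ℚ) ^ (2 * j + 1)) ^ 2 ≤ 109 / 25 := by
  have h := prod_odd_le n
  rw [show ∏ j ∈ range n, (1 + (29 / 50 : ℚ) ^ (2 * j + 1)) ^ 4 =
    (∏ j ∈ range n, (1 + (29 / 50 : ℚ) ^ (2 * j + 1)) ^ 2) ^ 2 by
      rw [← Finset.prod_pow]; exact Finset.prod_congr rfl fun j _ => by ring] at h
  nlinarith [Finset.prod_nonneg (s := range n) (f := fun j => (1 + (29 / 50 : ℚ) ^ (2 * j + 1)) ^ 2)
    fun j _ => by positivity]

open _root_.Classical in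
/-- The number of tuples of split classes. -/
theorem card_uTuple_le (h2 : (2 : F) ≠ 0) (n : ℕ) :
    Finite {b : Fin (n + n + 1) → F[X] // IsUTuple b} ∧
      Nat.card {b : Fin (n + n + 1) → F[X] // IsUTuple b} ≤
        ∑ S ∈ univ.filter (fun S : Fin (n + n + 1) → Fin 2 → Bool => ValidO S), cnt0 (Fintype.card F) (n + n)
          ((n + n + 1 - ∑ i : Fin (n + n + 1), ((i : ℕ) + 1) * (univ.filter fun l => S i l = true).card) / 2) := by
  classical
  set N := n + n + 1 with hNdef
  let U := {b : Fin N → F[X] // IsUTuple b}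
  let Sof : U → Fin N → Fin 2 → Bool := fun b i =>
    ![decide (Single (1 : F) ((i : ℕ) + 1) ∧ 0 < (b.1 i).rootMultiplicity (sgn F true)),
      decide (Single (1 : F) ((i : ℕ) + 1) ∧ 0 < (b.1 i).rootMultiplicity (sgn F false))]
  let r : U → Bool → Fin N → ℕ := fun b s i =>
    if Single (1 : F) ((i : ℕ) + 1) ∧ 0 < (b.1 i).rootMultiplicity (sgn F s) then 1 else 0
  have hr : ∀ b s i, r b s i ≤ (b.1 i).rootMultiplicity (sgn F s) ∧
      Even ((b.1 i).rootMultiplicity (sgn F s) - r b s i) ∧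
      (Single (1 : F) ((i : ℕ) + 1) → r b s i = (b.1 i).rootMultiplicity (sgn F s)) := fun b s i => by
    simp only [r]
    split_ifs with h
    · have := (b.2.2.2 s i).2 h.1
      exact ⟨h.2, by rw [show (b.1 i).rootMultiplicity (sgn F s) - 1 = 0 by omega]; exact Even.zero,
        fun _ => by omega⟩
    · refine ⟨Nat.zero_le _, ?_, fun hs => (Nat.eq_zero_of_not_pos fun h0 => h ⟨hs, h0⟩).symm⟩
      by_cases hs : Single (1 : F) ((i : ℕ) + 1)
      · rw [show (b.1 i).rootMultiplicity (sgn F s) = 0 from Nat.eq_zero_of_not_pos fun h0 => h ⟨hs, h0⟩]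
        exact Even.zero
      · rw [Nat.sub_zero]; exact (b.2.2.2 s i).1 hs
  have hR : ∀ (b : U) i, ∃ R, IsPal R ∧ b.1 i =
      (X - C (1 : F)) ^ r b true i * (X - C (-1)) ^ r b false i * R := fun b i =>
    exists_pal (b.2.1 i) h2 (hr b true i).1 (hr b true i).2.1 (hr b false i).1 (hr b false i).2.1
  choose R hRp hRe using hR
  have hcard : ∀ a c : Bool, (univ.filter fun k => (![a, c] : Fin 2 → Bool) k = true).card =
      cond a 1 0 + cond c 1 0 := by decide
  have hw : ∀ b : U, (∑ i : Fin N, ((i : ℕ) + 1) * (univ.filter fun l => Sof b i l = true).card) +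
      ∑ i : Fin N, ((i : ℕ) + 1) * (R b i).natDegree = N := by
    intro b
    conv_rhs => rw [← b.2.2.1]
    rw [← Finset.sum_add_distrib]
    refine Finset.sum_congr rfl fun i _ => ?_
    conv_rhs => rw [hRe b i]
    rw [Monic.natDegree_mul (((monic_X_sub_C _).pow _).mul ((monic_X_sub_C _).pow _)) (hRp b i).1,
      Monic.natDegree_mul ((monic_X_sub_C _).pow _) ((monic_X_sub_C _).pow _), natDegree_pow, natDegree_pow,
      natDegree_X_sub_C, natDegree_X_sub_C, mul_one, mul_one, hcard]
    simp only [r, Bool.cond_decide]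
    ring
  have heven : ∀ b, Even (∑ i : Fin N, ((i : ℕ) + 1) * (R b i).natDegree) := fun b =>
    Finset.even_sum _ fun i _ => ((hRp b i).2.2.1).mul_left _
  have hval : ∀ b, ValidO (Sof b) := by
    intro b
    have h := hw b
    refine ⟨by omega, ?_, fun i l hl => ?_⟩
    · obtain ⟨t, ht⟩ := heven b
      rw [Nat.odd_iff]
      omega
    · fin_cases l <;> simp only [Sof] at hl <;> simp at hl <;>
        exact Nat.even_iff.1 ((single_one_iff h2 _).1 hl.1)
  have h0 : ∀ b : U, NoSignRoot (R b 0) := by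
    intro b
    have hs : Single (1 : F) (((0 : Fin N) : ℕ) + 1) := (single_one_iff h2 _).2 (by simp)
    have hne : (-1 : F) ≠ 1 := fun h => h2 (by linear_combination -h)
    have key : ∀ s, (R b 0).eval (sgn F s) ≠ 0 := by
      intro s h0
      have hb := hRe b 0
      have hne0 : b.1 0 ≠ 0 := (b.2.1 0).1.ne_zero
      have hm := congrArg (rootMultiplicity (sgn F s)) hb
      have hRne : R b 0 ≠ 0 := (hRp b 0).1.ne_zero
      have hp : 0 < (R b 0).rootMultiplicity (sgn F s) := (rootMultiplicity_pos hRne).2 h0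
      rw [rootMultiplicity_mul (hb ▸ hne0), rootMultiplicity_mul (mul_ne_zero (pow_ne_zero _ (X_sub_C_ne_zero _))
        (pow_ne_zero _ (X_sub_C_ne_zero _)))] at hm
      have := (hr b s 0).2.2 hs
      cases s
      · simp only [sgn, cond_false, rootMultiplicity_X_sub_C_pow] at hm hp this
        omega
      · simp only [sgn, cond_true, rootMultiplicity_X_sub_C_pow] at hm hp this
        omega
    exact ⟨key true, key false⟩
  let T := Σ S : {S : Fin N → Fin 2 → Bool // ValidO S},
    PTup0 F (n + n) ((N - ∑ i : Fin N, ((i : ℕ) + 1) * (univ.filter fun l => S.1 i l = true).card) / 2)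
  let f : U → T := fun b => ⟨⟨Sof b, hval b⟩, ⟨R b, hRp b, by
    have h := hw b
    obtain ⟨t, ht⟩ := heven b
    show ∑ i : Fin N, ((i : ℕ) + 1) * (R b i).natDegree =
      2 * ((N - ∑ i : Fin N, ((i : ℕ) + 1) * (univ.filter fun l => Sof b i l = true).card) / 2)
    omega⟩, h0 b⟩
  have hf : Function.Injective f := by
    intro b b' h
    have hS : Sof b = Sof b' := congrArg (fun t : T => t.1.1) h
    have hRR : R b = R b' := congrArg (fun t : T => t.2.1.1) h
    refine Subtype.ext (funext fun i => ?_)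
    have e : ∀ s, r b s i = r b' s i := by
      intro s
      have h1 : decide _ = decide _ := congrFun (congrFun hS i) 0
      have h2 : decide _ = decide _ := congrFun (congrFun hS i) 1
      simp only [r]
      cases s
      · exact if_congr (decide_eq_decide.1 h2) rfl rfl
      · exact if_congr (decide_eq_decide.1 h1) rfl rfl
    rw [hRe b i, hRe b' i, hRR, e, e]
  haveI : ∀ S : {S : Fin N → Fin 2 → Bool // ValidO S}, Finite (PTup0 F (n + n)
      ((N - ∑ i : Fin N, ((i : ℕ) + 1) * (univ.filter fun l => S.1 i l = true).card) / 2)) := fun S => by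
    haveI := fun M => (card_ptup (F := F) (n + n + 1) M).1
    infer_instance
  refine ⟨Finite.of_injective f hf, (Nat.card_le_card_of_injective f hf).trans ?_⟩
  rw [Nat.card_sigma]
  refine (Finset.sum_le_sum fun S _ => card_ptup0 h2 (n + n) _).trans (le_of_eq ?_)
  exact (Finset.sum_subtype (univ.filter fun S : Fin N → Fin 2 → Bool => ValidO S) (fun S => by simp)
    fun S => cnt0 (Fintype.card F) (n + n)
      ((N - ∑ i : Fin N, ((i : ℕ) + 1) * (univ.filter fun l => S i l = true).card) / 2)).symm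

end CfsgLib.ClassNumberForm
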