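import Cfsg.Agent.Lib.KnownA.ClassNumberForm.Disc
import Cfsg.Agent.Lib.KnownA.ClassNumberForm.Count
import Cfsg.Agent.Lib.Classical.SympMatrix
import Cfsg.Agent.Lib.Involution.SpSemisimpleCount

/-!
# A lower bound for the class number of an even dimensional orthogonal group

Self-reciprocal polynomials are characteristic polynomials of isometries of at least one form; at least half of them
occur for each form.
-/

set_option autoImplicit false
set_option linter.unusedSectionVars false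

namespace CfsgLib.ClassNumberForm

open Polynomial Finset Matrix CfsgLib.Classical CfsgLib.Involution.SpSemisimple

variable {F : Type*} [Field F] [Fintype F]

theorem good1_of_selfRec {n : ℕ} {P : F[X]} (h : SelfRec n P) : Good1 P := by
  refine ⟨h.1, by rw [h.2.2.1]; exact one_ne_zero, ?_⟩
  rw [star1, ClassNumberSU.star, Polynomial.map_id, h.2.2.2, h.2.2.1, RingHom.id_apply, inv_one, C_1, one_mul]

theorem selfRec_of_pal {m : ℕ} {P : F[X]} (h : IsPal P) (hd : P.natDegree = m + m) : SelfRec m P := by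
  refine ⟨h.1, hd, h.2.1, ?_⟩
  have := reverse_eq_of_good (P := P) ⟨h.1, by rw [h.2.1]; exact one_ne_zero, h.2.2.2⟩
  rwa [h.2.1, C_1, one_mul] at this

theorem even_sub_ite_mod (a : ℕ) : Even (a - a % 2) := ⟨a / 2, by omega⟩

theorem exists_core {n : ℕ} {P : F[X]} (h : SelfRec n P) (h2 : (2 : F) ≠ 0) :
    ∃ (a b m : ℕ) (R : F[X]), SelfRec m R ∧ R.eval 1 ≠ 0 ∧ R.eval (-1) ≠ 0 ∧ a + b + (m + m) = n + n ∧
      P = (X - C 1) ^ a * (X - C (-1)) ^ b * R := by
  obtain ⟨R, hR, hP⟩ := exists_pal (r₁ := P.rootMultiplicity 1) (r₂ := P.rootMultiplicity (-1))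
    (good1_of_selfRec h) h2 le_rfl (by simp) le_rfl (by simp)
  obtain ⟨m, hm⟩ := hR.2.2.1
  have hd := congrArg natDegree hP
  rw [h.2.1, Monic.natDegree_mul (((monic_X_sub_C _).pow _).mul ((monic_X_sub_C _).pow _)) hR.1,
    Monic.natDegree_mul ((monic_X_sub_C _).pow _) ((monic_X_sub_C _).pow _), natDegree_pow, natDegree_pow,
    natDegree_X_sub_C, natDegree_X_sub_C, mul_one, mul_one, hm] at hd
  have hne : (-1 : F) ≠ 1 := fun h => h2 (by linear_combination -h)
  refine ⟨_, _, m, R, selfRec_of_pal hR hm, fun h0 => ?_, fun h0 => ?_, hd.symm, hP⟩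
  · obtain ⟨r, hr⟩ := dvd_iff_isRoot.2 h0
    obtain ⟨G, hG, hG1⟩ := exists_eq_pow_rootMultiplicity_mul_and_not_dvd P h.1.ne_zero 1
    refine hG1 ⟨(X - C (-1)) ^ P.rootMultiplicity (-1) * r, ?_⟩
    refine mul_left_cancel₀ (pow_ne_zero (P.rootMultiplicity 1) (X_sub_C_ne_zero (1 : F))) ?_
    rw [← hG]
    conv_lhs => rw [hP, hr]
    ring
  · obtain ⟨r, hr⟩ := dvd_iff_isRoot.2 h0
    obtain ⟨G, hG, hG1⟩ := exists_eq_pow_rootMultiplicity_mul_and_not_dvd P h.1.ne_zero (-1)
    refine hG1 ⟨(X - C 1) ^ P.rootMultiplicity 1 * r, ?_⟩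
    refine mul_left_cancel₀ (pow_ne_zero (P.rootMultiplicity (-1)) (X_sub_C_ne_zero (-1 : F))) ?_
    rw [← hG]
    conv_lhs => rw [hP, hr]
    ring

theorem det_J_sq (m : ℕ) : (Matrix.J (Fin m) F).det * (Matrix.J (Fin m) F).det = 1 := by
  rw [← det_mul, Matrix.J_squared, det_neg, det_one, mul_one, Fintype.card_sum, Fintype.card_fin,
    Even.neg_one_pow ⟨m, rfl⟩]

theorem det_sub_scalar {ι : Type*} [Fintype ι] [DecidableEq ι] (A : Matrix ι ι F) (c : F) :
    (A - Matrix.scalar ι c).det = (-1) ^ Fintype.card ι * A.charpoly.eval c := by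
  rw [Matrix.eval_charpoly, ← neg_sub, det_neg]

/-- The symmetric form attached to a symplectic matrix. -/
theorem exists_sym {m : ℕ} {R : F[X]} (hR : SelfRec m R) :
    ∃ A G : Matrix (Fin m ⊕ Fin m) (Fin m ⊕ Fin m) F, A.charpoly = R ∧ Gᵀ = G ∧ Aᵀ * G * A = G ∧
      G.det = (Matrix.J (Fin m) F).det * (R.eval 1 * R.eval (-1)) := by
  obtain ⟨p, hpc⟩ := CharP.exists F
  haveI := Fact.mk (CharP.char_is_prime F p)
  obtain ⟨g, -, hg⟩ := exists_of_selfRec p hR
  set A := (g : Matrix (Fin m ⊕ Fin m) (Fin m ⊕ Fin m) F)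
  set Ai := ((g⁻¹ : ↥(Matrix.symplecticGroup (Fin m) F)) : Matrix (Fin m ⊕ Fin m) (Fin m ⊕ Fin m) F)
  set J := Matrix.J (Fin m) F
  have h1 : A * Ai = 1 := sp_mul_inv m g
  have h2 : Ai * A = 1 := sp_inv_mul m g
  have hJ : Aᵀ * J * A = J := SymplecticGroup.mem_iff'.1 g.2
  have hJ' : Aiᵀ * J * Ai = J := SymplecticGroup.mem_iff'.1 (g⁻¹).2
  have hAJ : Aᵀ * J = J * Ai := by
    calc Aᵀ * J = Aᵀ * J * (A * Ai) := by rw [h1, mul_one]
      _ = J * Ai := by rw [← Matrix.mul_assoc, hJ]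
  have hAiJ : Aiᵀ * J = J * A := by
    calc Aiᵀ * J = Aiᵀ * J * (Ai * A) := by rw [h2, mul_one]
      _ = J * A := by rw [← Matrix.mul_assoc, hJ']
  refine ⟨A, J * (A - Ai), hg, ?_, ?_, ?_⟩
  · rw [transpose_mul, transpose_sub, Matrix.J_transpose, Matrix.sub_mul, mul_neg, mul_neg, hAJ, hAiJ,
      Matrix.mul_sub]
    abel
  · rw [← Matrix.mul_assoc Aᵀ, hAJ, Matrix.mul_assoc, Matrix.mul_assoc]
    congr 1
    rw [Matrix.sub_mul, Matrix.mul_sub, h2, ← Matrix.mul_assoc, h2, Matrix.one_mul, mul_one]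
  · have hd : A.det = 1 := SymplecticGroup.det_eq_one g.2
    have he : (A - Ai) * A = (A - Matrix.scalar _ (1 : F)) * (A - Matrix.scalar _ (-1 : F)) := by
      rw [Matrix.sub_mul, h2, map_one, map_neg, map_one]
      noncomm_ring
    have hd' : (A - Ai).det = ((A - Ai) * A).det := by rw [det_mul, hd, mul_one]
    rw [det_mul, hd', he, det_mul, det_sub_scalar, det_sub_scalar, hg, Fintype.card_sum, Fintype.card_fin,
      Even.neg_one_pow ⟨m, rfl⟩, one_mul, one_mul]

/-- The class of a polynomial: it can occur for the form with Gram determinant `δ`. -/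
def Fits (n : ℕ) (δ : F) (P : F[X]) : Prop :=
  P.eval 1 * P.eval (-1) = 0 ∨ IsSquare ((Matrix.J (Fin n) F).det * (P.eval 1 * P.eval (-1)) * δ)

theorem exists_isometry_of_parts {N : ℕ} {B : (Fin N → F) →ₗ[F] (Fin N → F) →ₗ[F] F} (h2 : (2 : F) ≠ 0)
    (hB : IsEta B 1) (hN : ∀ v, (∀ u, B u v = 0) → v = 0) {m a b : ℕ} {R : F[X]} (hR : SelfRec m R)
    (hR1 : R.eval 1 ≠ 0) (hR2 : R.eval (-1) ≠ 0) (hd : a + b + (m + m) = N)
    (hfit : 0 < a + b ∨ IsSquare ((Matrix.J (Fin m) F).det * (R.eval 1 * R.eval (-1)) * gramDet B)) :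
    ∃ g : isomGroup B, (matOf g).charpoly = (X - C 1) ^ a * (X - C (-1)) ^ b * R := by
  classical
  obtain ⟨A, G, hA, hG, hGA, hGdet⟩ := exists_sym hR
  have hG0 : G.det ≠ 0 := by
    rw [hGdet]
    exact mul_ne_zero (fun h => by simpa [h] using det_J_sq (F := F) m) (mul_ne_zero hR1 hR2)
  have hδ := gramDet_ne_zero hB hN
  let σ : ((Fin m ⊕ Fin m) ⊕ (Fin a ⊕ Fin b)) ≃ Fin N := Fintype.equivFinOfCardEq (by simp; omega)
  let E : Fin a ⊕ Fin b → F := Sum.elim (fun _ => 1) fun _ => -1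
  obtain ⟨d, hd0, hdsq⟩ : ∃ d : Fin a ⊕ Fin b → F, (∀ i, d i ≠ 0) ∧
      IsSquare (G.det * (∏ i, d i) * gramDet B) := by
    rcases isEmpty_or_nonempty (Fin a ⊕ Fin b) with he | ⟨⟨i₀⟩⟩
    · refine ⟨fun _ => 1, fun _ => one_ne_zero, ?_⟩
      rw [Finset.prod_const_one, mul_one, hGdet]
      have ha : a = 0 := by
        rcases Nat.eq_zero_or_pos a with h | h
        · exact h
        · exact he.elim (Sum.inl ⟨0, h⟩)
      have hb : b = 0 := by
        rcases Nat.eq_zero_or_pos b with h | h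
        · exact h
        · exact he.elim (Sum.inr ⟨0, h⟩)
      exact hfit.resolve_left (by omega)
    · refine ⟨Function.update (fun _ => 1) i₀ ((G.det * gramDet B)⁻¹), fun i => ?_, ?_⟩
      · rcases eq_or_ne i i₀ with rfl | h
        · rw [Function.update_self]; exact inv_ne_zero (mul_ne_zero hG0 hδ)
        · rw [Function.update_of_ne h]; exact one_ne_zero
      · rw [Finset.prod_update_of_mem (Finset.mem_univ _), Finset.prod_const_one, mul_one,
          mul_right_comm, mul_inv_cancel₀ (mul_ne_zero hG0 hδ)]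
        exact IsSquare.one
  let X0 : Matrix ((Fin m ⊕ Fin m) ⊕ (Fin a ⊕ Fin b)) ((Fin m ⊕ Fin m) ⊕ (Fin a ⊕ Fin b)) F :=
    fromBlocks A 0 0 (Matrix.diagonal E)
  let G0 : Matrix ((Fin m ⊕ Fin m) ⊕ (Fin a ⊕ Fin b)) ((Fin m ⊕ Fin m) ⊕ (Fin a ⊕ Fin b)) F :=
    fromBlocks G 0 0 (Matrix.diagonal d)
  have hEE : ∀ i, E i * d i * E i = d i := fun i => by rcases i with i | i <;> simp [E]
  have hinv : X0ᵀ * G0 * X0 = G0 := by
    simp only [X0, G0, fromBlocks_transpose, fromBlocks_multiply, Matrix.zero_mul, Matrix.mul_zero, add_zero,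
      zero_add, hGA, transpose_zero, diagonal_transpose, diagonal_mul_diagonal, hEE]
  have hdet : G0.det = G.det * ∏ i, d i := by
    simp only [G0]
    rw [det_fromBlocks_zero₂₁, det_diagonal]
  let G1 := G0.submatrix σ.symm σ.symm
  let X1 := X0.submatrix σ.symm σ.symm
  have hinv1 : X1ᵀ * G1 * X1 = G1 := by
    simp only [X1, G1, transpose_submatrix, Matrix.submatrix_mul_equiv, hinv]
  have hcp : X1.charpoly = (X - C 1) ^ a * (X - C (-1)) ^ b * R := by
    show (Matrix.reindex σ σ X0).charpoly = _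
    rw [charpoly_reindex, charpoly_fromBlocks_zero₁₂, hA, charpoly_diagonal, Fintype.prod_sum_type]
    simp only [E, Sum.elim_inl, Sum.elim_inr, Finset.prod_const, Finset.card_univ, Fintype.card_fin]
    ring
  let B1 : (Fin N → F) →ₗ[F] (Fin N → F) →ₗ[F] F := Matrix.toLinearMap₂' F G1
  have hB1 : IsEta B1 1 := fun u v => by
    have hT : G1ᵀ = G1 := by
      simp only [G1, G0, transpose_submatrix, fromBlocks_transpose, hG, transpose_zero, diagonal_transpose]
    rw [one_mul, Matrix.toLinearMap₂'_apply', Matrix.toLinearMap₂'_apply', dotProduct_mulVec,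
      ← mulVec_transpose, hT, dotProduct_comm]
  have hdet1 : G1.det = G.det * ∏ i, d i := by simp only [G1]; rw [det_submatrix_equiv_self, hdet]
  have hG1 : gramDet B1 = G1.det := by rw [gramDet, LinearMap.toMatrix'_toLinearMap₂']
  have hN1 : ∀ v, (∀ u, B1 u v = 0) → v = 0 :=
    (LinearMap.nondegenerate_toLinearMap₂'_iff_det_ne_zero.2 (by
      rw [hdet1]; exact mul_ne_zero hG0 (Finset.prod_ne_zero_iff.2 fun i _ => hd0 i))).2
  obtain ⟨f, hf⟩ := exists_isometry_of_det h2 hB1 hB hN1 hN (by rw [hG1, hdet1]; exact hdsq)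
  have hX1 : ∀ v w, B1 (Matrix.toLin' X1 v) (Matrix.toLin' X1 w) = B1 v w := fun v w => by
    rw [Matrix.toLinearMap₂'_apply', Matrix.toLinearMap₂'_apply', Matrix.toLin'_apply, Matrix.toLin'_apply,
      Matrix.mulVec_mulVec, ← Matrix.vecMul_transpose, ← Matrix.dotProduct_mulVec, Matrix.mulVec_mulVec,
      ← Matrix.mul_assoc, hinv1]
  have hinjX : Function.Injective (Matrix.toLin' X1) := (injective_iff_map_eq_zero _).2 fun v hv =>
    hN1 v fun u => by rw [← hX1, hv, map_zero]
  let e1 := LinearEquiv.ofInjectiveEndo _ hinjX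
  refine ⟨⟨f.symm.trans (e1.trans f), fun v w => ?_⟩, ?_⟩
  · show B (f (Matrix.toLin' X1 (f.symm v))) (f (Matrix.toLin' X1 (f.symm w))) = B v w
    rw [hf, hX1, ← hf, f.apply_symm_apply, f.apply_symm_apply]
  · have hfM : LinearMap.toMatrix' f.toLinearMap * LinearMap.toMatrix' f.symm.toLinearMap = 1 := by
      rw [← LinearMap.toMatrix'_comp]; simp
    have hfM' : LinearMap.toMatrix' f.symm.toLinearMap * LinearMap.toMatrix' f.toLinearMap = 1 := by
      rw [← LinearMap.toMatrix'_comp]; simp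
    have he : matOf (⟨f.symm.trans (e1.trans f), fun v w => by
        show B (f (Matrix.toLin' X1 (f.symm v))) (f (Matrix.toLin' X1 (f.symm w))) = B v w
        rw [hf, hX1, ← hf, f.apply_symm_apply, f.apply_symm_apply]⟩ : isomGroup B) =
        LinearMap.toMatrix' f.toLinearMap * X1 * LinearMap.toMatrix' f.symm.toLinearMap := by
      apply Matrix.toLin'.injective
      rw [Matrix.toLin'_mul, Matrix.toLin'_mul, Matrix.toLin'_toMatrix', Matrix.toLin'_toMatrix', matOf_toLin]
      exact LinearMap.ext fun v => rfl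
    rw [he, ← hcp]
    rw [charpoly_mul_comm, ← Matrix.mul_assoc, hfM', Matrix.one_mul]

variable {n : ℕ} {B : (Fin (n + n) → F) →ₗ[F] (Fin (n + n) → F) →ₗ[F] F}

theorem exists_isometry_charpoly (h2 : (2 : F) ≠ 0) (hB : IsEta B 1) (hN : ∀ v, (∀ u, B u v = 0) → v = 0)
    {P : F[X]} (hP : SelfRec n P) (hfit : Fits n (gramDet B) P) :
    ∃ g : isomGroup B, (matOf g).charpoly = P := by
  obtain ⟨a, b, m, R, hR, hR1, hR2, hd, hPR⟩ := exists_core hP h2
  rw [hPR]
  refine exists_isometry_of_parts h2 hB hN hR hR1 hR2 hd ?_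
  rcases Nat.eq_zero_or_pos (a + b) with h | h
  · obtain ⟨rfl, rfl⟩ : a = 0 ∧ b = 0 := by omega
    obtain rfl : m = n := by omega
    rw [pow_zero, pow_zero, one_mul, one_mul] at hPR
    subst hPR
    exact Or.inr (hfit.resolve_left (mul_ne_zero hR1 hR2))
  · exact Or.inl h

/-- The shift moving the value at one. -/
noncomputable def bump (n : ℕ) : F[X] := C 2 * X ^ n + X ^ (n - 1) + X ^ (n + 1)

theorem bump_eval_one (hn : 1 ≤ n) : (bump n : F[X]).eval 1 = 4 := by
  simp [bump]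
  norm_num

theorem bump_eval_neg_one (hn : 1 ≤ n) : (bump n : F[X]).eval (-1) = 0 := by
  obtain ⟨k, rfl⟩ : ∃ k, n = k + 1 := ⟨n - 1, by omega⟩
  simp [bump, pow_succ]
  ring

theorem bump_coeff (j : ℕ) : (bump n : F[X]).coeff j =
    (if j = n then 2 else 0) + (if j = n - 1 then 1 else 0) + (if j = n + 1 then 1 else 0) := by
  simp [bump, coeff_X_pow]

theorem bump_natDegree (hn : 2 ≤ n) : (bump n : F[X]).natDegree < n + n := by
  refine lt_of_le_of_lt (natDegree_le_iff_coeff_eq_zero.2 fun j hj => ?_) (show n + 1 < n + n by omega)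
  rw [bump_coeff, if_neg (by omega), if_neg (by omega), if_neg (by omega)]
  ring

theorem selfRec_add_bump (hn : 2 ≤ n) {P : F[X]} (hP : SelfRec n P) (c : F) : SelfRec n (P + C c * bump n) := by
  have hd : (C c * bump n : F[X]).natDegree < P.natDegree := by
    rw [hP.2.1]
    exact lt_of_le_of_lt (natDegree_C_mul_le _ _) (bump_natDegree hn)
  have hdeg : (P + C c * bump n).natDegree = n + n := by rw [natDegree_add_eq_left_of_natDegree_lt hd, hP.2.1]
  refine ⟨hP.1.add_of_left (degree_lt_degree hd), hdeg, ?_, ?_⟩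
  · rw [coeff_add, coeff_C_mul, bump_coeff, if_neg (by omega), if_neg (by omega), if_neg (by omega), hP.2.2.1]
    ring
  · refine Polynomial.ext fun j => ?_
    rw [coeff_reverse, hdeg]
    rcases le_or_gt j (n + n) with hj | hj
    · rw [revAt_le hj, coeff_add, coeff_add, coeff_C_mul, coeff_C_mul, bump_coeff, bump_coeff]
      have h := congrArg (fun Q : F[X] => Q.coeff j) hP.2.2.2
      simp only [coeff_reverse, hP.2.1, revAt_le hj] at h
      rw [h]
      congr 2
      split_ifs <;> first | (exfalso; omega) | ring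
    · rw [revAt_eq_self_of_lt hj]

theorem card_selfRec_le_two_mul (hn : 2 ≤ n) (h2 : (2 : F) ≠ 0) {δ : F} (hδ : δ ≠ 0) :
    Fintype.card F ^ n ≤ 2 * Nat.card {P : F[X] // SelfRec n P ∧ Fits n δ P} := by
  classical
  have hchar : ringChar F ≠ 2 := fun hc => by
    haveI := ringChar.of_eq hc
    exact h2 CharTwo.two_eq_zero
  obtain ⟨ν, hν⟩ := FiniteField.exists_nonsquare hchar
  have hν0 : ν ≠ 0 := fun h => hν (h ▸ IsSquare.zero)
  have h4 : (4 : F) ≠ 0 := fun h => h2 (mul_self_eq_zero.1 (show (2 : F) * 2 = 0 by linear_combination h))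
  have hfin : Finite {P : F[X] // SelfRec n P} :=
    Nat.finite_of_card_ne_zero (by rw [card_selfRec]; exact pow_ne_zero _ Fintype.card_ne_zero)
  haveI := hfin
  let c : F[X] → F := fun P => (ν - 1) * P.eval 1 / 4
  let T : F[X] → F[X] := fun P => P + C (c P) * bump n
  have hev : ∀ P : F[X], (T P).eval 1 = ν * P.eval 1 ∧ (T P).eval (-1) = P.eval (-1) := fun P => by
    simp only [T, c, eval_add, eval_mul, eval_C, bump_eval_one (by omega : 1 ≤ n),
      bump_eval_neg_one (by omega : 1 ≤ n), mul_zero, add_zero, div_mul_cancel₀ _ h4]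
    exact ⟨by ring, trivial⟩
  have hTi : ∀ P Q : F[X], T P = T Q → P = Q := fun P Q h => by
    have h1 := congrArg (fun R : F[X] => R.eval 1) h
    simp only [(hev _).1] at h1
    have hc : c P = c Q := by simp only [c]; rw [mul_left_cancel₀ hν0 h1]
    simp only [T, hc] at h
    exact add_right_cancel h
  let J := (Matrix.J (Fin n) F).det
  have hJ : J ≠ 0 := fun h => by simpa [J, h] using det_J_sq (F := F) n
  let f : {P : F[X] // SelfRec n P} → {P : F[X] // SelfRec n P ∧ Fits n δ P} × Bool := fun P =>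
    if h : Fits n δ P.1 then (⟨P.1, P.2, h⟩, true) else
      (⟨T P.1, selfRec_add_bump hn P.2 _, Or.inr (by
        obtain ⟨h1, h3⟩ := not_or.1 h
        rw [(hev P.1).1, (hev P.1).2, show J * (ν * P.1.eval 1 * P.1.eval (-1)) * δ =
          ν * (J * (P.1.eval 1 * P.1.eval (-1)) * δ) by ring,
          ← quadraticChar_one_iff_isSquare (mul_ne_zero hν0 (mul_ne_zero (mul_ne_zero hJ h1) hδ)), map_mul,
          (quadraticChar_neg_one_iff_not_isSquare).2 hν, (quadraticChar_neg_one_iff_not_isSquare).2 h3]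
        norm_num)⟩, false)
  have hf : Function.Injective f := by
    intro P Q h
    simp only [f] at h
    split_ifs at h with hp hq hq
    · exact Subtype.ext (congrArg Subtype.val (Prod.ext_iff.1 h).1 :)
    · exact absurd (Prod.ext_iff.1 h).2 (by simp)
    · exact absurd (Prod.ext_iff.1 h).2 (by simp)
    · exact Subtype.ext (hTi _ _ (congrArg Subtype.val (Prod.ext_iff.1 h).1))
  haveI : Finite {P : F[X] // SelfRec n P ∧ Fits n δ P} :=
    Finite.of_injective (fun P => (⟨P.1, P.2.1⟩ : {P : F[X] // SelfRec n P}))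
      fun P Q h => Subtype.ext (congrArg Subtype.val h :)
  have h := Nat.card_le_card_of_injective f hf
  rw [card_selfRec, Nat.card_prod, Nat.card_eq_fintype_card (α := Bool), Fintype.card_bool] at h
  omega

/-- The lower bound. -/
theorem card_classes_orth_ge (hn : 2 ≤ n) (h2 : (2 : F) ≠ 0) (hB : IsEta B 1)
    (hN : ∀ v, (∀ u, B u v = 0) → v = 0) :
    Fintype.card F ^ n ≤ 2 * Nat.card (ConjClasses (isomGroup B)) := by
  classical
  refine (card_selfRec_le_two_mul hn h2 (gramDet_ne_zero hB hN)).trans (Nat.mul_le_mul_left 2 ?_)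
  choose g hg using fun P : {P : F[X] // SelfRec n P ∧ Fits n (gramDet B) P} =>
    exists_isometry_charpoly h2 hB hN P.2.1 P.2.2
  haveI : Finite (isomGroup B) := Finite.of_injective (fun g => (g.1 : (Fin (n + n) → F) → (Fin (n + n) → F)))
    fun a b h => Subtype.ext (LinearEquiv.ext (congrFun h))
  haveI : Finite (ConjClasses (isomGroup B)) := Finite.of_surjective _ ConjClasses.mk_surjective
  refine Nat.card_le_card_of_injective (fun P => ConjClasses.mk (g P)) fun P Q h => ?_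
  obtain ⟨c, hc⟩ := isConj_iff.1 (ConjClasses.mk_eq_mk_iff_isConj.1 h)
  refine Subtype.ext ?_
  rw [← hg, ← hg, ← hc]
  have hm : ∀ a b : isomGroup B, matOf (a * b) = matOf a * matOf b := fun a b => LinearMap.toMatrix'_comp _ _
  rw [hm, hm]
  have h1 : matOf c * matOf c⁻¹ = 1 := by rw [← hm, mul_inv_cancel]; exact LinearMap.toMatrix'_id
  have h3 : matOf c⁻¹ * matOf c = 1 := by rw [← hm, inv_mul_cancel]; exact LinearMap.toMatrix'_id
  rw [charpoly_mul_comm (matOf c * matOf (g P)), ← Matrix.mul_assoc, h3, Matrix.one_mul]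

end CfsgLib.ClassNumberForm
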