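import Cfsg.Agent.Lib.KnownA.ClassNumberForm.Disc
import Cfsg.Agent.Lib.KnownA.ClassNumberForm.OrthNumeric

/-!
# An upper bound for the class number of an even dimensional orthogonal group

At most half of the tuples with signs that carry a sign, together with all tuples without signs, occur for one form.
-/

set_option autoImplicit false
set_option linter.unusedSectionVars false

namespace CfsgLib.ClassNumberForm

open Polynomial Finset CfsgLib.Classical

variable {F : Type*} [Field F] [Fintype F] {N : ℕ}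

theorem single_one_iff (h2 : (2 : F) ≠ 0) (i : ℕ) : Single (1 : F) (i + 1) ↔ Even i := by
  rw [Single, Nat.add_sub_cancel, one_mul]
  rcases Nat.even_or_odd i with h | h
  · rw [h.neg_one_pow]
    exact iff_of_true rfl h
  · rw [h.neg_one_pow]
    exact iff_of_false (fun h' => h2 (by linear_combination -h')) (Nat.not_even_iff_odd.2 h)

/-- The positions where a tuple can carry a sign. -/
def SignPos (η : F) (b : Fin N → F[X]) (c : Bool × Fin N) : Prop :=
  Single η ((c.2 : ℕ) + 1) ∧ 0 < (b c.2).rootMultiplicity (sgn F c.1)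

theorem IsPal.sq_add_one_pow (k : ℕ) : IsPal ((X ^ 2 + 1 : F[X]) ^ k) := by
  have hm : (X ^ 2 + 1 : F[X]).Monic := by simpa using monic_X_pow_add_C (1 : F) two_ne_zero
  have hd : (X ^ 2 + 1 : F[X]).natDegree = 2 := by
    rw [natDegree_add_eq_left_of_natDegree_lt (by simp), natDegree_X_pow]
  have hc : (X ^ 2 + 1 : F[X]).coeff 0 = 1 := by simp
  have hs : star1 (X ^ 2 + 1 : F[X]) = X ^ 2 + 1 := by
    refine Polynomial.ext fun j => ?_
    rcases le_or_gt j 2 with hj | hj
    · rw [star1, ClassNumberSU.coeff_star (by rwa [hd]), hc, hd]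
      interval_cases j <;> simp [coeff_one]
    · rw [coeff_eq_zero_of_natDegree_lt (by rwa [star1, ClassNumberSU.natDegree_star (by rw [hc]; exact one_ne_zero), hd]),
        coeff_eq_zero_of_natDegree_lt (by rwa [hd])]
  refine ⟨hm.pow k, by rw [ClassNumberSU.coeff_zero_pow, hc, one_pow], ?_, ?_⟩
  · rw [natDegree_pow, hd]
    exact ⟨k, by ring⟩
  · rw [star1, ClassNumberSU.star_pow, show ClassNumberSU.star _ (X ^ 2 + 1 : F[X]) = _ from hs]

/-- A form's classes use at most half of the tuples that carry signs. -/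
theorem two_mul_classes_le' {B : (Fin N → F) →ₗ[F] (Fin N → F) →ₗ[F] F} (h2 : (2 : F) ≠ 0) (hB : IsEta B 1)
    (hN : ∀ v, (∀ u, B u v = 0) → v = 0) {T : Type*} [Finite T] (t : (Fin N → F[X]) → T)
    (ht : ∀ z z' : {z : (Fin N → F[X]) × (Bool → Fin N → Bool) // IsLabel (1 : F) z},
      (∀ c, ¬SignPos (1 : F) z.1.1 c) → (∀ c, ¬SignPos (1 : F) z'.1.1 c) → t z.1.1 = t z'.1.1 → z.1.1 = z'.1.1) :
    2 * Nat.card (ConjClasses (isomGroup B)) ≤
      Nat.card {z : (Fin N → F[X]) × (Bool → Fin N → Bool) // IsLabel (1 : F) z} + Nat.card T := by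
  classical
  have hchar : ringChar F ≠ 2 := fun hc => by
    haveI := ringChar.of_eq hc
    exact h2 CharTwo.two_eq_zero
  obtain ⟨ν, hν⟩ := FiniteField.exists_nonsquare hchar
  have D : ∀ g : isomGroup B, IsoData B 1 ν g.1 := isoData_of h2 (Or.inl rfl) hν hB hN
  let rep : ConjClasses (isomGroup B) → isomGroup B := fun C => C.exists_rep.choose
  let Lab := {z : (Fin N → F[X]) × (Bool → Fin N → Bool) // IsLabel (1 : F) z}
  let L : ConjClasses (isomGroup B) → Lab := fun C => ⟨_, isLabel_of (rep C) (D (rep C))⟩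
  have hLinj : Function.Injective L := fun C C' h => by
    obtain ⟨htup, hbits⟩ := Prod.ext_iff.1 (congrArg Subtype.val h)
    rw [← C.exists_rep.choose_spec, ← C'.exists_rep.choose_spec, ConjClasses.mk_eq_mk_iff_isConj]
    exact isConj_of_label _ _ _ _ htup hbits
  let pick : (Fin N → F[X]) → Option (Bool × Fin N) := fun b =>
    if h : ∃ c, SignPos (1 : F) b c then some h.choose else none
  have hpick : ∀ b c, pick b = some c → SignPos (1 : F) b c := fun b c h => by
    simp only [pick] at h
    split_ifs at h with h'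
    cases h
    exact h'.choose_spec
  have hnone : ∀ b, pick b = none → ∀ c, ¬SignPos (1 : F) b c := fun b h c hc => by
    simp only [pick, dif_pos (⟨c, hc⟩ : ∃ c, SignPos (1 : F) b c)] at h
    cases h
  let flip : Bool × Fin N → (Bool → Fin N → Bool) → (Bool → Fin N → Bool) := fun c β s i =>
    if (s, i) = c then !β s i else β s i
  have hflip : ∀ (z : Lab) (c : Bool × Fin N), SignPos (1 : F) z.1.1 c → IsLabel (1 : F) (z.1.1, flip c z.1.2) := by
    intro z c hc
    refine ⟨z.2.1, z.2.2.1, z.2.2.2.1, fun s i h => ?_⟩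
    by_cases hsi : (s, i) = c
    · subst hsi
      exact hc
    · simp only [flip, if_neg hsi] at h
      exact z.2.2.2.2 s i h
  let g : ConjClasses (isomGroup B) ⊕ ConjClasses (isomGroup B) → Lab ⊕ T := fun x =>
    match x with
    | Sum.inl C => Sum.inl (L C)
    | Sum.inr C =>
      if h : pick (L C).1.1 = none then Sum.inr (t (L C).1.1)
      else Sum.inl ⟨_, hflip (L C) ((pick (L C).1.1).get (Option.ne_none_iff_isSome.1 h))
        (hpick _ _ (Option.some_get _).symm)⟩
  haveI : Finite Lab := (card_label_le h2).1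
  haveI : Finite (ConjClasses (isomGroup B)) := Finite.of_injective L hLinj
  have key : ∀ C C' (c : Bool × Fin N), pick (L C').1.1 = some c →
      (L C).1 ≠ ((L C').1.1, flip c (L C').1.2) := by
    intro C C' c hc h
    obtain ⟨htup, hbits⟩ := Prod.ext_iff.1 h
    have hsp := hpick _ _ hc
    obtain ⟨e, he⟩ := exists_similar (rep C') (rep C) htup.symm
    obtain ⟨s₀, i₀⟩ := c
    have hk : Odd ((i₀ : ℕ) + 1) := ((single_one_iff h2 _).1 hsp.1).add_one
    have hsame : ∀ s k, ¬(s = s₀ ∧ k = (i₀ : ℕ) + 1) →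
        ((famOf (D (rep C')) (sgn_cases s)).Bit k ↔ (famOf (D (rep C)) (sgn_cases s)).Bit k) := by
      intro s k hne
      by_cases hk' : 0 < k ∧ k ≤ N
      · obtain ⟨i, rfl⟩ : ∃ i : Fin N, (i : ℕ) + 1 = k := ⟨⟨k - 1, by omega⟩, by simp only; omega⟩
        rw [← bitsOf_eq_true (rep C') _ s i, ← bitsOf_eq_true (rep C) _ s i,
          show bitsOf (rep C) (D (rep C)) s i = flip (s₀, i₀) (bitsOf (rep C') (D (rep C'))) s i from
            congrFun (congrFun hbits s) i]
        simp only [flip]
        rw [if_neg fun h' => hne ⟨(Prod.ext_iff.1 h').1, by cases h'; rfl⟩]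
      · exact iff_of_false (fun hb => hk' (bit_range _ _ s k hb)) fun hb => hk' (bit_range _ _ s k hb)
    have h₀ : bitsOf (rep C) (D (rep C)) s₀ i₀ = !bitsOf (rep C') (D (rep C')) s₀ i₀ := by
      refine (congrFun (congrFun hbits s₀) i₀).trans ?_
      simp only [flip, if_pos rfl]
      rfl
    rcases hb : bitsOf (rep C') (D (rep C')) s₀ i₀ with _ | _
    · refine no_single_flip (D (rep C')) (D (rep C)) e he hk s₀ hsame ?_ ?_
      · rw [← bitsOf_eq_true (rep C') _ s₀ i₀, hb]; exact Bool.false_ne_true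
      · rw [← bitsOf_eq_true (rep C) _ s₀ i₀, h₀, hb]; rfl
    · refine no_single_flip (D (rep C)) (D (rep C')) e.symm (fun v => e.injective ?_) hk s₀
        (fun s k hne => (hsame s k hne).symm) ?_ ?_
      · rw [he, e.apply_symm_apply, e.apply_symm_apply]
      · rw [← bitsOf_eq_true (rep C) _ s₀ i₀, h₀, hb]; exact Bool.false_ne_true
      · rw [← bitsOf_eq_true (rep C') _ s₀ i₀, hb]
  have hg : Function.Injective g := by
    have hgr : ∀ C, (∃ h : pick (L C).1.1 = none, g (Sum.inr C) = Sum.inr (t (L C).1.1)) ∨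
        ∃ c, pick (L C).1.1 = some c ∧ ∃ h, g (Sum.inr C) = Sum.inl ⟨((L C).1.1, flip c (L C).1.2), h⟩ := by
      intro C
      by_cases h : pick (L C).1.1 = none
      · exact Or.inl ⟨h, by simp only [g, dif_pos h]⟩
      · exact Or.inr ⟨_, (Option.some_get (Option.ne_none_iff_isSome.1 h)).symm, hflip (L C) _ (hpick _ _ (Option.some_get (Option.ne_none_iff_isSome.1 h)).symm), by simp only [g, dif_neg h]⟩
    rintro (C | C) (C' | C') h
    · exact congrArg Sum.inl (hLinj (Sum.inl.inj h))
    · rcases hgr C' with ⟨hn, e⟩ | ⟨c, hc, hh, e⟩ <;> rw [e] at h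
      · cases h
      · exact absurd (congrArg Subtype.val (Sum.inl.inj h)) (key C C' c hc)
    · rcases hgr C with ⟨hn, e⟩ | ⟨c, hc, hh, e⟩ <;> rw [e] at h
      · cases h
      · exact absurd (congrArg Subtype.val (Sum.inl.inj h)).symm (key C' C c hc)
    · refine congrArg Sum.inr (hLinj (Subtype.ext ?_))
      rcases hgr C with ⟨hn, e⟩ | ⟨c, hc, hh, e⟩ <;> rcases hgr C' with ⟨hn', e'⟩ | ⟨c', hc', hh', e'⟩ <;>
        rw [e, e'] at h
      · refine Prod.ext (ht (L C) (L C') (hnone _ hn) (hnone _ hn') (Sum.inr.inj h)) ?_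
        have hz : ∀ z : Lab, pick z.1.1 = none → z.1.2 = fun _ _ => false := fun z hz => by
          refine funext fun s => funext fun i => ?_
          by_contra hne
          exact hnone _ hz (s, i) (z.2.2.2.2 s i (by simpa using hne))
        rw [hz _ hn, hz _ hn']
      · cases h
      · cases h
      · obtain ⟨h1, h3⟩ := Prod.ext_iff.1 (congrArg Subtype.val (Sum.inl.inj h))
        simp only at h1 h3
        rw [h1] at hc
        rw [hc] at hc'
        cases hc'
        refine Prod.ext h1 (funext fun s => funext fun i => ?_)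
        have h4 := congrFun (congrFun h3 s) i
        simp only [flip] at h4
        split_ifs at h4 <;> simpa using h4
  have := Nat.card_le_card_of_injective g hg
  rw [Nat.card_sum, Nat.card_sum] at this
  simp only [Lab] at this
  omega

theorem two_mul_classes_le {B : (Fin N → F) →ₗ[F] (Fin N → F) →ₗ[F] F} (h2 : (2 : F) ≠ 0) (hB : IsEta B 1)
    (hN : ∀ v, (∀ u, B u v = 0) → v = 0) (hEven : Even N) :
    2 * Nat.card (ConjClasses (isomGroup B)) ≤
      Nat.card {z : (Fin N → F[X]) × (Bool → Fin N → Bool) // IsLabel (1 : F) z} +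
        Nat.card (PTup F N (N / 2)) := by
  classical
  haveI : Finite (PTup F N (N / 2)) := (card_ptup _ _).1
  let Lab := {z : (Fin N → F[X]) × (Bool → Fin N → Bool) // IsLabel (1 : F) z}
  have hL0 : ∀ z : Lab, (∀ c, ¬SignPos (1 : F) z.1.1 c) → (∀ i, IsPal (z.1.1 i)) ∧
      ∑ i : Fin N, ((i : ℕ) + 1) * (z.1.1 i).natDegree = 2 * (N / 2) := by
    intro z hz
    refine ⟨fun i => ?_, z.2.2.1.trans (Nat.two_mul_div_two_of_even hEven).symm⟩
    have hev : ∀ s, Even ((z.1.1 i).rootMultiplicity (sgn F s)) := fun s => by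
      by_cases hs : Single (1 : F) ((i : ℕ) + 1)
      · have : ¬0 < (z.1.1 i).rootMultiplicity (sgn F s) := fun h => hz (s, i) ⟨hs, h⟩
        rw [show (z.1.1 i).rootMultiplicity (sgn F s) = 0 by omega]
        exact Even.zero
      · exact z.2.2.2.1 s i hs
    obtain ⟨R, hR, hRe⟩ := exists_pal (r₁ := 0) (r₂ := 0) (z.2.1 i) h2 (Nat.zero_le _) (by simpa [sgn] using hev true)
      (Nat.zero_le _) (by simpa [sgn] using hev false)
    rw [hRe, pow_zero, pow_zero, one_mul, one_mul]
    exact hR
  let t : (Fin N → F[X]) → Option (PTup F N (N / 2)) := fun b =>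
    if h : (∀ i, IsPal (b i)) ∧ ∑ i : Fin N, ((i : ℕ) + 1) * (b i).natDegree = 2 * (N / 2) then some ⟨b, h⟩ else none
  have t₀ : PTup F N (N / 2) := by
    refine ⟨fun i => if (i : ℕ) = 0 then (X ^ 2 + 1) ^ (N / 2) else 1, fun i => ?_, ?_⟩
    · dsimp only
      split_ifs with h
      · exact IsPal.sq_add_one_pow (N / 2)
      · exact IsPal.one
    · rcases Nat.eq_zero_or_pos N with rfl | h0
      · simp
      rw [Finset.sum_eq_single (⟨0, h0⟩ : Fin N) (fun i _ hi => ?_) (by simp)]
      dsimp only
      rw [if_pos rfl, natDegree_pow,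
        natDegree_add_eq_left_of_natDegree_lt (by simp), natDegree_X_pow]
      · simp [mul_comm]
      · dsimp only
        rw [if_neg fun h => hi (Fin.ext h), natDegree_one, mul_zero]
  refine two_mul_classes_le' h2 hB hN (T := PTup F N (N / 2)) (fun b => (t b).getD t₀) fun z z' hz hz' h => ?_
  simp only [t, dif_pos (hL0 z hz), dif_pos (hL0 z' hz'), Option.getD_some] at h
  exact congrArg Subtype.val h

theorem card_classes_orth_le {n : ℕ} (hn : 1 ≤ n) (h2 : (2 : F) ≠ 0) (hq3 : 3 ≤ Fintype.card F)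
    {B : (Fin (n + n) → F) →ₗ[F] (Fin (n + n) → F) →ₗ[F] F} (hB : IsEta B 1)
    (hN : ∀ v, (∀ u, B u v = 0) → v = 0) :
    2 * Nat.card (ConjClasses (isomGroup B)) ≤ 19 * Fintype.card F ^ n := by
  classical
  set q := Fintype.card F with hq
  set x : ℚ := (q : ℚ)⁻¹ with hx
  have hqpos : (0 : ℚ) < q := by exact_mod_cast (by omega : 0 < q)
  have hx0 : 0 ≤ x := by positivity
  have hx3 : x ≤ 1 / 3 := by
    rw [hx, one_div]
    exact inv_anti₀ (by norm_num) (by exact_mod_cast hq3)
  obtain ⟨m, hm⟩ : ∃ m, n + n = m + 1 := ⟨n + n - 1, by omega⟩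
  have hK : ∀ k, (cntP q (n + n) k : ℚ) ≤ 9 / 5 * (q : ℚ) ^ k := fun k => by
    rw [show cntP q (n + n) k = cntP q (m + 1) k from congrArg (fun t => cntP q t k) hm]
    exact (cntP_le (by omega) m k).trans (mul_le_mul_of_nonneg_right (cK_le_const hx0 hx3 _) (by positivity))
  let y : ℚ := 29 / 50
  let w : ℚ → Fin (n + n) → ℚ := fun s i => if (i : ℕ) % 2 = 0 then s * y ^ ((i : ℕ) + 1) else 0
  let term : ℚ → (Fin (n + n) → Fin 4 → Bool) → ℚ := fun s S =>
    ∏ i, w s i ^ (univ.filter fun k => S i k = true).card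
  have habs : ∀ S, 0 ≤ term 1 S + term (-1) S := fun S => by
    have h1 : term (-1) S = (∏ i : Fin (n + n), (-1 : ℚ) ^ (univ.filter fun k => S i k = true).card) * term 1 S := by
      simp only [term]
      rw [← Finset.prod_mul_distrib]
      refine Finset.prod_congr rfl fun i _ => ?_
      rw [← mul_pow]
      congr 1
      simp only [w]
      split_ifs <;> ring
    have h0 : 0 ≤ term 1 S := Finset.prod_nonneg fun i _ => pow_nonneg (by
      simp only [w]; split_ifs <;> [exact mul_nonneg zero_le_one (by positivity); exact le_rfl]) _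
    rw [h1, Finset.prod_pow_eq_pow_sum]
    rcases neg_one_pow_eq_or ℚ (∑ i : Fin (n + n), (univ.filter fun k => S i k = true).card) with h | h <;>
      rw [h] <;> linarith
  have hterm : ∀ S : Fin (n + n) → Fin 4 → Bool, ValidS (1 : F) S →
      (cntP q (n + n) ((n + n - wtS S) / 2) : ℚ) ≤ 9 / 5 * (q : ℚ) ^ n * ((term 1 S + term (-1) S) / 2) := by
    rintro S ⟨hle, hev, hS⟩
    obtain ⟨h, hh⟩ : ∃ h, wtS S = 2 * h := by
      obtain ⟨r, hr⟩ := hev
      exact ⟨n - r, by omega⟩
    have hsingle : ∀ i : Fin (n + n), (univ.filter fun k => S i k = true).card ≠ 0 → (i : ℕ) % 2 = 0 := fun i hi => by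
      obtain ⟨k, hk⟩ := Finset.card_pos.1 (Nat.pos_of_ne_zero hi)
      exact Nat.even_iff.1 ((single_one_iff h2 _).1 (hS i k (Finset.mem_filter.1 hk).2))
    have hval : ∀ s : ℚ, s * s = 1 → term s S = y ^ wtS S := by
      intro s hs
      have hsum : Even (∑ i : Fin (n + n), (univ.filter fun k => S i k = true).card) := by
        have e : wtS S = 2 * (∑ i : Fin (n + n), (i : ℕ) / 2 * (univ.filter fun k => S i k = true).card) +
            ∑ i : Fin (n + n), (univ.filter fun k => S i k = true).card := by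
          rw [wtS, Finset.mul_sum, ← Finset.sum_add_distrib]
          refine Finset.sum_congr rfl fun i _ => ?_
          rcases Nat.eq_zero_or_pos (univ.filter fun k => S i k = true).card with h0 | h0
          · rw [h0, mul_zero, mul_zero, mul_zero, add_zero]
          · obtain ⟨r, hr⟩ : ∃ r, (i : ℕ) = 2 * r := ⟨(i : ℕ) / 2, by have := hsingle i h0.ne'; omega⟩
            rw [hr, Nat.mul_div_cancel_left r two_pos]
            ring
        rw [Nat.even_iff]
        omega
      simp only [term]
      rw [wtS, ← Finset.prod_pow_eq_pow_sum]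
      obtain ⟨r, hr⟩ := hsum
      calc ∏ i, w s i ^ (univ.filter fun k => S i k = true).card
          = ∏ i : Fin (n + n), s ^ (univ.filter fun k => S i k = true).card *
              y ^ (((i : ℕ) + 1) * (univ.filter fun k => S i k = true).card) := by
            refine Finset.prod_congr rfl fun i _ => ?_
            rcases Nat.eq_zero_or_pos (univ.filter fun k => S i k = true).card with h0 | h0
            · rw [h0, pow_zero, pow_zero, mul_zero, pow_zero, mul_one]
            · simp only [w, if_pos (hsingle i h0.ne'), mul_pow, ← pow_mul]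
        _ = _ := by
            rw [Finset.prod_mul_distrib, Finset.prod_pow_eq_pow_sum, hr, ← two_mul, pow_mul, pow_two, hs, one_pow,
              one_mul]
    rw [hval 1 (one_mul 1), hval (-1) (by norm_num), add_self_div_two,
      show (n + n - wtS S) / 2 = n - h by omega, hh, pow_mul]
    refine (hK (n - h)).trans ?_
    rw [mul_assoc]
    refine mul_le_mul_of_nonneg_left ?_ (by norm_num)
    obtain ⟨r, hr⟩ : ∃ r, n = r + h := ⟨n - h, by omega⟩
    rw [show n - h = r by omega, hr, pow_add, mul_assoc, ← mul_pow]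
    refine le_mul_of_one_le_right (by positivity) (one_le_pow₀ ?_)
    have : (3 : ℚ) ≤ q := by exact_mod_cast hq3
    simp only [y]
    nlinarith
  have hlab : (Nat.card {z : (Fin (n + n) → F[X]) × (Bool → Fin (n + n) → Bool) // IsLabel (1 : F) z} : ℚ) ≤
      9 / 5 * (q : ℚ) ^ n * ((19 + 1 / 20) / 2) := by
    refine (Nat.cast_le.2 (card_label_le h2).2).trans ?_
    rw [Nat.cast_sum]
    refine (Finset.sum_le_sum fun S hS => hterm S (Finset.mem_filter.1 hS).2).trans ?_
    refine (Finset.sum_le_sum_of_subset_of_nonneg (Finset.subset_univ _) fun S _ _ =>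
      mul_nonneg (by positivity) (div_nonneg (habs S) zero_le_two)).trans ?_
    rw [← Finset.mul_sum, ← Finset.sum_div, Finset.sum_add_distrib]
    refine mul_le_mul_of_nonneg_left (div_le_div_of_nonneg_right (add_le_add ?_ ?_) zero_le_two) (by positivity)
    · simp only [term, ← prod_config_eq]
      rw [sum_config_eq, Fin.prod_univ_eq_prod_range
        (fun i => (1 + if i % 2 = 0 then (1 : ℚ) * y ^ (i + 1) else 0) ^ 4) (n + n),
        prod_range_double_even (fun j => (1 : ℚ) * y ^ j) n]
      simp only [one_mul, y]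
      exact prod_odd_le n
    · simp only [term, ← prod_config_eq]
      rw [sum_config_eq, Fin.prod_univ_eq_prod_range
        (fun i => (1 + if i % 2 = 0 then (-1 : ℚ) * y ^ (i + 1) else 0) ^ 4) (n + n),
        prod_range_double_even (fun j => (-1 : ℚ) * y ^ j) n]
      simp only [neg_one_mul, y, ← sub_eq_add_neg]
      exact prod_odd_neg_le hn
  have hp : (Nat.card (PTup F (n + n) ((n + n) / 2)) : ℚ) ≤ 9 / 5 * (q : ℚ) ^ n := by
    refine (Nat.cast_le.2 (card_ptup _ _).2).trans ?_
    rw [show (n + n) / 2 = n by omega]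
    exact hK n
  have h := two_mul_classes_le h2 hB hN ⟨n, rfl⟩
  have hcast : ((2 * Nat.card (ConjClasses (isomGroup B)) : ℕ) : ℚ) ≤ (19 * q ^ n : ℕ) := by
    refine (Nat.cast_le.2 h).trans ?_
    push_cast
    have hqn : (0 : ℚ) ≤ (q : ℚ) ^ n := by positivity
    linarith
  exact_mod_cast hcast

end CfsgLib.ClassNumberForm
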