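import Cfsg.Agent.Lib.KnownA.ClassNumberForm.Symp
import Cfsg.Agent.Lib.KnownA.ClassNumberForm.OrthUpper
import Cfsg.Agent.Lib.KnownA.ClassNumberForm.OrthLower
import Cfsg.Agent.Lib.Orth.Standard

/-!
# The class numbers of the even dimensional orthogonal groups in odd characteristic
-/

set_option autoImplicit false
set_option linter.unusedSectionVars false

namespace CfsgLib.ClassNumberForm

open CfsgLib.Classical CfsgLib.Orth

variable {F : Type*} [Field F] {ι : Type} [Fintype ι] [DecidableEq ι]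

/-- The orthogonal group as an isometry group of the polar form. -/
noncomputable def orthIsom (h2 : (2 : F) ≠ 0) (Q : QuadraticForm F (ι → F)) :
    orthGroup Q ≃* isomGroup (σ := RingHom.id F) (QuadraticMap.polarBilin Q) where
  toFun g := ⟨g.1, fun u v => by
    show QuadraticMap.polar Q (g.1 u) (g.1 v) = QuadraticMap.polar Q u v
    simp only [QuadraticMap.polar, ← map_add, g.2 _]⟩
  invFun g := ⟨g.1, fun v => by
    have h : QuadraticMap.polar Q (g.1 v) (g.1 v) = QuadraticMap.polar Q v v := g.2 v v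
    rw [QuadraticMap.polar_self, QuadraticMap.polar_self, two_nsmul, two_nsmul, ← two_mul, ← two_mul] at h
    exact mul_left_cancel₀ h2 h⟩
  left_inv g := rfl
  right_inv g := rfl
  map_mul' g h := rfl

theorem exists_std (h2 : (2 : F) ≠ 0) {Qf : (ι → F) → F} (Q : QuadraticForm F (ι → F)) (hQf : ∀ v, Qf v = Q v)
    (hnd : (QuadraticMap.polarBilin Q).Nondegenerate) {N : ℕ} (hN : Fintype.card ι = N) :
    ∃ B : (Fin N → F) →ₗ[F] (Fin N → F) →ₗ[F] F, IsEta B 1 ∧ (∀ v, (∀ u, B u v = 0) → v = 0) ∧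
      Nonempty (↥(Cfsg.isometryGroup F Qf) ≃* isomGroup B) := by
  let E : (Fin N → F) ≃ₗ[F] (ι → F) := LinearEquiv.funCongrLeft F F (Fintype.equivFinOfCardEq hN)
  refine ⟨(QuadraticMap.polarBilin Q).compl₁₂ E.toLinearMap E.toLinearMap, fun u v => ?_, fun v hv => ?_,
    ⟨((toOrth Q hQf).trans (orthIsom h2 Q)).trans
      (isomGroupCongr (σ := RingHom.id F) (B := (QuadraticMap.polarBilin Q).compl₁₂ E.toLinearMap E.toLinearMap)
        (B' := QuadraticMap.polarBilin Q) E fun u v => rfl).symm⟩⟩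
  · show QuadraticMap.polar Q (E v) (E u) = 1 * QuadraticMap.polar Q (E u) (E v)
    rw [one_mul, QuadraticMap.polar_comm]
  · refine E.map_eq_zero_iff.1 (hnd.2 _ fun u => ?_)
    obtain ⟨u, rfl⟩ := E.surjective u
    exact hv u

variable [Fintype F]

theorem orth_even_bounds (hodd : Odd (Fintype.card F)) {n : ℕ} (hn : 2 ≤ n) {Qf : (ι → F) → F}
    (Q : QuadraticForm F (ι → F)) (hQf : ∀ v, Qf v = Q v) (hnd : (QuadraticMap.polarBilin Q).Nondegenerate)
    (hι : Fintype.card ι = n + n) :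
    Fintype.card F ^ n ≤ 2 * Nat.card (ConjClasses ↥(Cfsg.isometryGroup F Qf)) ∧
      2 * Nat.card (ConjClasses ↥(Cfsg.isometryGroup F Qf)) ≤ 19 * Fintype.card F ^ n := by
  have h2 := two_ne_zero_of_odd hodd
  obtain ⟨B, hB, hN, ⟨e⟩⟩ := exists_std h2 Q hQf hnd hι
  rw [card_conjClasses_congr e]
  refine ⟨card_classes_orth_ge hn h2 hB hN, card_classes_orth_le (by omega) h2 ?_ hB hN⟩
  have h1 : 1 < Fintype.card F := Fintype.one_lt_card
  obtain ⟨r, hr⟩ := hodd
  omega

end CfsgLib.ClassNumberForm
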