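import Cfsg.Agent.Lib.KnownA.ClassNumberForm.OddCount
import Cfsg.Agent.Lib.KnownA.ClassNumberForm.OrthMain

/-!
# The class number of the commutator subgroup of an odd dimensional orthogonal group
-/

set_option autoImplicit false
set_option linter.unusedSectionVars false

namespace CfsgLib.ClassNumberForm

open Polynomial Finset CfsgLib.Classical CfsgLib.Orth

variable {F : Type*} [Field F]

/-- Minus one as an isometry. -/
noncomputable def negIsom {N : ℕ} (B : (Fin N → F) →ₗ[F] (Fin N → F) →ₗ[F] F) : isomGroup B :=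
  ⟨LinearEquiv.neg F, fun u v => by simp⟩

theorem negIsom_mul_self {N : ℕ} (B : (Fin N → F) →ₗ[F] (Fin N → F) →ₗ[F] F) : negIsom B * negIsom B = 1 :=
  Subtype.ext (LinearEquiv.ext fun v => neg_neg v)

theorem negIsom_comm {N : ℕ} (B : (Fin N → F) →ₗ[F] (Fin N → F) →ₗ[F] F) (g : isomGroup B) :
    negIsom B * g = g * negIsom B :=
  Subtype.ext (LinearEquiv.ext fun v => (map_neg g.1 v).symm)

theorem det_negIsom_mul {N : ℕ} (hN : Odd N) {B : (Fin N → F) →ₗ[F] (Fin N → F) →ₗ[F] F} (g : isomGroup B) :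
    detHom B (negIsom B * g) = -detHom B g := by
  rw [map_mul]
  show LinearMap.det ((LinearEquiv.neg F : (Fin N → F) ≃ₗ[F] (Fin N → F)) : (Fin N → F) →ₗ[F] (Fin N → F)) * _ = _
  rw [show ((LinearEquiv.neg F : (Fin N → F) ≃ₗ[F] (Fin N → F)) : (Fin N → F) →ₗ[F] (Fin N → F)) =
    (-1 : F) • LinearMap.id from LinearMap.ext fun v => by simp]
  rw [LinearMap.det_smul, LinearMap.det_id, mul_one, Module.finrank_fin_fun, hN.neg_one_pow, neg_one_mul]

theorem det_sq_eq_one {N : ℕ} {B : (Fin N → F) →ₗ[F] (Fin N → F) →ₗ[F] F} (hB : IsEta B 1)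
    (hN : ∀ v, (∀ u, B u v = 0) → v = 0) (g : isomGroup B) : detHom B g = 1 ∨ detHom B g = -1 := by
  have h := gramDet_scaled (B := B) (B' := B) g.1 LinearMap.id fun v w => by rw [g.2]; rfl
  rw [LinearMap.det_id, one_mul] at h
  exact sq_eq_one_iff.1 ((mul_eq_right₀ (gramDet_ne_zero hB hN)).1 h)

variable [Fintype F] {n : ℕ} {B : (Fin (n + n + 1) → F) →ₗ[F] (Fin (n + n + 1) → F) →ₗ[F] F}

theorem detOne_cover (hB : IsEta B 1) (hN : ∀ v, (∀ u, B u v = 0) → v = 0) (g : isomGroup B) :
    g ∈ detOne B ∨ negIsom B * g ∈ detOne B :=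
  (det_sq_eq_one hB hN g).imp (fun h => h) fun h => by
    show detHom B (negIsom B * g) = 1
    rw [det_negIsom_mul ⟨n, by ring⟩, h, neg_neg]

theorem negIsom_not_mem (h2 : (2 : F) ≠ 0) : negIsom B ∉ detOne B := fun h => by
  have h' : detHom B (negIsom B * 1) = 1 := by rw [mul_one]; exact h
  rw [det_negIsom_mul ⟨n, by ring⟩, map_one] at h'
  exact h2 (by linear_combination -h')

/-- The lower bound. -/
theorem card_classes_odd_ge (h2 : (2 : F) ≠ 0) (hB : IsEta B 1) (hN : ∀ v, (∀ u, B u v = 0) → v = 0) :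
    2 * Fintype.card F ^ n ≤ Nat.card (ConjClasses (isomGroup B)) := by
  classical
  have hex : ∀ P : {P : F[X] // CfsgLib.Involution.SpSemisimple.SelfRec n P},
      ∃ g : isomGroup B, (matOf g).charpoly = (X - C 1) * P.1 := by
    rintro ⟨P, hP⟩
    obtain ⟨a, b, m, R, hR, hR1, hR2, hd, hPR⟩ := exists_core hP h2
    obtain ⟨g, hg⟩ := exists_isometry_of_parts (N := n + n + 1) (a := a + 1) (b := b) h2 hB hN hR hR1 hR2
      (by omega) (Or.inl (by omega))
    refine ⟨g, ?_⟩
    rw [hg]
    show _ = (X - C 1) * P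
    rw [hPR]
    ring
  choose g hg using hex
  have hdet : ∀ P, detHom B (g P) = 1 := fun P => by
    show LinearMap.det ((g P).1 : (Fin (n + n + 1) → F) →ₗ[F] (Fin (n + n + 1) → F)) = 1
    rw [← LinearMap.det_toMatrix', show LinearMap.toMatrix' _ = matOf (g P) from rfl,
      Matrix.det_eq_sign_charpoly_coeff, hg, mul_coeff_zero, P.2.2.2.1, Fintype.card_fin,
      Odd.neg_one_pow ⟨n, by ring⟩, coeff_sub, coeff_X_zero, coeff_C_zero]
    ring
  haveI : Finite (isomGroup B) := Finite.of_injective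
    (fun g => (g.1 : (Fin (n + n + 1) → F) → (Fin (n + n + 1) → F))) fun a b h => Subtype.ext (LinearEquiv.ext (congrFun h))
  haveI : Finite (ConjClasses (isomGroup B)) := Finite.of_surjective _ ConjClasses.mk_surjective
  haveI : Finite {P : F[X] // CfsgLib.Involution.SpSemisimple.SelfRec n P} :=
    Nat.finite_of_card_ne_zero (by rw [CfsgLib.Involution.SpSemisimple.card_selfRec]; exact pow_ne_zero _ Fintype.card_ne_zero)
  let f : {P : F[X] // CfsgLib.Involution.SpSemisimple.SelfRec n P} × Bool → ConjClasses (isomGroup B) := fun p =>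
    ConjClasses.mk (cond p.2 (negIsom B * g p.1) (g p.1))
  have hf : Function.Injective f := by
    rintro ⟨P, b⟩ ⟨Q, b'⟩ h
    obtain ⟨c, hc⟩ := isConj_iff.1 (ConjClasses.mk_eq_mk_iff_isConj.1 h)
    have hd := congrArg (detHom B) hc
    rw [map_mul, map_mul] at hd
    have hcd : detHom B c * detHom B c⁻¹ = 1 := by rw [← map_mul, mul_inv_cancel, map_one]
    have hb : b = b' := by
      cases b <;> cases b' <;> simp only [cond_true, cond_false, det_negIsom_mul (show Odd (n + n + 1) from ⟨n, by ring⟩), hdet] at hd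
      · rfl
      · exact absurd (show (2 : F) = 0 by linear_combination hd - hcd) h2
      · exact absurd (show (2 : F) = 0 by linear_combination -hd - hcd) h2
      · rfl
    subst hb
    refine Prod.ext (Subtype.ext ?_) rfl
    have hc' : c * g P * c⁻¹ = g Q := by
      cases b
      · exact hc
      · simp only [cond_true] at hc
        refine mul_left_cancel (a := negIsom B) (Eq.trans ?_ hc)
        rw [← mul_assoc, ← mul_assoc, negIsom_comm B c, mul_assoc c]
    refine mul_left_cancel₀ (X_sub_C_ne_zero (1 : F)) ?_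
    rw [← hg, ← hg, ← hc']
    have hm : ∀ a b : isomGroup B, matOf (a * b) = matOf a * matOf b := fun a b => LinearMap.toMatrix'_comp _ _
    have h3 : matOf c⁻¹ * matOf c = 1 := by rw [← hm, inv_mul_cancel]; exact LinearMap.toMatrix'_id
    rw [hm, hm, Matrix.charpoly_mul_comm (matOf c * matOf (g P)), ← Matrix.mul_assoc, h3, Matrix.one_mul]
  have := Nat.card_le_card_of_injective f hf
  rw [Nat.card_prod, CfsgLib.Involution.SpSemisimple.card_selfRec, Nat.card_eq_fintype_card (α := Bool),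
    Fintype.card_bool] at this
  omega

open _root_.Classical in
/-- The upper bound for the orthogonal group. -/
theorem card_classes_odd_le (h2 : (2 : F) ≠ 0) (hq : 3 ≤ Fintype.card F) (hB : IsEta B 1)
    (hN : ∀ v, (∀ u, B u v = 0) → v = 0) :
    (2 * Nat.card (ConjClasses (isomGroup B)) : ℚ) ≤ 9 / 5 * (25 / 29) * 19 * (Fintype.card F : ℚ) ^ n + 1 := by
  set q := Fintype.card F with hqdef
  have hK : ∀ k, (cntP q (n + n + 1) k : ℚ) ≤ 9 / 5 * (q : ℚ) ^ k := fun k => by
    refine (cntP_le (by omega) (n + n) k).trans (mul_le_mul_of_nonneg_right (cK_le_const (by positivity) ?_ _)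
      (by positivity))
    rw [one_div]
    exact inv_anti₀ (by norm_num) (by exact_mod_cast hq)
  have h := two_mul_classes_le' h2 hB hN (T := Unit) (fun _ => ()) fun z z' hz _ _ => by
    exfalso
    have hU : IsUTuple z.1.1 := by
      refine ⟨z.2.1, z.2.2.1, fun s i => ⟨z.2.2.2.1 s i, fun hs => ?_⟩⟩
      by_contra hlt
      exact hz (s, i) ⟨hs, by show 0 < (z.1.1 i).rootMultiplicity (sgn F s); omega⟩
    have h0 : (∑ i : Fin (n + n + 1), if Single (1 : F) ((i : ℕ) + 1) then ((i : ℕ) + 1) *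
        ((z.1.1 i).rootMultiplicity (sgn F true) + (z.1.1 i).rootMultiplicity (sgn F false)) else 0) = 0 := by
      refine Finset.sum_eq_zero fun i _ => ?_
      split_ifs with hs
      · have ht : ∀ s, (z.1.1 i).rootMultiplicity (sgn F s) = 0 := fun s =>
          Nat.eq_zero_of_not_pos fun hp => hz (s, i) ⟨hs, hp⟩
        rw [ht, ht, add_zero, mul_zero]
      · rfl
    have hodd := odd_support h2 ⟨n, by ring⟩ hU
    rw [Nat.odd_iff] at hodd
    omega
  rw [Nat.card_eq_fintype_card (α := Unit), Fintype.card_unit] at h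
  refine (show (2 * Nat.card (ConjClasses (isomGroup B)) : ℚ) ≤
    (Nat.card {z : (Fin (n + n + 1) → F[X]) × (Bool → Fin (n + n + 1) → Bool) // IsLabel (1 : F) z} : ℚ) + 1 by
      exact_mod_cast h).trans (add_le_add ?_ le_rfl)
  refine (Nat.cast_le.2 (card_label_le h2).2).trans ?_
  refine (sum_odd_weight_le hq n 4 (by norm_num) (by norm_num : (0 : ℚ) ≤ 9 / 5) (cntP q (n + n + 1)) hK _
    fun S hS => ?_).trans ?_
  · obtain ⟨hle, hev, hsingle⟩ := (Finset.mem_filter.1 hS).2
    refine ⟨hle, ?_, fun i l hl => Nat.even_iff.1 ((single_one_iff h2 _).1 (hsingle i l hl))⟩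
    obtain ⟨t, ht⟩ := hev
    show Odd (wtS S)
    rw [Nat.odd_iff]
    omega
  · have hp := prod_odd_le (n + 1)
    have : (0 : ℚ) ≤ 9 / 5 * (q : ℚ) ^ n * (25 / 29) := by positivity
    refine (mul_le_mul_of_nonneg_left hp this).trans (le_of_eq ?_)
    ring

open _root_.Classical in
/-- The number of split classes. -/
theorem card_split_le (h2 : (2 : F) ≠ 0) (hq : 3 ≤ Fintype.card F) (hB : IsEta B 1)
    (hN : ∀ v, (∀ u, B u v = 0) → v = 0) :
    (Nat.card {C : ConjClasses (isomGroup B) //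
        ∃ y, ConjClasses.mk y = C ∧ SplitIn (detOne B) (commutator (isomGroup B)) y} : ℚ) ≤
      6 / 5 * (25 / 29) * (109 / 25) * (Fintype.card F : ℚ) ^ n := by
  obtain ⟨f, hf⟩ := exists_split_injection h2 hB hN ⟨n, by ring⟩
  haveI := (card_uTuple_le (F := F) h2 n).1
  refine (Nat.cast_le.2 ((Nat.card_le_card_of_injective f hf).trans (card_uTuple_le (F := F) h2 n).2)).trans ?_
  refine (sum_odd_weight_le hq n 2 (by norm_num) (by norm_num : (0 : ℚ) ≤ 6 / 5) _
    (cnt0_bound hq (n + n)) _ fun S hS => (Finset.mem_filter.1 hS).2).trans ?_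
  have : (0 : ℚ) ≤ 6 / 5 * (Fintype.card F : ℚ) ^ n * (25 / 29) := by positivity
  refine (mul_le_mul_of_nonneg_left (prod_odd_sq_le (n + 1)) this).trans (le_of_eq ?_)
  ring

theorem commutator_bounds (h2 : (2 : F) ≠ 0) (hq : 3 ≤ Fintype.card F) (hB : IsEta B 1)
    (hN : ∀ v, (∀ u, B u v = 0) → v = 0) :
    Fintype.card F ^ n ≤ 2 * Nat.card (ConjClasses ↥(commutator (isomGroup B))) ∧
      10 * Nat.card (ConjClasses ↥(commutator (isomGroup B))) ≤ 73 * Fintype.card F ^ n := by
  haveI : Finite (isomGroup B) := Finite.of_injective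
    (fun g => (g.1 : (Fin (n + n + 1) → F) → (Fin (n + n + 1) → F))) fun a b h => Subtype.ext (LinearEquiv.ext (congrFun h))
  obtain ⟨hup, hlow⟩ := index_four_bounds (detOne B) (commutator (isomGroup B)) (negIsom_comm B) (negIsom_mul_self B)
    (negIsom_not_mem h2) (detOne_cover hB hN) (commutator_le_detOne h2 hB hN) (mul_mem_of_not_mem h2 hB hN)
  have hge := card_classes_odd_ge h2 hB hN
  have hle := card_classes_odd_le h2 hq hB hN
  have hsp := card_split_le h2 hq hB hN
  refine ⟨by omega, ?_⟩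
  set kO := Nat.card (ConjClasses (isomGroup B))
  set kH := Nat.card (ConjClasses ↥(commutator (isomGroup B)))
  set s := Nat.card {C : ConjClasses (isomGroup B) //
    ∃ y, ConjClasses.mk y = C ∧ SplitIn (detOne B) (commutator (isomGroup B)) y}
  have hcast : ((10 * kH : ℕ) : ℚ) ≤ ((73 * Fintype.card F ^ n : ℕ) : ℚ) := by
    have h1 : (4 * kH : ℚ) ≤ kO + 3 * s := by exact_mod_cast hup
    have h3 : (1 : ℚ) ≤ (Fintype.card F : ℚ) ^ n := one_le_pow₀ (by exact_mod_cast (by omega : 1 ≤ Fintype.card F))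
    push_cast
    linarith
  exact_mod_cast hcast

/-- The bounds for the standard odd form. -/
theorem omega_odd_bounds (hodd : Odd (Fintype.card F)) (n : ℕ) :
    Fintype.card F ^ n ≤ 2 * Nat.card (ConjClasses ↥(Cfsg.Omega F (Cfsg.quadFormOdd n F))) ∧
      10 * Nat.card (ConjClasses ↥(Cfsg.Omega F (Cfsg.quadFormOdd n F))) ≤ 73 * Fintype.card F ^ n := by
  have h2 := two_ne_zero_of_odd hodd
  have hq : 3 ≤ Fintype.card F := by
    have h1 : 1 < Fintype.card F := Fintype.one_lt_card
    obtain ⟨r, hr⟩ := hodd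
    omega
  obtain ⟨B, hB, hN, ⟨e⟩⟩ := exists_std h2 (oddForm F n) (oddForm_apply n) (oddForm_nondeg n h2)
    (N := n + n + 1) (by simp; omega)
  have he : commutator ↥(Cfsg.isometryGroup F (Cfsg.quadFormOdd n F)) =
      (commutator (isomGroup B)).comap e.toMonoidHom := by
    ext g
    exact mem_commutator_congr e g
  have e' : ↥(Cfsg.Omega F (Cfsg.quadFormOdd n F)) ≃* ↥(commutator (isomGroup B)) :=
    { toFun := fun g => ⟨e g.1, (mem_commutator_congr e g.1).1 g.2⟩
      invFun := fun g => ⟨e.symm g.1, (mem_commutator_congr e _).2 (by rw [e.apply_symm_apply]; exact g.2)⟩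
      left_inv := fun g => Subtype.ext (e.symm_apply_apply _)
      right_inv := fun g => Subtype.ext (e.apply_symm_apply _)
      map_mul' := fun g h => Subtype.ext (map_mul e _ _) }
  rw [card_conjClasses_congr e']
  exact commutator_bounds h2 hq hB hN

end CfsgLib.ClassNumberForm
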