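import Cfsg.Agent.Lib.KnownA.ClassNumberForm.Eigen
import Cfsg.Agent.Lib.Orth.Spinor

/-!
# Negations of pieces

The negation of the span of a cyclic piece of odd size commutes with the isometry and is a product of an odd number
of reflections; the product of their values is half the top value of the piece, up to squares.
-/

set_option autoImplicit false
set_option linter.unusedSectionVars false

namespace CfsgLib.ClassNumberForm

open Module CfsgLib.Classical CfsgLib.Orth

variable {F : Type*} [Field F] [Fintype F] {V : Type*} [AddCommGroup V] [Module F V] [FiniteDimensional F V]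
  {B : V →ₗ[F] V →ₗ[F] F} {η ν : F}

/-- An endomorphism preserving an eigenspace that commutes with the difference commutes with the isometry. -/
theorem commute_of_diff {y : V ≃ₗ[F] V} (D : IsoData B η ν y) {c : F} (hc : c = 1 ∨ c = -1) (g : V ≃ₗ[F] V)
    (hgg : ∀ v, g (g v) = v) (hgn : ∀ v, g (diffInv y v) = diffInv y (g v)) (hge : ∀ v ∈ eig y c, g v ∈ eig y c)
    (hfix : ∀ v, (∀ w ∈ eig y c, B w v = 0) → g v = v) (v : V) : g (y v) = y (g v) := by
  classical
  let T : Module.End F (eig y c) := g.toLinearMap.restrict hge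
  let X : Module.End F (eig y c) := y.toLinearMap.restrict fun w hw =>
    map_mem_eig y c ((Commute.refl _).sub_right ((Commute.one_right _).smul_right c)) hw
  let Xi : Module.End F (eig y c) := y.symm.toLinearMap.restrict fun w hw =>
    map_mem_eig y c (commute_symm_shiftBy y c) hw
  have hT : T * T = 1 := LinearMap.ext fun w => Subtype.ext (hgg _)
  have k1 : X * Xi = 1 := LinearMap.ext fun w => Subtype.ext (y.apply_symm_apply _)
  have k1' : Xi * X = 1 := LinearMap.ext fun w => Subtype.ext (y.symm_apply_apply _)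
  have k2 : T * Xi * T * (T * X * T) = 1 := by
    rw [show T * Xi * T * (T * X * T) = T * (Xi * (T * T) * X) * T by noncomm_ring, hT, mul_one, k1', mul_one, hT]
  have k3 : X - Xi = T * X * T - T * Xi * T := by
    refine LinearMap.ext fun w => Subtype.ext ?_
    show y (w : V) - y.symm (w : V) = g (y (g w)) - g (y.symm (g w))
    rw [← map_sub]
    show diffInv y (w : V) = g (diffInv y (g (w : V)))
    rw [hgn, hgg]
  have hnil : IsNilpotent (X - algebraMap F _ c) := by
    refine ⟨finrank F V, LinearMap.ext fun w => Subtype.ext ?_⟩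
    have hk : ∀ m, (((X - algebraMap F _ c) ^ m) w : V) = (shiftBy y c ^ m) (w : V) := by
      intro m
      induction m with
      | zero => simp
      | succ m ih =>
        rw [pow_succ', pow_succ', Module.End.mul_apply, Module.End.mul_apply, LinearMap.sub_apply,
          Module.algebraMap_end_apply, Submodule.coe_sub, Submodule.coe_smul, shiftBy_apply, ← ih]
        rfl
    rw [hk]
    exact w.2
  have hnil' : IsNilpotent (T * X * T - algebraMap F _ c) := by
    obtain ⟨m, hm⟩ := hnil
    refine ⟨m, ?_⟩
    have e : T * X * T - algebraMap F _ c = T * (X - algebraMap F _ c) * T := by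
      rw [mul_sub, sub_mul, ← Algebra.commutes, mul_assoc (algebraMap F (Module.End F (eig y c)) c), hT, mul_one]
    have hp : ∀ k, (T * (X - algebraMap F _ c) * T) ^ k = T * (X - algebraMap F _ c) ^ k * T := by
      intro k
      induction k with
      | zero => rw [pow_zero, pow_zero, mul_one, hT]
      | succ k ih =>
        rw [pow_succ, ih, show T * (X - algebraMap F _ c) ^ k * T * (T * (X - algebraMap F _ c) * T) =
          T * ((X - algebraMap F _ c) ^ k * (T * T) * (X - algebraMap F _ c)) * T by noncomm_ring, hT, mul_one,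
          ← pow_succ]
    rw [e, hp, hm, mul_zero, zero_mul]
  have hXX : X = T * X * T := eq_of_diff D.two (sq_of_sign hc) k1 k2 k3 hnil hnil'
  have hon : ∀ a ∈ eig y c, g (y a) = y (g a) := by
    intro a ha
    have h := congrArg (fun Z : Module.End F (eig y c) => ((Z * T) ⟨a, ha⟩ : V)) hXX
    simp only [mul_assoc, hT, mul_one] at h
    exact h.symm
  have hoff : ∀ w, (∀ a ∈ eig y c, B a w = 0) → g (y w) = y (g w) := by
    intro w hw
    rw [hfix w hw, hfix]
    intro a ha
    have hy : y.symm a ∈ eig y c := map_mem_eig y c (commute_symm_shiftBy y c) ha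
    rw [← y.apply_symm_apply a, D.iso]
    exact hw _ hy
  obtain ⟨ab, hab, r, hr, rfl⟩ := Submodule.mem_sup.1 ((sup_eq_top y D.two).symm ▸ Submodule.mem_top (x := v))
  obtain ⟨a, ha, b, hb, rfl⟩ := Submodule.mem_sup.1 hab
  have hR : g (y r) = y (g r) := hoff r fun u hu => by
    rw [D.form r u, orth_reg D.iso (sq_of_sign hc) hu hr, mul_zero]
  rcases hc with rfl | rfl
  · simp only [map_add, hon a ha, hR,
      hoff b fun u hu => orth_eig D.iso D.two (Or.inl rfl) hu hb]
  · simp only [map_add, hon b hb, hR,
      hoff a fun u hu => orth_eig D.iso D.two (Or.inr rfl) hu (by rwa [neg_neg])]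

/-- The negation of a piece. -/
theorem exists_piece {Q : QuadraticForm F V} (hQ : ∀ u v, QuadraticMap.polar Q u v = B u v) {y : V ≃ₗ[F] V}
    (D : IsoData B η ν y) {c : F} (hc : c = 1 ∨ c = -1) {r : ℕ} {u : V} (hu : u ∈ eig y c) {δ : F} (hδ : δ ≠ 0)
    (htop : B u ((diffInv y ^ (2 * r)) u) = δ) (hlow : ∀ a, a ≠ 2 * r → B u ((diffInv y ^ a) u) = 0)
    (hnil : (diffInv y ^ (2 * r + 1)) u = 0) :
    ∃ L : List V, (∀ a ∈ L, Q a ≠ 0) ∧ Odd L.length ∧ (L.map (fun a => Q a)).prod = δ / 2 ∧
      ∀ v, (L.map (refl Q)).prod.1 (y v) = y ((L.map (refl Q)).prod.1 v) := by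
  classical
  set n := diffInv y with hn
  have hskew : IsSkew B n := isSkew_diffInv D.iso
  let w : ℕ → V := fun a => (n ^ a) u
  have hgram : ∀ a b, B (w a) (w b) = (-1) ^ a * if a + b = 2 * r then δ else 0 := by
    intro a b
    simp only [w]
    rw [hskew.pow_left, ← Module.End.mul_apply, ← pow_add]
    split_ifs with h
    · rw [h, htop]
    · rw [hlow _ h]
  have hwe : ∀ a ≥ 2 * r + 1, w a = 0 := fun a ha => by
    obtain ⟨t, rfl⟩ : ∃ t, a = t + (2 * r + 1) := ⟨a - (2 * r + 1), by omega⟩
    simp only [w]
    rw [pow_add, Module.End.mul_apply, hnil, map_zero]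
  have hnw : ∀ a, n (w a) = w (a + 1) := fun a => by simp only [w]; rw [pow_succ', Module.End.mul_apply]
  have hwm : ∀ a, w a ∈ eig y c := by
    intro a
    induction a with
    | zero => simpa [w] using hu
    | succ a ih => rw [← hnw]; exact diffInv_mem_eig y c _ ih
  have hpol : ∀ a b, QuadraticMap.polar Q (w a) (w b) = (-1) ^ a * if a + b = 2 * r then δ else 0 := fun a b => by
    rw [hQ, hgram]
  have hQw : ∀ a, Q (w a) = (-1) ^ a * (if a + a = 2 * r then δ else 0) / 2 := fun a => by
    rw [← hpol, polar_self', mul_div_cancel_left₀ _ D.two]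
  have hQ0 : ∀ a, a ≠ r → Q (w a) = 0 := fun a ha => by
    rw [hQw, if_neg (by omega), mul_zero, zero_div]
  have hQr : Q (w r) = (-1) ^ r * δ / 2 := by rw [hQw, if_pos (two_mul r).symm]
  let k : Fin r → F := fun j => ((-1) ^ (j : ℕ) * δ)⁻¹
  obtain ⟨L, hL, hlen, hprod, hneg, hfix⟩ := exists_negPairs (Q := Q) (fun j : Fin r => w j)
    (fun j => k j • w (2 * r - j)) (fun j => hQ0 _ (by omega))
    (fun j => by rw [quad_smul', hQ0 _ (by omega), mul_zero])
    (fun a b => by
      rw [polar_smul_r', hpol]
      split_ifs with h1 h2 h2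
      · subst h2
        exact inv_mul_cancel₀ (mul_ne_zero (pow_ne_zero _ (neg_ne_zero.2 one_ne_zero)) hδ)
      · exact absurd (Fin.ext (by omega)) h2
      · exact absurd (by subst h2; omega) h1
      · rw [mul_zero, mul_zero])
    (fun a b _ => by rw [hpol, if_neg (by omega), mul_zero])
    (fun a b _ => by rw [polar_smul_r', polar_smul_l', hpol, if_neg (by omega), mul_zero, mul_zero, mul_zero])
  have hr0 : Q (w r) ≠ 0 := by
    rw [hQr]
    exact div_ne_zero (mul_ne_zero (pow_ne_zero _ (neg_ne_zero.2 one_ne_zero)) hδ) D.two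
  set g := ((w r :: L).map (refl Q)).prod with hg
  have hgapp : ∀ v, g.1 v = (refl Q (w r)).1 ((L.map (refl Q)).prod.1 v) := fun v => by
    rw [hg, List.map_cons, List.prod_cons]
    rfl
  have hgfix : ∀ v, (∀ a, B (w a) v = 0) → g.1 v = v := by
    intro v hv
    rw [hgapp, hfix v fun j => ⟨by rw [hQ, hv], by rw [polar_smul_l', hQ, hv, mul_zero]⟩,
      refl_fix Q (by rw [hQ, hv])]
  have hgneg : ∀ a, g.1 (w a) = -w a := by
    intro a
    rcases le_or_gt (2 * r + 1) a with ha | ha
    · rw [hwe a ha, map_zero, neg_zero]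
    rw [hgapp]
    rcases lt_trichotomy a r with h | h | h
    · have h' := (hneg ⟨a, h⟩).1
      simp only at h'
      rw [h', map_neg, refl_fix Q (by rw [hpol, if_neg (by omega), mul_zero])]
    · subst h
      rw [hfix _ fun j => ⟨by rw [hpol, if_neg (by omega), mul_zero],
        by rw [polar_smul_l', hpol, if_neg (by omega), mul_zero, mul_zero]⟩, refl_self Q hr0]
    · have h' := (hneg ⟨2 * r - a, by omega⟩).2
      simp only [show 2 * r - (2 * r - a) = a by omega] at h'
      have hk : k ⟨2 * r - a, by omega⟩ ≠ 0 :=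
        inv_ne_zero (mul_ne_zero (pow_ne_zero _ (neg_ne_zero.2 one_ne_zero)) hδ)
      rw [map_smul, ← smul_neg] at h'
      rw [smul_right_injective V hk h', map_neg, refl_fix Q (by rw [hpol, if_neg (by omega), mul_zero])]
  let coef : V → ℕ → F := fun v a => B (w (2 * r - a)) v / ((-1) ^ (2 * r - a) * δ)
  have hrest : ∀ v b, B (w b) (v - ∑ a ∈ Finset.range (2 * r + 1), coef v a • w a) = 0 := by
    intro v b
    rcases le_or_gt (2 * r + 1) b with hb | hb
    · simp [hwe b hb]
    simp only [map_sub, map_sum, map_smul, smul_eq_mul, hgram]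
    rw [Finset.sum_eq_single (2 * r - b) (fun a _ ha => by rw [if_neg (by omega), mul_zero, mul_zero])
      (fun h => absurd (Finset.mem_range.2 (by omega)) h), if_pos (by omega)]
    simp only [coef, show 2 * r - (2 * r - b) = b by omega]
    rw [div_mul_cancel₀ _ (mul_ne_zero (pow_ne_zero _ (neg_ne_zero.2 one_ne_zero)) hδ), sub_self]
  let S : V → V := fun v => ∑ a ∈ Finset.range (2 * r + 1), coef v a • w a
  have hform : ∀ v, g.1 v = v - S v - S v := by
    intro v
    have h1 : g.1 (v - S v) = v - S v := hgfix _ (hrest v)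
    have h2 : g.1 (S v) = -S v := by
      simp only [S, map_sum, map_smul, hgneg, smul_neg, Finset.sum_neg_distrib]
    conv_lhs => rw [← sub_add_cancel v (S v), map_add, h1, h2]
    abel
  have hgg : ∀ v, g.1 (g.1 v) = v := by
    intro v
    have h1 : g.1 (v - S v) = v - S v := hgfix _ (hrest v)
    have h2 : g.1 (S v) = -S v := by
      simp only [S, map_sum, map_smul, hgneg, smul_neg, Finset.sum_neg_distrib]
    rw [hform v, map_sub, h1, h2]
    abel
  have hgn : ∀ v, g.1 (n v) = n (g.1 v) := by
    intro v
    have h1 : g.1 (n (v - S v)) = n (v - S v) := hgfix _ fun b => by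
      have h := hskew (w b) (v - S v)
      rw [hnw, hrest v (b + 1)] at h
      exact neg_eq_zero.1 h.symm
    have h2 : g.1 (n (S v)) = -n (S v) := by
      simp only [S, map_sum, map_smul, hnw, hgneg, smul_neg, Finset.sum_neg_distrib]
    rw [hform v]
    conv_lhs => rw [← sub_add_cancel v (S v), map_add, map_add, h1, h2]
    simp only [map_sub]
    abel
  refine ⟨w r :: L, fun a ha => ?_, ?_, ?_, fun v => ?_⟩
  · rcases List.mem_cons.1 ha with rfl | ha
    · exact hr0
    · exact hL a ha
  · rw [List.length_cons, hlen]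
    exact odd_two_mul_add_one r
  · rw [List.map_cons, List.prod_cons, hprod, hQr, div_mul_eq_mul_div, mul_right_comm, ← pow_add,
      ← two_mul, pow_mul, neg_one_sq, one_pow, one_mul]
  · refine commute_of_diff D hc g.1 hgg hgn (fun v hv => ?_) (fun v hv => ?_) v
    · rw [hform]
      have hS : S v ∈ eig y c := Submodule.sum_mem _ fun a _ => Submodule.smul_mem _ _ (hwm a)
      exact sub_mem (sub_mem hv hS) hS
    · exact hgfix v fun a => hv _ (hwm a)

end CfsgLib.ClassNumberForm
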