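import Cfsg.Agent.Lib.KnownA.ClassNumberForm.OddPiece
import Cfsg.Agent.Lib.KnownA.ClassNumberForm.IndexFour
import Cfsg.Agent.Lib.KnownA.ClassNumberForm.Disc
import Cfsg.Agent.Lib.KnownA.ClassNumberForm.OrthUpper
import Cfsg.Agent.Lib.Orth.Standard

/-!
# Split classes of an odd dimensional orthogonal group

If the centraliser of an isometry meets the special orthogonal group inside the commutator subgroup, then the pieces
of odd size all have the same square class and are simple; the class is then determined by its tuple.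
-/

set_option autoImplicit false
set_option linter.unusedSectionVars false

namespace CfsgLib.ClassNumberForm

open Polynomial Module CfsgLib.Classical CfsgLib.Orth

attribute [local instance] Fam.fι

variable {F : Type*} [Field F] {N : ℕ} {B : (Fin N → F) →ₗ[F] (Fin N → F) →ₗ[F] F} {ν : F}

/-- The quadratic form of a symmetric form. -/
noncomputable def halfForm (B : (Fin N → F) →ₗ[F] (Fin N → F) →ₗ[F] F) : QuadraticForm F (Fin N → F) :=
  LinearMap.BilinMap.toQuadraticMap ((2 : F)⁻¹ • B)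

theorem polar_halfForm (h2 : (2 : F) ≠ 0) (hB : IsEta B 1) (u v : Fin N → F) :
    QuadraticMap.polar (halfForm B) u v = B u v := by
  simp only [QuadraticMap.polar, halfForm, LinearMap.BilinMap.toQuadraticMap_apply, LinearMap.smul_apply, map_add,
    LinearMap.add_apply, smul_eq_mul, hB u v]
  field_simp
  ring

theorem halfForm_nondeg (h2 : (2 : F) ≠ 0) (hB : IsEta B 1) (hN : ∀ v, (∀ u, B u v = 0) → v = 0) :
    (QuadraticMap.polarBilin (halfForm B)).Nondegenerate :=
  nondegenerate_of_left fun v hv => hN v fun u => by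
    rw [← polar_halfForm h2 hB, QuadraticMap.polar_comm]
    exact hv u

theorem isom_eq_orth (h2 : (2 : F) ≠ 0) (hB : IsEta B 1) : isomGroup B = orthGroup (halfForm B) := by
  ext g
  constructor
  · intro hg v
    simp only [halfForm, LinearMap.BilinMap.toQuadraticMap_apply, LinearMap.smul_apply]
    rw [hg v v]
  · intro hg u v
    rw [← polar_halfForm h2 hB, ← polar_halfForm h2 hB]
    simp only [QuadraticMap.polar, ← map_add]
    rw [hg, hg, hg]

/-- The isometry group as an orthogonal group. -/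
noncomputable def toHalf (h2 : (2 : F) ≠ 0) (hB : IsEta B 1) : isomGroup B ≃* orthGroup (halfForm B) :=
  MulEquiv.subgroupCongr (isom_eq_orth h2 hB)

theorem mem_commutator_congr {G H : Type*} [Group G] [Group H] (e : G ≃* H) (g : G) :
    g ∈ commutator G ↔ e g ∈ commutator H := by
  rw [← Abelianization.ker_of, MonoidHom.mem_ker, ← Abelianization.ker_of, MonoidHom.mem_ker]
  constructor
  · intro h
    have := congrArg (Abelianization.map e.toMonoidHom) h
    rwa [Abelianization.map_of, map_one] at this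
  · intro h
    have := congrArg (Abelianization.map e.symm.toMonoidHom) h
    rw [Abelianization.map_of, map_one] at this
    simpa using this

/-- The determinant on the isometry group. -/
noncomputable def detHom (B : (Fin N → F) →ₗ[F] (Fin N → F) →ₗ[F] F) : isomGroup B →* F where
  toFun g := LinearMap.det (g.1 : (Fin N → F) →ₗ[F] (Fin N → F))
  map_one' := LinearMap.det_id
  map_mul' x y := map_mul LinearMap.det (x.1 : (Fin N → F) →ₗ[F] (Fin N → F)) (y.1 : (Fin N → F) →ₗ[F] (Fin N → F))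

/-- The special orthogonal group. -/
noncomputable def detOne (B : (Fin N → F) →ₗ[F] (Fin N → F) →ₗ[F] F) : Subgroup (isomGroup B) := (detHom B).ker

theorem mem_detOne (g : isomGroup B) :
    g ∈ detOne B ↔ LinearMap.det (g.1 : (Fin N → F) →ₗ[F] (Fin N → F)) = 1 := Iff.rfl

variable [Fintype F]

theorem commutator_le_detOne (h2 : (2 : F) ≠ 0) (hB : IsEta B 1) (hN : ∀ v, (∀ u, B u v = 0) → v = 0) :
    commutator (isomGroup B) ≤ detOne B := fun g hg =>
  (mem_detOne g).2 ((mem_commutator_odd (halfForm_nondeg h2 hB hN) h2 (toHalf h2 hB g)).1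
    ((mem_commutator_congr (toHalf h2 hB) g).1 hg)).1

theorem mul_mem_of_not_mem (h2 : (2 : F) ≠ 0) (hB : IsEta B 1) (hN : ∀ v, (∀ u, B u v = 0) → v = 0) :
    ∀ x ∈ detOne B, ∀ y ∈ detOne B, x ∉ commutator (isomGroup B) → y ∉ commutator (isomGroup B) →
      x * y ∈ commutator (isomGroup B) := by
  classical
  intro x hx y hy hx' hy'
  rw [mem_commutator_congr (toHalf h2 hB), mem_commutator_odd (halfForm_nondeg h2 hB hN) h2] at hx' hy' ⊢
  have hs : ∀ g, ¬(LinearMap.det ((toHalf h2 hB g).1 : (Fin N → F) →ₗ[F] (Fin N → F)) = 1 ∧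
      levelSign (halfForm B) 1 (toHalf h2 hB g) = 1) → g ∈ detOne B →
      levelSign (halfForm B) 1 (toHalf h2 hB g) = -1 := fun g h hg =>
    (Int.units_eq_one_or _).resolve_left fun h' => h ⟨hg, h'⟩
  refine ⟨(mem_detOne (x * y)).1 (mul_mem hx hy), ?_⟩
  rw [map_mul, map_mul, hs x hx' hx, hs y hy' hy]
  rfl

/-- The top value of a piece of odd size. -/
def IsPiece (y : (Fin N → F) ≃ₗ[F] (Fin N → F)) (B : (Fin N → F) →ₗ[F] (Fin N → F) →ₗ[F] F) (δ : F) : Prop :=
  ∃ (c : F) (r : ℕ) (u : Fin N → F), (c = 1 ∨ c = -1) ∧ u ∈ eig y c ∧ δ ≠ 0 ∧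
    B u ((diffInv y ^ (2 * r)) u) = δ ∧ (∀ a, a ≠ 2 * r → B u ((diffInv y ^ a) u) = 0) ∧
    (diffInv y ^ (2 * r + 1)) u = 0

theorem piece_sq (h2 : (2 : F) ≠ 0) (hB : IsEta B 1) (hN : ∀ v, (∀ u, B u v = 0) → v = 0) {y : isomGroup B}
    (D : IsoData B 1 ν y.1) (hy : SplitIn (detOne B) (commutator (isomGroup B)) y) {δ δ' : F}
    (p : IsPiece y.1 B δ) (p' : IsPiece y.1 B δ') : IsSquare (δ * δ') := by
  obtain ⟨c, r, u, hc, hu, hδ, htop, hlow, hnil⟩ := p
  obtain ⟨c', r', u', hc', hu', hδ', htop', hlow', hnil'⟩ := p'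
  obtain ⟨L, hL, hodd, hprod, hcomm⟩ := exists_piece (polar_halfForm h2 hB) D hc hu hδ htop hlow hnil
  obtain ⟨L', hL', hodd', hprod', hcomm'⟩ := exists_piece (polar_halfForm h2 hB) D hc' hu' hδ' htop' hlow' hnil'
  have hLL : ∀ a ∈ L ++ L', halfForm B a ≠ 0 := fun a ha => (List.mem_append.1 ha).elim (hL a) (hL' a)
  set P := ((L ++ L').map (refl (halfForm B))).prod with hP
  set g := (toHalf h2 hB).symm P with hg
  have hdet : g ∈ detOne B := by
    show LinearMap.det (P.1 : (Fin N → F) →ₗ[F] (Fin N → F)) = 1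
    rw [hP, det_prod_refl _ hLL, List.length_append, (hodd.add_odd hodd').neg_one_pow]
  have hgy : g * y = y * g := Subtype.ext (LinearEquiv.ext fun v => by
    show P.1 (y.1 v) = y.1 (P.1 v)
    rw [hP, List.map_append, List.prod_append]
    show ((L.map (refl (halfForm B))).prod).1 (((L'.map (refl (halfForm B))).prod).1 (y.1 v)) =
      y.1 (((L.map (refl (halfForm B))).prod).1 (((L'.map (refl (halfForm B))).prod).1 v))
    rw [hcomm', hcomm])
  have hmem := (mem_commutator_congr (toHalf h2 hB) g).1 (hy g hdet hgy)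
  rw [hg, MulEquiv.apply_symm_apply, hP, prod_refl_mem_commutator_iff (halfForm_nondeg h2 hB hN) h2 _ hLL,
    List.map_append, List.prod_append, hprod, hprod'] at hmem
  obtain ⟨t, ht⟩ := hmem.2
  refine ⟨2 * t, ?_⟩
  field_simp at ht
  linear_combination ht

theorem piece_of_single {y : (Fin N → F) ≃ₗ[F] (Fin N → F)} (D : IsoData B 1 ν y) (s : Bool)
    (i : (famOf D (sgn_cases s)).ι) (hs : Single (1 : F) ((famOf D (sgn_cases s)).e i)) :
    IsPiece y B ((famOf D (sgn_cases s)).d i) := by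
  obtain ⟨t, ht⟩ : ∃ t, (famOf D (sgn_cases s)).e i = t + 1 := ⟨(famOf D (sgn_cases s)).e i - 1, by have := (famOf D (sgn_cases s)).pos i; omega⟩
  rw [ht] at hs
  obtain ⟨r, rfl⟩ := (single_one_iff D.two t).1 hs
  have hp : (famOf D (sgn_cases s)).p i = i := ((famOf D (sgn_cases s)).single i (by rw [ht]; exact hs)).1
  refine ⟨_, r, (famOf D (sgn_cases s)).u i, sgn_cases s, (famOf D (sgn_cases s)).mem i, (famOf D (sgn_cases s)).d0 i, ((famOf D (sgn_cases s)).gram i i _).1 hp.symm (by rw [ht]; omega), fun a ha =>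
    ((famOf D (sgn_cases s)).gram i i a).2 fun h => ha (by rw [ht] at h; omega), ?_⟩
  exact (famOf D (sgn_cases s)).pow_eq_zero (isSkew_diffInv D.iso) (diffInv_mem_eig y _) (famOf_spans D _) i (by rw [ht]; omega)

/-- All pieces of odd size have one square class and occur once. -/
def Uniform {y : (Fin N → F) ≃ₗ[F] (Fin N → F)} (D : IsoData B 1 ν y) : Prop :=
  (∀ (s : Bool) (k : ℕ), Single (1 : F) k → (famOf D (sgn_cases s)).mult k ≤ 1) ∧
    ∀ (s s' : Bool) (i : (famOf D (sgn_cases s)).ι) (j : (famOf D (sgn_cases s')).ι),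
      Single (1 : F) ((famOf D (sgn_cases s)).e i) → Single (1 : F) ((famOf D (sgn_cases s')).e j) →
        (famOf D (sgn_cases s)).d i = (famOf D (sgn_cases s')).d j

theorem uniform_of_split (h2 : (2 : F) ≠ 0) (hB : IsEta B 1) (hN : ∀ v, (∀ u, B u v = 0) → v = 0)
    {y : isomGroup B} (D : IsoData B 1 ν y.1) (hy : SplitIn (detOne B) (commutator (isomGroup B)) y) :
    Uniform D := by
  classical
  have hν0 : ν ≠ 0 := fun h => D.nu (h ▸ IsSquare.zero)
  have hsame : ∀ (s s' : Bool) (i : (famOf D (sgn_cases s)).ι) (j : (famOf D (sgn_cases s')).ι),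
      Single (1 : F) ((famOf D (sgn_cases s)).e i) → Single (1 : F) ((famOf D (sgn_cases s')).e j) →
        (famOf D (sgn_cases s)).d i = (famOf D (sgn_cases s')).d j := by
    intro s s' i j hi hj
    have hsq := piece_sq h2 hB hN D hy (piece_of_single D s i hi) (piece_of_single D s' j hj)
    rcases ((famOf D (sgn_cases s)).single i hi).2 with h | h <;>
      rcases ((famOf D (sgn_cases s')).single j hj).2 with h' | h' <;> rw [h, h'] at hsq ⊢
    · exact absurd (by simpa using hsq) D.nu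
    · exact absurd (by simpa using hsq) D.nu
  refine ⟨fun s k hk => ?_, hsame⟩
  let S := famOf D (sgn_cases s)
  rw [Fam.mult, Finite.card_le_one_iff_subsingleton]
  refine ⟨fun ⟨i, hi⟩ ⟨j, hj⟩ => Subtype.ext ?_⟩
  by_contra hne
  change ¬i = j at hne
  have hd := hsame s s i j (show Single (1 : F) (S.e i) by rw [hi]; exact hk)
    (show Single (1 : F) (S.e j) by rw [hj]; exact hk)
  obtain ⟨t, ht⟩ : ∃ t, k = t + 1 := ⟨k - 1, by have := S.pos i; have : S.e i = k := hi; omega⟩
  subst ht
  obtain ⟨r, rfl⟩ := (single_one_iff h2 t).1 hk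
  have hp : ∀ l, S.e l = r + r + 1 → S.p l = l := fun l hl => (S.single l (by rw [hl]; exact hk)).1
  obtain ⟨a, b, hab⟩ := CfsgLib.ClassNumberSU.exists_quad_field (K := F) 0 1 ν (by
    intro h
    exact h2 (mul_self_eq_zero.1 (by linear_combination -h)))
  unfold CfsgLib.ClassNumberSU.quad at hab
  have hcross : ∀ c, B (S.u i) ((diffInv y.1 ^ c) (S.u j)) = 0 ∧ B (S.u j) ((diffInv y.1 ^ c) (S.u i)) = 0 :=
    fun c => ⟨(S.gram i j c).2 fun h => hne (by rw [h.1, hp i hi]),
      (S.gram j i c).2 fun h => hne (by rw [h.1, hp j hj])⟩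
  have hexp : ∀ c, B (a • S.u i + b • S.u j) ((diffInv y.1 ^ c) (a • S.u i + b • S.u j)) =
      a * a * B (S.u i) ((diffInv y.1 ^ c) (S.u i)) + b * b * B (S.u j) ((diffInv y.1 ^ c) (S.u j)) := fun c => by
    simp only [map_add, map_smul, LinearMap.add_apply, LinearMap.smul_apply, smul_eq_mul, (hcross c).1, (hcross c).2]
    ring
  have hnil : ∀ l, S.e l = r + r + 1 → (diffInv y.1 ^ (2 * r + 1)) (S.u l) = 0 := fun l hl =>
    S.pow_eq_zero (isSkew_diffInv D.iso) (diffInv_mem_eig y.1 _) (famOf_spans D _) l (by rw [hl]; omega)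
  have hp' : IsPiece y.1 B (S.d i * ν) := by
    refine ⟨_, r, a • S.u i + b • S.u j, sgn_cases s, add_mem (Submodule.smul_mem _ _ (S.mem i))
      (Submodule.smul_mem _ _ (S.mem j)), mul_ne_zero (S.d0 i) hν0, ?_, fun c hc => ?_, ?_⟩
    · rw [hexp, (S.gram i i _).1 (hp i hi).symm (by rw [hi]; omega),
        (S.gram j j _).1 (hp j hj).symm (by rw [hj]; omega), ← hd]
      linear_combination S.d i * hab
    · rw [hexp, (S.gram i i c).2 fun h => hc (by rw [hi] at h; omega),
        (S.gram j j c).2 fun h => hc (by rw [hj] at h; omega)]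
      ring
    · rw [map_add, map_smul, map_smul, hnil i hi, hnil j hj, smul_zero, smul_zero, add_zero]
  obtain ⟨t, ht⟩ := piece_sq h2 hB hN D hy (piece_of_single D s i (show Single (1 : F) (S.e i) by rw [hi]; exact hk)) hp'
  refine D.nu ⟨t / S.d i, ?_⟩
  have := S.d0 i
  field_simp
  linear_combination ht

/-- Tuples of split classes. -/
def IsUTuple (b : Fin N → F[X]) : Prop :=
  (∀ i, Good1 (b i)) ∧ ∑ i : Fin N, ((i : ℕ) + 1) * (b i).natDegree = N ∧
    ∀ s (i : Fin N), (¬Single (1 : F) ((i : ℕ) + 1) → Even ((b i).rootMultiplicity (sgn F s))) ∧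
      (Single (1 : F) ((i : ℕ) + 1) → (b i).rootMultiplicity (sgn F s) ≤ 1)

theorem isUTuple_of_uniform (y : isomGroup B) (D : IsoData B 1 ν y.1) (hU : Uniform D) :
    IsUTuple (tupOf y) := by
  have hl := isLabel_of y D
  refine ⟨hl.1, hl.2.1, fun s i => ⟨hl.2.2.1 s i, fun hs => ?_⟩⟩
  rw [tupOf, rootMultiplicity_tup y D (sgn_cases s)]
  exact hU.1 s _ hs

open _root_.Classical in
/-- The parity of the supported positions. -/
theorem odd_support (h2 : (2 : F) ≠ 0) (hodd : Odd N) {b : Fin N → F[X]} (hb : IsUTuple b) :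
    Odd (∑ i : Fin N, if Single (1 : F) ((i : ℕ) + 1) then
      ((i : ℕ) + 1) * ((b i).rootMultiplicity (sgn F true) + (b i).rootMultiplicity (sgn F false)) else 0) := by
  classical
  obtain ⟨hgood, hsum, hpar⟩ := hb
  have hdeg : ∀ i, ∃ r, (b i).natDegree =
      (b i).rootMultiplicity (sgn F true) + (b i).rootMultiplicity (sgn F false) + (r + r) := fun i => by
    obtain ⟨R, hR, hP⟩ := exists_pal (r₁ := (b i).rootMultiplicity 1) (r₂ := (b i).rootMultiplicity (-1))
      (hgood i) h2 le_rfl (by simp) le_rfl (by simp)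
    obtain ⟨r, hr⟩ := hR.2.2.1
    refine ⟨r, ?_⟩
    show _ = (b i).rootMultiplicity 1 + (b i).rootMultiplicity (-1) + (r + r)
    conv_lhs => rw [hP]
    rw [Monic.natDegree_mul (((monic_X_sub_C _).pow _).mul ((monic_X_sub_C _).pow _)) hR.1,
      Monic.natDegree_mul ((monic_X_sub_C _).pow _) ((monic_X_sub_C _).pow _), natDegree_pow, natDegree_pow,
      natDegree_X_sub_C, natDegree_X_sub_C, mul_one, mul_one, hr]
  choose r hr using hdeg
  have h0 : (∑ i : Fin N, ((i : ℕ) + 1) * (b i).natDegree) % 2 = (∑ i : Fin N, if Single (1 : F) ((i : ℕ) + 1) then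
      ((i : ℕ) + 1) * ((b i).rootMultiplicity (sgn F true) + (b i).rootMultiplicity (sgn F false)) else 0) % 2 := by
    conv_lhs => rw [Finset.sum_nat_mod]
    conv_rhs => rw [Finset.sum_nat_mod]
    refine congrArg (· % 2) (Finset.sum_congr rfl fun i _ => ?_)
    rw [hr i]
    split_ifs with hs
    · rw [Nat.mul_add _ _ (r i + r i), ← two_mul (r i), Nat.mul_left_comm, Nat.add_mul_mod_self_left]
    · rw [single_one_iff h2, Nat.not_even_iff_odd] at hs
      obtain ⟨t, ht⟩ := hs
      rw [ht, show 2 * t + 1 + 1 = 2 * (t + 1) by ring, mul_assoc, Nat.mul_mod_right]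
  rw [hsum] at h0
  rw [Nat.odd_iff] at hodd ⊢
  rw [← h0, hodd]

theorem label_eq_of_uniform (h2 : (2 : F) ≠ 0) (hodd : Odd N) (y y' : isomGroup B) (D : IsoData B 1 ν y.1)
    (E : IsoData B 1 ν y'.1) (hU : Uniform D) (hU' : Uniform E) (ht : tupOf y = tupOf y') :
    bitsOf y D = bitsOf y' E := by
  classical
  obtain ⟨e, he⟩ := exists_similar y y' ht
  have hν : ν ≠ 1 := fun h => D.nu (h ▸ IsSquare.one)
  have hbit : ∀ {x : (Fin N → F) ≃ₗ[F] (Fin N → F)} (G : IsoData B 1 ν x), Uniform G →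
      (∀ s k, (famOf G (sgn_cases s)).Bit k ↔ Single (1 : F) k ∧ 0 < (famOf G (sgn_cases s)).mult k) ∨
      (∀ s k, ¬(famOf G (sgn_cases s)).Bit k) := by
    intro x G hG
    by_cases hex : ∃ s k, (famOf G (sgn_cases s)).Bit k
    · refine Or.inl fun s k => ⟨fun h => ⟨h.1, Fam.mult_pos_of_bit _ h⟩, fun ⟨hs, hm⟩ => ?_⟩
      obtain ⟨s₀, k₀, hs₀, i₀, rfl, hi₀⟩ := hex
      obtain ⟨⟨i, rfl⟩, -⟩ := Nat.card_pos_iff.1 hm
      exact ⟨hs, i, rfl, (hG.2 s s₀ i i₀ hs hs₀).trans hi₀⟩
    · push Not at hex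
      exact Or.inr hex
  have hm : ∀ s k, (famOf D (sgn_cases s)).mult k = (famOf E (sgn_cases s)).mult k := fun s k =>
    mult_eq D E e he (sgn_cases s) k
  have hcontra : ∀ {x x' : isomGroup B} (G : IsoData B 1 ν x.1) (G' : IsoData B 1 ν x'.1) (e : (Fin N → F) ≃ₗ[F] (Fin N → F)),
      (∀ v, e (x.1 v) = x'.1 (e v)) → Uniform G →
      (∀ s k, (famOf G (sgn_cases s)).Bit k ↔ Single (1 : F) k ∧ 0 < (famOf G (sgn_cases s)).mult k) →
      (∀ s k, ¬(famOf G' (sgn_cases s)).Bit k) → False := by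
    intro x x' G G' e he hG hall hnone
    have hzero : ∀ s, (famOf G' (sgn_cases s)).dval = 1 := fun s => by
      obtain ⟨T, hT, hd⟩ := (famOf G' (sgn_cases s)).dval_eq
      rw [hd, show T = ∅ from Finset.eq_empty_of_forall_notMem fun k hk => hnone s k ((hT k).1 hk),
        Finset.sum_empty, pow_zero]
    have hfull : ∀ s, (famOf G (sgn_cases s)).dval = ν ^ (∑ i : Fin N, if Single (1 : F) ((i : ℕ) + 1) then
        ((i : ℕ) + 1) * (tupOf x i).rootMultiplicity (sgn F s) else 0) := fun s => by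
      obtain ⟨T, hT, hd⟩ := (famOf G (sgn_cases s)).dval_eq
      have hTe : T = (Finset.univ.filter fun i : Fin N => (famOf G (sgn_cases s)).Bit ((i : ℕ) + 1)).image
          fun i : Fin N => (i : ℕ) + 1 := by
        ext k
        simp only [hT, Finset.mem_image, Finset.mem_filter, Finset.mem_univ, true_and]
        constructor
        · intro hk
          obtain ⟨h0, h1⟩ := bit_range x G s k hk
          refine ⟨⟨k - 1, by omega⟩, ?_, by simp only; omega⟩
          simpa [Nat.sub_add_cancel h0] using hk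
        · rintro ⟨i, hi, rfl⟩
          exact hi
      rw [hd, hTe, Finset.sum_image fun i _ j _ h => Fin.ext (by omega), Finset.sum_filter]
      refine congrArg (ν ^ ·) (Finset.sum_congr rfl fun i _ => ?_)
      rw [tupOf, rootMultiplicity_tup x G (sgn_cases s)]
      by_cases hs : Single (1 : F) ((i : ℕ) + 1)
      · rw [if_pos hs]
        have := hG.1 s _ hs
        by_cases hb : (famOf G (sgn_cases s)).Bit ((i : ℕ) + 1)
        · have := Fam.mult_pos_of_bit _ hb
          rw [if_pos hb, show (famOf G (sgn_cases s)).mult ((i : ℕ) + 1) = 1 by omega, mul_one]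
        · have h0 : (famOf G (sgn_cases s)).mult ((i : ℕ) + 1) = 0 := by
            by_contra h0
            exact hb ((hall s _).2 ⟨hs, Nat.pos_of_ne_zero h0⟩)
          rw [if_neg hb, h0, mul_zero]
      · rw [if_neg hs, if_neg fun hb => hs hb.1]
    obtain ⟨t, ht⟩ := dval_square G G' e he
    rw [show (famOf G (c := (1 : F)) (Or.inl rfl)).dval = _ from hfull true,
      show (famOf G (c := (-1 : F)) (Or.inr rfl)).dval = _ from hfull false,
      show (famOf G' (c := (1 : F)) (Or.inl rfl)).dval = _ from hzero true,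
      show (famOf G' (c := (-1 : F)) (Or.inr rfl)).dval = _ from hzero false, mul_one, mul_one, ← pow_add,
      ← Finset.sum_add_distrib] at ht
    refine not_isSquare_pow G.nu ?_ ⟨t, ht⟩
    convert odd_support h2 hodd (isUTuple_of_uniform x G hG) using 1
    refine Finset.sum_congr rfl fun i _ => ?_
    split_ifs <;> ring
  rcases hbit D hU with hD | hD <;> rcases hbit E hU' with hE | hE
  · funext s i
    rw [Bool.eq_iff_iff, bitsOf_eq_true, bitsOf_eq_true, hD, hE, hm]
  · exact (hcontra D E e he hU hD hE).elim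
  · refine (hcontra E D e.symm (fun v => e.injective ?_) hU' hE hD).elim
    rw [he, e.apply_symm_apply, e.apply_symm_apply]
  · funext s i
    rw [Bool.eq_iff_iff, bitsOf_eq_true, bitsOf_eq_true]
    exact iff_of_false (hD _ _) (hE _ _)

/-- Split classes inject into tuples. -/
theorem exists_split_injection (h2 : (2 : F) ≠ 0) (hB : IsEta B 1) (hN : ∀ v, (∀ u, B u v = 0) → v = 0)
    (hodd : Odd N) :
    ∃ f : {C : ConjClasses (isomGroup B) //
        ∃ y, ConjClasses.mk y = C ∧ SplitIn (detOne B) (commutator (isomGroup B)) y} → {b : Fin N → F[X] // IsUTuple b},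
      Function.Injective f := by
  classical
  have hchar : ringChar F ≠ 2 := fun hc => by
    haveI := ringChar.of_eq hc
    exact h2 CharTwo.two_eq_zero
  obtain ⟨ν, hν⟩ := FiniteField.exists_nonsquare hchar
  have D : ∀ g : isomGroup B, IsoData B 1 ν g.1 := isoData_of h2 (Or.inl rfl) hν hB hN
  refine ⟨fun C => ⟨tupOf C.2.choose, isUTuple_of_uniform _ (D _)
    (uniform_of_split h2 hB hN (D _) C.2.choose_spec.2)⟩, fun C C' h => ?_⟩
  have ht : tupOf C.2.choose = tupOf C'.2.choose := congrArg Subtype.val h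
  refine Subtype.ext ?_
  rw [← C.2.choose_spec.1, ← C'.2.choose_spec.1, ConjClasses.mk_eq_mk_iff_isConj]
  exact isConj_of_label _ _ (D _) (D _) ht (label_eq_of_uniform h2 hodd _ _ (D _) (D _)
    (uniform_of_split h2 hB hN (D _) C.2.choose_spec.2) (uniform_of_split h2 hB hN (D _) C'.2.choose_spec.2) ht)

end CfsgLib.ClassNumberForm
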